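import Cfsg.Agent.Lib.H9.HN.TCPB.Chk
set_option Elab.async false
set_option autoImplicit false
set_option maxRecDepth 100000
set_option linter.all false
namespace H9.HN.TCPB
open H35.TC
theorem l_0 : cntB liveP 15 0 = 26878 := by
  have h : Nat.beq (cntB liveP 15 0) 26878 = true := by decide +kernel
  exact eqOfBeq h
theorem l_1 : cntB liveP 15 32768 = 19972 := by
  have h : Nat.beq (cntB liveP 15 32768) 19972 = true := by decide +kernel
  exact eqOfBeq h
theorem l_2 : cntB liveP 15 65536 = 16118 := by
  have h : Nat.beq (cntB liveP 15 65536) 16118 = true := by decide +kernel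
  exact eqOfBeq h
theorem l_3 : cntB liveP 15 98304 = 14024 := by
  have h : Nat.beq (cntB liveP 15 98304) 14024 = true := by decide +kernel
  exact eqOfBeq h
theorem l_4 : cntB liveP 15 131072 = 11620 := by
  have h : Nat.beq (cntB liveP 15 131072) 11620 = true := by decide +kernel
  exact eqOfBeq h
theorem l_5 : cntB liveP 15 163840 = 12658 := by
  have h : Nat.beq (cntB liveP 15 163840) 12658 = true := by decide +kernel
  exact eqOfBeq h
theorem l_6 : cntB liveP 15 196608 = 23411 := by
  have h : Nat.beq (cntB liveP 15 196608) 23411 = true := by decide +kernel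
  exact eqOfBeq h
end H9.HN.TCPB
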