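import Cfsg.Agent.Lib.H9.HN.TCPB.Chk
set_option Elab.async false
set_option autoImplicit false
set_option maxRecDepth 100000
set_option linter.all false
namespace H9.HN.TCPB
open H35.TC
theorem l_7 : cntB liveP 15 229376 = 1319 := by
  have h : Nat.beq (cntB liveP 15 229376) 1319 = true := by decide +kernel
  exact eqOfBeq h
end H9.HN.TCPB
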