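import Cfsg.Agent.Lib.H9.HN.TCPB.Chk
set_option Elab.async false
set_option autoImplicit false
set_option maxRecDepth 100000
set_option linter.all false
namespace H9.HN.TCPB
open H35.TC
theorem r_96 : allB chkP 10 98304 = true := by decide +kernel
theorem r_97 : allB chkP 10 99328 = true := by decide +kernel
theorem r_98 : allB chkP 10 100352 = true := by decide +kernel
theorem r_99 : allB chkP 10 101376 = true := by decide +kernel
theorem r_100 : allB chkP 10 102400 = true := by decide +kernel
theorem r_101 : allB chkP 10 103424 = true := by decide +kernel
theorem r_102 : allB chkP 10 104448 = true := by decide +kernel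
theorem r_103 : allB chkP 10 105472 = true := by decide +kernel
theorem r_104 : allB chkP 10 106496 = true := by decide +kernel
theorem r_105 : allB chkP 10 107520 = true := by decide +kernel
theorem r_106 : allB chkP 10 108544 = true := by decide +kernel
theorem r_107 : allB chkP 10 109568 = true := by decide +kernel
theorem r_108 : allB chkP 10 110592 = true := by decide +kernel
theorem r_109 : allB chkP 10 111616 = true := by decide +kernel
theorem r_110 : allB chkP 10 112640 = true := by decide +kernel
theorem r_111 : allB chkP 10 113664 = true := by decide +kernel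
theorem r_112 : allB chkP 10 114688 = true := by decide +kernel
theorem r_113 : allB chkP 10 115712 = true := by decide +kernel
theorem r_114 : allB chkP 10 116736 = true := by decide +kernel
theorem r_115 : allB chkP 10 117760 = true := by decide +kernel
theorem r_116 : allB chkP 10 118784 = true := by decide +kernel
theorem r_117 : allB chkP 10 119808 = true := by decide +kernel
theorem r_118 : allB chkP 10 120832 = true := by decide +kernel
theorem r_119 : allB chkP 10 121856 = true := by decide +kernel
theorem blk_4 : ∀ u, 98304 ≤ u → u < 122880 → chkP u = true := by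
  intro u h0 hu
  rcases Nat.lt_or_ge u 99328 with h | h
  · exact allB_spec _ _ _ r_96 u (by omega) (by omega)
  clear h0
  rename' h => h0
  rcases Nat.lt_or_ge u 100352 with h | h
  · exact allB_spec _ _ _ r_97 u (by omega) (by omega)
  clear h0
  rename' h => h0
  rcases Nat.lt_or_ge u 101376 with h | h
  · exact allB_spec _ _ _ r_98 u (by omega) (by omega)
  clear h0
  rename' h => h0
  rcases Nat.lt_or_ge u 102400 with h | h
  · exact allB_spec _ _ _ r_99 u (by omega) (by omega)
  clear h0
  rename' h => h0
  rcases Nat.lt_or_ge u 103424 with h | h
  · exact allB_spec _ _ _ r_100 u (by omega) (by omega)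
  clear h0
  rename' h => h0
  rcases Nat.lt_or_ge u 104448 with h | h
  · exact allB_spec _ _ _ r_101 u (by omega) (by omega)
  clear h0
  rename' h => h0
  rcases Nat.lt_or_ge u 105472 with h | h
  · exact allB_spec _ _ _ r_102 u (by omega) (by omega)
  clear h0
  rename' h => h0
  rcases Nat.lt_or_ge u 106496 with h | h
  · exact allB_spec _ _ _ r_103 u (by omega) (by omega)
  clear h0
  rename' h => h0
  rcases Nat.lt_or_ge u 107520 with h | h
  · exact allB_spec _ _ _ r_104 u (by omega) (by omega)
  clear h0
  rename' h => h0
  rcases Nat.lt_or_ge u 108544 with h | h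
  · exact allB_spec _ _ _ r_105 u (by omega) (by omega)
  clear h0
  rename' h => h0
  rcases Nat.lt_or_ge u 109568 with h | h
  · exact allB_spec _ _ _ r_106 u (by omega) (by omega)
  clear h0
  rename' h => h0
  rcases Nat.lt_or_ge u 110592 with h | h
  · exact allB_spec _ _ _ r_107 u (by omega) (by omega)
  clear h0
  rename' h => h0
  rcases Nat.lt_or_ge u 111616 with h | h
  · exact allB_spec _ _ _ r_108 u (by omega) (by omega)
  clear h0
  rename' h => h0
  rcases Nat.lt_or_ge u 112640 with h | h
  · exact allB_spec _ _ _ r_109 u (by omega) (by omega)
  clear h0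
  rename' h => h0
  rcases Nat.lt_or_ge u 113664 with h | h
  · exact allB_spec _ _ _ r_110 u (by omega) (by omega)
  clear h0
  rename' h => h0
  rcases Nat.lt_or_ge u 114688 with h | h
  · exact allB_spec _ _ _ r_111 u (by omega) (by omega)
  clear h0
  rename' h => h0
  rcases Nat.lt_or_ge u 115712 with h | h
  · exact allB_spec _ _ _ r_112 u (by omega) (by omega)
  clear h0
  rename' h => h0
  rcases Nat.lt_or_ge u 116736 with h | h
  · exact allB_spec _ _ _ r_113 u (by omega) (by omega)
  clear h0
  rename' h => h0
  rcases Nat.lt_or_ge u 117760 with h | h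
  · exact allB_spec _ _ _ r_114 u (by omega) (by omega)
  clear h0
  rename' h => h0
  rcases Nat.lt_or_ge u 118784 with h | h
  · exact allB_spec _ _ _ r_115 u (by omega) (by omega)
  clear h0
  rename' h => h0
  rcases Nat.lt_or_ge u 119808 with h | h
  · exact allB_spec _ _ _ r_116 u (by omega) (by omega)
  clear h0
  rename' h => h0
  rcases Nat.lt_or_ge u 120832 with h | h
  · exact allB_spec _ _ _ r_117 u (by omega) (by omega)
  clear h0
  rename' h => h0
  rcases Nat.lt_or_ge u 121856 with h | h
  · exact allB_spec _ _ _ r_118 u (by omega) (by omega)
  clear h0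
  rename' h => h0
  rcases Nat.lt_or_ge u 122880 with h | h
  · exact allB_spec _ _ _ r_119 u (by omega) (by omega)
  clear h0
  rename' h => h0
  omega
end H9.HN.TCPB
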