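import Cfsg.Agent.Lib.H9.HN.TCPB.Chk
set_option Elab.async false
set_option autoImplicit false
set_option maxRecDepth 100000
set_option linter.all false
namespace H9.HN.TCPB
open H35.TC
theorem r_120 : allB chkP 10 122880 = true := by decide +kernel
theorem r_121 : allB chkP 10 123904 = true := by decide +kernel
theorem r_122 : allB chkP 10 124928 = true := by decide +kernel
theorem r_123 : allB chkP 10 125952 = true := by decide +kernel
theorem r_124 : allB chkP 10 126976 = true := by decide +kernel
theorem r_125 : allB chkP 10 128000 = true := by decide +kernel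
theorem r_126 : allB chkP 10 129024 = true := by decide +kernel
theorem r_127 : allB chkP 10 130048 = true := by decide +kernel
theorem r_128 : allB chkP 10 131072 = true := by decide +kernel
theorem r_129 : allB chkP 10 132096 = true := by decide +kernel
theorem r_130 : allB chkP 10 133120 = true := by decide +kernel
theorem r_131 : allB chkP 10 134144 = true := by decide +kernel
theorem r_132 : allB chkP 10 135168 = true := by decide +kernel
theorem r_133 : allB chkP 10 136192 = true := by decide +kernel
theorem r_134 : allB chkP 10 137216 = true := by decide +kernel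
theorem r_135 : allB chkP 10 138240 = true := by decide +kernel
theorem r_136 : allB chkP 10 139264 = true := by decide +kernel
theorem r_137 : allB chkP 10 140288 = true := by decide +kernel
theorem r_138 : allB chkP 10 141312 = true := by decide +kernel
theorem r_139 : allB chkP 10 142336 = true := by decide +kernel
theorem r_140 : allB chkP 10 143360 = true := by decide +kernel
theorem r_141 : allB chkP 10 144384 = true := by decide +kernel
theorem r_142 : allB chkP 10 145408 = true := by decide +kernel
theorem r_143 : allB chkP 10 146432 = true := by decide +kernel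
theorem blk_5 : ∀ u, 122880 ≤ u → u < 147456 → chkP u = true := by
  intro u h0 hu
  rcases Nat.lt_or_ge u 123904 with h | h
  · exact allB_spec _ _ _ r_120 u (by omega) (by omega)
  clear h0
  rename' h => h0
  rcases Nat.lt_or_ge u 124928 with h | h
  · exact allB_spec _ _ _ r_121 u (by omega) (by omega)
  clear h0
  rename' h => h0
  rcases Nat.lt_or_ge u 125952 with h | h
  · exact allB_spec _ _ _ r_122 u (by omega) (by omega)
  clear h0
  rename' h => h0
  rcases Nat.lt_or_ge u 126976 with h | h
  · exact allB_spec _ _ _ r_123 u (by omega) (by omega)
  clear h0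
  rename' h => h0
  rcases Nat.lt_or_ge u 128000 with h | h
  · exact allB_spec _ _ _ r_124 u (by omega) (by omega)
  clear h0
  rename' h => h0
  rcases Nat.lt_or_ge u 129024 with h | h
  · exact allB_spec _ _ _ r_125 u (by omega) (by omega)
  clear h0
  rename' h => h0
  rcases Nat.lt_or_ge u 130048 with h | h
  · exact allB_spec _ _ _ r_126 u (by omega) (by omega)
  clear h0
  rename' h => h0
  rcases Nat.lt_or_ge u 131072 with h | h
  · exact allB_spec _ _ _ r_127 u (by omega) (by omega)
  clear h0
  rename' h => h0
  rcases Nat.lt_or_ge u 132096 with h | h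
  · exact allB_spec _ _ _ r_128 u (by omega) (by omega)
  clear h0
  rename' h => h0
  rcases Nat.lt_or_ge u 133120 with h | h
  · exact allB_spec _ _ _ r_129 u (by omega) (by omega)
  clear h0
  rename' h => h0
  rcases Nat.lt_or_ge u 134144 with h | h
  · exact allB_spec _ _ _ r_130 u (by omega) (by omega)
  clear h0
  rename' h => h0
  rcases Nat.lt_or_ge u 135168 with h | h
  · exact allB_spec _ _ _ r_131 u (by omega) (by omega)
  clear h0
  rename' h => h0
  rcases Nat.lt_or_ge u 136192 with h | h
  · exact allB_spec _ _ _ r_132 u (by omega) (by omega)
  clear h0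
  rename' h => h0
  rcases Nat.lt_or_ge u 137216 with h | h
  · exact allB_spec _ _ _ r_133 u (by omega) (by omega)
  clear h0
  rename' h => h0
  rcases Nat.lt_or_ge u 138240 with h | h
  · exact allB_spec _ _ _ r_134 u (by omega) (by omega)
  clear h0
  rename' h => h0
  rcases Nat.lt_or_ge u 139264 with h | h
  · exact allB_spec _ _ _ r_135 u (by omega) (by omega)
  clear h0
  rename' h => h0
  rcases Nat.lt_or_ge u 140288 with h | h
  · exact allB_spec _ _ _ r_136 u (by omega) (by omega)
  clear h0
  rename' h => h0
  rcases Nat.lt_or_ge u 141312 with h | h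
  · exact allB_spec _ _ _ r_137 u (by omega) (by omega)
  clear h0
  rename' h => h0
  rcases Nat.lt_or_ge u 142336 with h | h
  · exact allB_spec _ _ _ r_138 u (by omega) (by omega)
  clear h0
  rename' h => h0
  rcases Nat.lt_or_ge u 143360 with h | h
  · exact allB_spec _ _ _ r_139 u (by omega) (by omega)
  clear h0
  rename' h => h0
  rcases Nat.lt_or_ge u 144384 with h | h
  · exact allB_spec _ _ _ r_140 u (by omega) (by omega)
  clear h0
  rename' h => h0
  rcases Nat.lt_or_ge u 145408 with h | h
  · exact allB_spec _ _ _ r_141 u (by omega) (by omega)
  clear h0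
  rename' h => h0
  rcases Nat.lt_or_ge u 146432 with h | h
  · exact allB_spec _ _ _ r_142 u (by omega) (by omega)
  clear h0
  rename' h => h0
  rcases Nat.lt_or_ge u 147456 with h | h
  · exact allB_spec _ _ _ r_143 u (by omega) (by omega)
  clear h0
  rename' h => h0
  omega
end H9.HN.TCPB
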