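import Cfsg.Agent.Lib.H9.HN.TCPB.Chk
set_option Elab.async false
set_option autoImplicit false
set_option maxRecDepth 100000
set_option linter.all false
namespace H9.HN.TCPB
open H35.TC
theorem r_144 : allB chkP 10 147456 = true := by decide +kernel
theorem r_145 : allB chkP 10 148480 = true := by decide +kernel
theorem r_146 : allB chkP 10 149504 = true := by decide +kernel
theorem r_147 : allB chkP 10 150528 = true := by decide +kernel
theorem r_148 : allB chkP 10 151552 = true := by decide +kernel
theorem r_149 : allB chkP 10 152576 = true := by decide +kernel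
theorem r_150 : allB chkP 10 153600 = true := by decide +kernel
theorem r_151 : allB chkP 10 154624 = true := by decide +kernel
theorem r_152 : allB chkP 10 155648 = true := by decide +kernel
theorem r_153 : allB chkP 10 156672 = true := by decide +kernel
theorem r_154 : allB chkP 10 157696 = true := by decide +kernel
theorem r_155 : allB chkP 10 158720 = true := by decide +kernel
theorem r_156 : allB chkP 10 159744 = true := by decide +kernel
theorem r_157 : allB chkP 10 160768 = true := by decide +kernel
theorem r_158 : allB chkP 10 161792 = true := by decide +kernel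
theorem r_159 : allB chkP 10 162816 = true := by decide +kernel
theorem r_160 : allB chkP 10 163840 = true := by decide +kernel
theorem r_161 : allB chkP 10 164864 = true := by decide +kernel
theorem r_162 : allB chkP 10 165888 = true := by decide +kernel
theorem r_163 : allB chkP 10 166912 = true := by decide +kernel
theorem r_164 : allB chkP 10 167936 = true := by decide +kernel
theorem r_165 : allB chkP 10 168960 = true := by decide +kernel
theorem r_166 : allB chkP 10 169984 = true := by decide +kernel
theorem r_167 : allB chkP 10 171008 = true := by decide +kernel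
theorem blk_6 : ∀ u, 147456 ≤ u → u < 172032 → chkP u = true := by
  intro u h0 hu
  rcases Nat.lt_or_ge u 148480 with h | h
  · exact allB_spec _ _ _ r_144 u (by omega) (by omega)
  clear h0
  rename' h => h0
  rcases Nat.lt_or_ge u 149504 with h | h
  · exact allB_spec _ _ _ r_145 u (by omega) (by omega)
  clear h0
  rename' h => h0
  rcases Nat.lt_or_ge u 150528 with h | h
  · exact allB_spec _ _ _ r_146 u (by omega) (by omega)
  clear h0
  rename' h => h0
  rcases Nat.lt_or_ge u 151552 with h | h
  · exact allB_spec _ _ _ r_147 u (by omega) (by omega)
  clear h0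
  rename' h => h0
  rcases Nat.lt_or_ge u 152576 with h | h
  · exact allB_spec _ _ _ r_148 u (by omega) (by omega)
  clear h0
  rename' h => h0
  rcases Nat.lt_or_ge u 153600 with h | h
  · exact allB_spec _ _ _ r_149 u (by omega) (by omega)
  clear h0
  rename' h => h0
  rcases Nat.lt_or_ge u 154624 with h | h
  · exact allB_spec _ _ _ r_150 u (by omega) (by omega)
  clear h0
  rename' h => h0
  rcases Nat.lt_or_ge u 155648 with h | h
  · exact allB_spec _ _ _ r_151 u (by omega) (by omega)
  clear h0
  rename' h => h0
  rcases Nat.lt_or_ge u 156672 with h | h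
  · exact allB_spec _ _ _ r_152 u (by omega) (by omega)
  clear h0
  rename' h => h0
  rcases Nat.lt_or_ge u 157696 with h | h
  · exact allB_spec _ _ _ r_153 u (by omega) (by omega)
  clear h0
  rename' h => h0
  rcases Nat.lt_or_ge u 158720 with h | h
  · exact allB_spec _ _ _ r_154 u (by omega) (by omega)
  clear h0
  rename' h => h0
  rcases Nat.lt_or_ge u 159744 with h | h
  · exact allB_spec _ _ _ r_155 u (by omega) (by omega)
  clear h0
  rename' h => h0
  rcases Nat.lt_or_ge u 160768 with h | h
  · exact allB_spec _ _ _ r_156 u (by omega) (by omega)
  clear h0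
  rename' h => h0
  rcases Nat.lt_or_ge u 161792 with h | h
  · exact allB_spec _ _ _ r_157 u (by omega) (by omega)
  clear h0
  rename' h => h0
  rcases Nat.lt_or_ge u 162816 with h | h
  · exact allB_spec _ _ _ r_158 u (by omega) (by omega)
  clear h0
  rename' h => h0
  rcases Nat.lt_or_ge u 163840 with h | h
  · exact allB_spec _ _ _ r_159 u (by omega) (by omega)
  clear h0
  rename' h => h0
  rcases Nat.lt_or_ge u 164864 with h | h
  · exact allB_spec _ _ _ r_160 u (by omega) (by omega)
  clear h0
  rename' h => h0
  rcases Nat.lt_or_ge u 165888 with h | h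
  · exact allB_spec _ _ _ r_161 u (by omega) (by omega)
  clear h0
  rename' h => h0
  rcases Nat.lt_or_ge u 166912 with h | h
  · exact allB_spec _ _ _ r_162 u (by omega) (by omega)
  clear h0
  rename' h => h0
  rcases Nat.lt_or_ge u 167936 with h | h
  · exact allB_spec _ _ _ r_163 u (by omega) (by omega)
  clear h0
  rename' h => h0
  rcases Nat.lt_or_ge u 168960 with h | h
  · exact allB_spec _ _ _ r_164 u (by omega) (by omega)
  clear h0
  rename' h => h0
  rcases Nat.lt_or_ge u 169984 with h | h
  · exact allB_spec _ _ _ r_165 u (by omega) (by omega)
  clear h0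
  rename' h => h0
  rcases Nat.lt_or_ge u 171008 with h | h
  · exact allB_spec _ _ _ r_166 u (by omega) (by omega)
  clear h0
  rename' h => h0
  rcases Nat.lt_or_ge u 172032 with h | h
  · exact allB_spec _ _ _ r_167 u (by omega) (by omega)
  clear h0
  rename' h => h0
  omega
end H9.HN.TCPB
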