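import Cfsg.Agent.Lib.H9.HN.TCPB.Chk
set_option Elab.async false
set_option autoImplicit false
set_option maxRecDepth 100000
set_option linter.all false
namespace H9.HN.TCPB
open H35.TC
theorem r_192 : allB chkP 10 196608 = true := by decide +kernel
theorem r_193 : allB chkP 10 197632 = true := by decide +kernel
theorem r_194 : allB chkP 10 198656 = true := by decide +kernel
theorem r_195 : allB chkP 10 199680 = true := by decide +kernel
theorem r_196 : allB chkP 10 200704 = true := by decide +kernel
theorem r_197 : allB chkP 10 201728 = true := by decide +kernel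
theorem r_198 : allB chkP 10 202752 = true := by decide +kernel
theorem r_199 : allB chkP 10 203776 = true := by decide +kernel
theorem r_200 : allB chkP 10 204800 = true := by decide +kernel
theorem r_201 : allB chkP 10 205824 = true := by decide +kernel
theorem r_202 : allB chkP 10 206848 = true := by decide +kernel
theorem r_203 : allB chkP 10 207872 = true := by decide +kernel
theorem r_204 : allB chkP 10 208896 = true := by decide +kernel
theorem r_205 : allB chkP 10 209920 = true := by decide +kernel
theorem r_206 : allB chkP 10 210944 = true := by decide +kernel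
theorem r_207 : allB chkP 10 211968 = true := by decide +kernel
theorem r_208 : allB chkP 10 212992 = true := by decide +kernel
theorem r_209 : allB chkP 10 214016 = true := by decide +kernel
theorem r_210 : allB chkP 10 215040 = true := by decide +kernel
theorem r_211 : allB chkP 10 216064 = true := by decide +kernel
theorem r_212 : allB chkP 10 217088 = true := by decide +kernel
theorem r_213 : allB chkP 10 218112 = true := by decide +kernel
theorem r_214 : allB chkP 10 219136 = true := by decide +kernel
theorem r_215 : allB chkP 10 220160 = true := by decide +kernel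
theorem blk_8 : ∀ u, 196608 ≤ u → u < 221184 → chkP u = true := by
  intro u h0 hu
  rcases Nat.lt_or_ge u 197632 with h | h
  · exact allB_spec _ _ _ r_192 u (by omega) (by omega)
  clear h0
  rename' h => h0
  rcases Nat.lt_or_ge u 198656 with h | h
  · exact allB_spec _ _ _ r_193 u (by omega) (by omega)
  clear h0
  rename' h => h0
  rcases Nat.lt_or_ge u 199680 with h | h
  · exact allB_spec _ _ _ r_194 u (by omega) (by omega)
  clear h0
  rename' h => h0
  rcases Nat.lt_or_ge u 200704 with h | h
  · exact allB_spec _ _ _ r_195 u (by omega) (by omega)
  clear h0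
  rename' h => h0
  rcases Nat.lt_or_ge u 201728 with h | h
  · exact allB_spec _ _ _ r_196 u (by omega) (by omega)
  clear h0
  rename' h => h0
  rcases Nat.lt_or_ge u 202752 with h | h
  · exact allB_spec _ _ _ r_197 u (by omega) (by omega)
  clear h0
  rename' h => h0
  rcases Nat.lt_or_ge u 203776 with h | h
  · exact allB_spec _ _ _ r_198 u (by omega) (by omega)
  clear h0
  rename' h => h0
  rcases Nat.lt_or_ge u 204800 with h | h
  · exact allB_spec _ _ _ r_199 u (by omega) (by omega)
  clear h0
  rename' h => h0
  rcases Nat.lt_or_ge u 205824 with h | h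
  · exact allB_spec _ _ _ r_200 u (by omega) (by omega)
  clear h0
  rename' h => h0
  rcases Nat.lt_or_ge u 206848 with h | h
  · exact allB_spec _ _ _ r_201 u (by omega) (by omega)
  clear h0
  rename' h => h0
  rcases Nat.lt_or_ge u 207872 with h | h
  · exact allB_spec _ _ _ r_202 u (by omega) (by omega)
  clear h0
  rename' h => h0
  rcases Nat.lt_or_ge u 208896 with h | h
  · exact allB_spec _ _ _ r_203 u (by omega) (by omega)
  clear h0
  rename' h => h0
  rcases Nat.lt_or_ge u 209920 with h | h
  · exact allB_spec _ _ _ r_204 u (by omega) (by omega)
  clear h0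
  rename' h => h0
  rcases Nat.lt_or_ge u 210944 with h | h
  · exact allB_spec _ _ _ r_205 u (by omega) (by omega)
  clear h0
  rename' h => h0
  rcases Nat.lt_or_ge u 211968 with h | h
  · exact allB_spec _ _ _ r_206 u (by omega) (by omega)
  clear h0
  rename' h => h0
  rcases Nat.lt_or_ge u 212992 with h | h
  · exact allB_spec _ _ _ r_207 u (by omega) (by omega)
  clear h0
  rename' h => h0
  rcases Nat.lt_or_ge u 214016 with h | h
  · exact allB_spec _ _ _ r_208 u (by omega) (by omega)
  clear h0
  rename' h => h0
  rcases Nat.lt_or_ge u 215040 with h | h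
  · exact allB_spec _ _ _ r_209 u (by omega) (by omega)
  clear h0
  rename' h => h0
  rcases Nat.lt_or_ge u 216064 with h | h
  · exact allB_spec _ _ _ r_210 u (by omega) (by omega)
  clear h0
  rename' h => h0
  rcases Nat.lt_or_ge u 217088 with h | h
  · exact allB_spec _ _ _ r_211 u (by omega) (by omega)
  clear h0
  rename' h => h0
  rcases Nat.lt_or_ge u 218112 with h | h
  · exact allB_spec _ _ _ r_212 u (by omega) (by omega)
  clear h0
  rename' h => h0
  rcases Nat.lt_or_ge u 219136 with h | h
  · exact allB_spec _ _ _ r_213 u (by omega) (by omega)
  clear h0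
  rename' h => h0
  rcases Nat.lt_or_ge u 220160 with h | h
  · exact allB_spec _ _ _ r_214 u (by omega) (by omega)
  clear h0
  rename' h => h0
  rcases Nat.lt_or_ge u 221184 with h | h
  · exact allB_spec _ _ _ r_215 u (by omega) (by omega)
  clear h0
  rename' h => h0
  omega
end H9.HN.TCPB
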