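import Cfsg.Agent.Lib.H9.HN.TCPB.Chk
set_option Elab.async false
set_option autoImplicit false
set_option maxRecDepth 100000
set_option linter.all false
namespace H9.HN.TCPB
open H35.TC
theorem r_216 : allB chkP 10 221184 = true := by decide +kernel
theorem r_217 : allB chkP 10 222208 = true := by decide +kernel
theorem r_218 : allB chkP 10 223232 = true := by decide +kernel
theorem r_219 : allB chkP 10 224256 = true := by decide +kernel
theorem r_220 : allB chkP 10 225280 = true := by decide +kernel
theorem r_221 : allB chkP 10 226304 = true := by decide +kernel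
theorem r_222 : allB chkP 10 227328 = true := by decide +kernel
theorem r_223 : allB chkP 10 228352 = true := by decide +kernel
theorem r_224 : allB chkP 10 229376 = true := by decide +kernel
theorem r_225 : allB chkP 10 230400 = true := by decide +kernel
theorem blk_9 : ∀ u, 221184 ≤ u → u < 231424 → chkP u = true := by
  intro u h0 hu
  rcases Nat.lt_or_ge u 222208 with h | h
  · exact allB_spec _ _ _ r_216 u (by omega) (by omega)
  clear h0
  rename' h => h0
  rcases Nat.lt_or_ge u 223232 with h | h
  · exact allB_spec _ _ _ r_217 u (by omega) (by omega)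
  clear h0
  rename' h => h0
  rcases Nat.lt_or_ge u 224256 with h | h
  · exact allB_spec _ _ _ r_218 u (by omega) (by omega)
  clear h0
  rename' h => h0
  rcases Nat.lt_or_ge u 225280 with h | h
  · exact allB_spec _ _ _ r_219 u (by omega) (by omega)
  clear h0
  rename' h => h0
  rcases Nat.lt_or_ge u 226304 with h | h
  · exact allB_spec _ _ _ r_220 u (by omega) (by omega)
  clear h0
  rename' h => h0
  rcases Nat.lt_or_ge u 227328 with h | h
  · exact allB_spec _ _ _ r_221 u (by omega) (by omega)
  clear h0
  rename' h => h0
  rcases Nat.lt_or_ge u 228352 with h | h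
  · exact allB_spec _ _ _ r_222 u (by omega) (by omega)
  clear h0
  rename' h => h0
  rcases Nat.lt_or_ge u 229376 with h | h
  · exact allB_spec _ _ _ r_223 u (by omega) (by omega)
  clear h0
  rename' h => h0
  rcases Nat.lt_or_ge u 230400 with h | h
  · exact allB_spec _ _ _ r_224 u (by omega) (by omega)
  clear h0
  rename' h => h0
  rcases Nat.lt_or_ge u 231424 with h | h
  · exact allB_spec _ _ _ r_225 u (by omega) (by omega)
  clear h0
  rename' h => h0
  omega
end H9.HN.TCPB
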