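import Cfsg.Agent.Lib.H9.HN.TCPB.Data0
import Cfsg.Agent.Lib.H9.HN.TCPB.Data1
import Cfsg.Agent.Lib.H9.HN.TCPB.Data2
import Cfsg.Agent.Lib.H35.TC
set_option autoImplicit false
set_option maxRecDepth 100000
set_option linter.all false
namespace H9.HN.TCPB
open H35.TC
/-- letters -/
inductive Lt | x | xi | y | yi
  deriving DecidableEq
/-- inverse letter -/
def inv : Lt → Lt
  | .x => .xi
  | .xi => .x
  | .y => .yi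
  | .yi => .y
/-- table functions -/
noncomputable def T : Lt → ℕ → ℕ
  | .x => T_x
  | .xi => T_xi
  | .y => T_y
  | .yi => T_yi
/-- decoding of letter codes -/
def lt : ℕ → Lt
  | 0 => .x
  | 1 => .xi
  | 2 => .y
  | _ => .yi
/-- Coxeter matrix (0: no relation) -/
def mm : Lt → Lt → ℕ
  | _, _ => 0
/-- extra relators `w ^ n` -/
def extra : List (List Lt × ℕ) := [
  ([.y], 6),
  ([.x, .x, .y, .x, .x, .yi], 1),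
  ([.xi, .yi, .x, .y], 3),
  ([.x, .y], 8),
  ([.xi, .y, .y, .x, .y, .y, .y], 3),
  ([.x, .y, .x, .y, .y, .y], 4),
  ([.x, .xi], 1),
  ([.xi, .x], 1),
  ([.y, .yi], 1),
  ([.yi, .y], 1)]
/-- relators -/
def rels : List (List Lt) := mkRels [] mm extra
/-- subgroup words -/
def subs : List (List Lt) := [
  [.xi, .y, .y, .x],
  [.y, .y, .y]]
noncomputable def dp_x_0 (j u : ℕ) : Bool :=
  Bool.rec (motive := fun _ => Bool) (lS MG [T_xi] M (Nat.sub (T_x u) (Nat.mod (T_x u) M)) (nat_lit 40) (Nat.mod (T_x u) M) u) (lF [T_yi, T_xi, T_y, T_x, T_yi, T_xi, T_y, T_x, T_yi, T_xi, T_y] M (Nat.sub (T_x u) (Nat.mod (T_x u) M)) (Nat.mod (T_x u) M) u) (Nat.ble (nat_lit 8) j)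
noncomputable def dp_x_1 (j u : ℕ) : Bool :=
  Bool.rec (motive := fun _ => Bool) (lF [T_y, T_x, T_y, T_x, T_y, T_x, T_y, T_x, T_y, T_x, T_y, T_x, T_y, T_x, T_y] M (Nat.sub (T_x u) (Nat.mod (T_x u) M)) (Nat.mod (T_x u) M) u) (lS MG [T_y, T_x, T_y, T_x, T_y, T_x, T_y, T_x, T_y, T_x, T_y, T_x, T_y, T_x, T_y] M (Nat.sub (T_x u) (Nat.mod (T_x u) M)) (nat_lit 40) (Nat.mod (T_x u) M) u) (Nat.ble (nat_lit 11) j)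
noncomputable def dp_x_2 (j u : ℕ) : Bool :=
  Bool.rec (motive := fun _ => Bool) (lF [T_y, T_xi, T_yi, T_x, T_y, T_xi, T_yi, T_x, T_y, T_xi, T_yi] M (Nat.sub (T_x u) (Nat.mod (T_x u) M)) (Nat.mod (T_x u) M) u) (dp_x_1 j u) (Nat.ble (nat_lit 10) j)
noncomputable def dp_x_3 (j u : ℕ) : Bool :=
  Bool.rec (motive := fun _ => Bool) (lS MG [T_yi, T_xi, T_y, T_x, T_yi, T_xi, T_y, T_x, T_yi, T_xi, T_y] M (Nat.sub (T_x u) (Nat.mod (T_x u) M)) (nat_lit 40) (Nat.mod (T_x u) M) u) (lS MG [T_y, T_xi, T_yi, T_x, T_y, T_xi, T_yi, T_x, T_y, T_xi, T_yi] M (Nat.sub (T_x u) (Nat.mod (T_x u) M)) (nat_lit 40) (Nat.mod (T_x u) M) u) (Nat.ble (nat_lit 13) j)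
noncomputable def dp_x_4 (j u : ℕ) : Bool :=
  Bool.rec (motive := fun _ => Bool) (lF [T_y, T_x, T_y, T_y, T_y, T_x, T_y, T_x, T_y, T_y, T_y, T_x, T_y, T_x, T_y, T_y, T_y, T_x, T_y, T_x, T_y, T_y, T_y] M (Nat.sub (T_x u) (Nat.mod (T_x u) M)) (Nat.mod (T_x u) M) u) (lS MG [T_x, T_y, T_x, T_x, T_yi] M (Nat.sub (T_x u) (Nat.mod (T_x u) M)) (nat_lit 40) (Nat.mod (T_x u) M) u) (Nat.ble (nat_lit 16) j)
noncomputable def dp_x_5 (j u : ℕ) : Bool :=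
  Bool.rec (motive := fun _ => Bool) (lF [T_y, T_y, T_y, T_xi, T_y, T_y, T_x, T_y, T_y, T_y, T_xi, T_y, T_y, T_x, T_y, T_y, T_y, T_xi, T_y, T_y] M (Nat.sub (T_x u) (Nat.mod (T_x u) M)) (Nat.mod (T_x u) M) u) (dp_x_4 j u) (Nat.ble (nat_lit 15) j)
noncomputable def dp_x_6 (j u : ℕ) : Bool :=
  Bool.rec (motive := fun _ => Bool) (lS MG [T_yi, T_yi, T_yi, T_xi, T_yi, T_yi, T_x, T_yi, T_yi, T_yi, T_xi, T_yi, T_yi, T_x, T_yi, T_yi, T_yi, T_xi, T_yi, T_yi] M (Nat.sub (T_x u) (Nat.mod (T_x u) M)) (nat_lit 40) (Nat.mod (T_x u) M) u) (lS MG [T_y, T_y, T_y, T_xi, T_y, T_y, T_x, T_y, T_y, T_y, T_xi, T_y, T_y, T_x, T_y, T_y, T_y, T_xi, T_y, T_y] M (Nat.sub (T_x u) (Nat.mod (T_x u) M)) (nat_lit 40) (Nat.mod (T_x u) M) u) (Nat.ble (nat_lit 19) j)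
noncomputable def dp_x_7 (j u : ℕ) : Bool :=
  Bool.rec (motive := fun _ => Bool) (lF [T_yi, T_yi, T_yi, T_xi, T_yi, T_yi, T_x, T_yi, T_yi, T_yi, T_xi, T_yi, T_yi, T_x, T_yi, T_yi, T_yi, T_xi, T_yi, T_yi] M (Nat.sub (T_x u) (Nat.mod (T_x u) M)) (Nat.mod (T_x u) M) u) (dp_x_6 j u) (Nat.ble (nat_lit 18) j)
noncomputable def dp_x_8 (j u : ℕ) : Bool :=
  Bool.rec (motive := fun _ => Bool) (lS MG [T_x, T_yi, T_x, T_x, T_y] M (Nat.sub (T_x u) (Nat.mod (T_x u) M)) (nat_lit 40) (Nat.mod (T_x u) M) u) (lS MG [T_y, T_x, T_y, T_y, T_y, T_x, T_y, T_x, T_y, T_y, T_y, T_x, T_y, T_x, T_y, T_y, T_y, T_x, T_y, T_x, T_y, T_y, T_y] M (Nat.sub (T_x u) (Nat.mod (T_x u) M)) (nat_lit 40) (Nat.mod (T_x u) M) u) (Nat.ble (nat_lit 23) j)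
noncomputable def dp_x_9 (j u : ℕ) : Bool :=
  Bool.rec (motive := fun _ => Bool) (lS MG [T_yi, T_x, T_x, T_y, T_x] M (Nat.sub (T_x u) (Nat.mod (T_x u) M)) (nat_lit 40) (Nat.mod (T_x u) M) u) (lS MG [T_y, T_y, T_y, T_x, T_y, T_x, T_y, T_y, T_y, T_x, T_y, T_x, T_y, T_y, T_y, T_x, T_y, T_x, T_y, T_y, T_y, T_x, T_y] M (Nat.sub (T_x u) (Nat.mod (T_x u) M)) (nat_lit 40) (Nat.mod (T_x u) M) u) (Nat.ble (nat_lit 25) j)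
noncomputable def dp_x_10 (j u : ℕ) : Bool :=
  Bool.rec (motive := fun _ => Bool) (dp_x_8 j u) (dp_x_9 j u) (Nat.ble (nat_lit 24) j)
noncomputable def dp_x_11 (j u : ℕ) : Bool :=
  Bool.rec (motive := fun _ => Bool) (lF [T_y, T_y, T_y, T_x, T_y, T_x, T_y, T_y, T_y, T_x, T_y, T_x, T_y, T_y, T_y, T_x, T_y, T_x, T_y, T_y, T_y, T_x, T_y] M (Nat.sub (T_x u) (Nat.mod (T_x u) M)) (Nat.mod (T_x u) M) u) (dp_x_10 j u) (Nat.ble (nat_lit 22) j)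
noncomputable def dp_x_12 (j u : ℕ) : Bool :=
  Bool.rec (motive := fun _ => Bool) (lS MG [T_y, T_x, T_x, T_yi, T_x] M (Nat.sub (T_x u) (Nat.mod (T_x u) M)) (nat_lit 40) (Nat.mod (T_x u) M) u) (dp_x_11 j u) (Nat.ble (nat_lit 21) j)
noncomputable def dp_x_13 (j u : ℕ) : Bool :=
  Bool.rec (motive := fun _ => Bool) (dp_x_7 j u) (dp_x_12 j u) (Nat.ble (nat_lit 20) j)
noncomputable def dp_x_14 (j u : ℕ) : Bool :=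
  Bool.rec (motive := fun _ => Bool) (dp_x_5 j u) (dp_x_13 j u) (Nat.ble (nat_lit 17) j)
noncomputable def dp_x_15 (j u : ℕ) : Bool :=
  Bool.rec (motive := fun _ => Bool) (dp_x_3 j u) (dp_x_14 j u) (Nat.ble (nat_lit 14) j)
noncomputable def dp_x_16 (j u : ℕ) : Bool :=
  Bool.rec (motive := fun _ => Bool) (dp_x_2 j u) (dp_x_15 j u) (Nat.ble (nat_lit 12) j)
noncomputable def dp_x_17 (j u : ℕ) : Bool :=
  Bool.rec (motive := fun _ => Bool) (dp_x_0 j u) (dp_x_16 j u) (Nat.ble (nat_lit 9) j)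
noncomputable def dp_x_18 (j u : ℕ) : Bool :=
  Bool.rec (motive := fun _ => Bool) (lF [T_x, T_yi, T_x, T_x, T_y] M (Nat.sub (T_x u) (Nat.mod (T_x u) M)) (Nat.mod (T_x u) M) u) (dp_x_17 j u) (Nat.ble (nat_lit 7) j)
noncomputable def dp_x_19 (j u : ℕ) : Bool :=
  Bool.rec (motive := fun _ => Bool) (Bool.rec (motive := fun _ => Bool) (lF [T_yi, T_x, T_x, T_y, T_x] M (Nat.sub (T_x u) (Nat.mod (T_x u) M)) (Nat.mod (T_x u) M) u) (lF [T_x, T_y, T_x, T_x, T_yi] M (Nat.sub (T_x u) (Nat.mod (T_x u) M)) (Nat.mod (T_x u) M) u) (Nat.ble (nat_lit 5) j)) (dp_x_18 j u) (Nat.ble (nat_lit 6) j)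
noncomputable def disp_x (j u : ℕ) : Bool :=
  Bool.rec (motive := fun _ => Bool) (Bool.rec (motive := fun _ => Bool) (lDef P (nat_lit 0) (Nat.mod (T_x u) M) u) (lDef P (nat_lit 1) u (Nat.mod (T_x u) M)) (Nat.ble (nat_lit 1) j)) (Bool.rec (motive := fun _ => Bool) (Bool.rec (motive := fun _ => Bool) (lF1 T_xi M (Nat.sub (T_x u) (Nat.mod (T_x u) M)) (Nat.mod (T_x u) M) u) (lF [T_y, T_x, T_x, T_yi, T_x] M (Nat.sub (T_x u) (Nat.mod (T_x u) M)) (Nat.mod (T_x u) M) u) (Nat.ble (nat_lit 3) j)) (dp_x_19 j u) (Nat.ble (nat_lit 4) j)) (Nat.ble (nat_lit 2) j)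
noncomputable def chk_x (j u : ℕ) : Bool :=
  Bool.rec (motive := fun _ => Bool) (disp_x j u) (Nat.ble (Nat.succ (MG u)) A) (Nat.ble A (T_x u))
noncomputable def dp_xi_0 (j u : ℕ) : Bool :=
  Bool.rec (motive := fun _ => Bool) (lF [T_yi, T_xi, T_xi, T_y, T_xi] M (Nat.sub (T_xi u) (Nat.mod (T_xi u) M)) (Nat.mod (T_xi u) M) u) (lF [T_xi, T_yi, T_xi, T_xi, T_y] M (Nat.sub (T_xi u) (Nat.mod (T_xi u) M)) (Nat.mod (T_xi u) M) u) (Nat.ble (nat_lit 4) j)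
noncomputable def dp_xi_1 (j u : ℕ) : Bool :=
  Bool.rec (motive := fun _ => Bool) (lS MG [T_x] M (Nat.sub (T_xi u) (Nat.mod (T_xi u) M)) (nat_lit 40) (Nat.mod (T_xi u) M) u) (lF [T_yi, T_x, T_y, T_xi, T_yi, T_x, T_y, T_xi, T_yi, T_x, T_y] M (Nat.sub (T_xi u) (Nat.mod (T_xi u) M)) (Nat.mod (T_xi u) M) u) (Nat.ble (nat_lit 8) j)
noncomputable def dp_xi_2 (j u : ℕ) : Bool :=
  Bool.rec (motive := fun _ => Bool) (lF [T_y, T_x, T_yi, T_xi, T_y, T_x, T_yi, T_xi, T_y, T_x, T_yi] M (Nat.sub (T_xi u) (Nat.mod (T_xi u) M)) (Nat.mod (T_xi u) M) u) (lF [T_yi, T_xi, T_yi, T_xi, T_yi, T_xi, T_yi, T_xi, T_yi, T_xi, T_yi, T_xi, T_yi, T_xi, T_yi] M (Nat.sub (T_xi u) (Nat.mod (T_xi u) M)) (Nat.mod (T_xi u) M) u) (Nat.ble (nat_lit 10) j)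
noncomputable def dp_xi_3 (j u : ℕ) : Bool :=
  Bool.rec (motive := fun _ => Bool) (lS MG [T_y, T_x, T_yi, T_xi, T_y, T_x, T_yi, T_xi, T_y, T_x, T_yi] M (Nat.sub (T_xi u) (Nat.mod (T_xi u) M)) (nat_lit 40) (Nat.mod (T_xi u) M) u) (lS MG [T_yi, T_x, T_y, T_xi, T_yi, T_x, T_y, T_xi, T_yi, T_x, T_y] M (Nat.sub (T_xi u) (Nat.mod (T_xi u) M)) (nat_lit 40) (Nat.mod (T_xi u) M) u) (Nat.ble (nat_lit 12) j)
noncomputable def dp_xi_4 (j u : ℕ) : Bool :=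
  Bool.rec (motive := fun _ => Bool) (lS MG [T_yi, T_xi, T_yi, T_xi, T_yi, T_xi, T_yi, T_xi, T_yi, T_xi, T_yi, T_xi, T_yi, T_xi, T_yi] M (Nat.sub (T_xi u) (Nat.mod (T_xi u) M)) (nat_lit 40) (Nat.mod (T_xi u) M) u) (lF [T_y, T_y, T_x, T_y, T_y, T_y, T_xi, T_y, T_y, T_x, T_y, T_y, T_y, T_xi, T_y, T_y, T_x, T_y, T_y, T_y] M (Nat.sub (T_xi u) (Nat.mod (T_xi u) M)) (Nat.mod (T_xi u) M) u) (Nat.ble (nat_lit 14) j)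
noncomputable def dp_xi_5 (j u : ℕ) : Bool :=
  Bool.rec (motive := fun _ => Bool) (lS MG [T_yi, T_xi, T_xi, T_y, T_xi] M (Nat.sub (T_xi u) (Nat.mod (T_xi u) M)) (nat_lit 40) (Nat.mod (T_xi u) M) u) (lS MG [T_y, T_y, T_x, T_y, T_y, T_y, T_xi, T_y, T_y, T_x, T_y, T_y, T_y, T_xi, T_y, T_y, T_x, T_y, T_y, T_y] M (Nat.sub (T_xi u) (Nat.mod (T_xi u) M)) (nat_lit 40) (Nat.mod (T_xi u) M) u) (Nat.ble (nat_lit 17) j)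
noncomputable def dp_xi_6 (j u : ℕ) : Bool :=
  Bool.rec (motive := fun _ => Bool) (lS MG [T_xi, T_yi, T_xi, T_xi, T_y] M (Nat.sub (T_xi u) (Nat.mod (T_xi u) M)) (nat_lit 40) (Nat.mod (T_xi u) M) u) (dp_xi_5 j u) (Nat.ble (nat_lit 16) j)
noncomputable def dp_xi_7 (j u : ℕ) : Bool :=
  Bool.rec (motive := fun _ => Bool) (lS MG [T_yi, T_yi, T_x, T_yi, T_yi, T_yi, T_xi, T_yi, T_yi, T_x, T_yi, T_yi, T_yi, T_xi, T_yi, T_yi, T_x, T_yi, T_yi, T_yi] M (Nat.sub (T_xi u) (Nat.mod (T_xi u) M)) (nat_lit 40) (Nat.mod (T_xi u) M) u) (lF [T_yi, T_yi, T_x, T_yi, T_yi, T_yi, T_xi, T_yi, T_yi, T_x, T_yi, T_yi, T_yi, T_xi, T_yi, T_yi, T_x, T_yi, T_yi, T_yi] M (Nat.sub (T_xi u) (Nat.mod (T_xi u) M)) (Nat.mod (T_xi u) M) u) (Nat.ble (nat_lit 20) j)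
noncomputable def dp_xi_8 (j u : ℕ) : Bool :=
  Bool.rec (motive := fun _ => Bool) (lF [T_yi, T_xi, T_yi, T_yi, T_yi, T_xi, T_yi, T_xi, T_yi, T_yi, T_yi, T_xi, T_yi, T_xi, T_yi, T_yi, T_yi, T_xi, T_yi, T_xi, T_yi, T_yi, T_yi] M (Nat.sub (T_xi u) (Nat.mod (T_xi u) M)) (Nat.mod (T_xi u) M) u) (dp_xi_7 j u) (Nat.ble (nat_lit 19) j)
noncomputable def dp_xi_9 (j u : ℕ) : Bool :=
  Bool.rec (motive := fun _ => Bool) (lF [T_yi, T_yi, T_yi, T_xi, T_yi, T_xi, T_yi, T_yi, T_yi, T_xi, T_yi, T_xi, T_yi, T_yi, T_yi, T_xi, T_yi, T_xi, T_yi, T_yi, T_yi, T_xi, T_yi] M (Nat.sub (T_xi u) (Nat.mod (T_xi u) M)) (Nat.mod (T_xi u) M) u) (lS MG [T_y, T_xi, T_xi, T_yi, T_xi] M (Nat.sub (T_xi u) (Nat.mod (T_xi u) M)) (nat_lit 40) (Nat.mod (T_xi u) M) u) (Nat.ble (nat_lit 22) j)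
noncomputable def dp_xi_10 (j u : ℕ) : Bool :=
  Bool.rec (motive := fun _ => Bool) (lS MG [T_yi, T_xi, T_yi, T_yi, T_yi, T_xi, T_yi, T_xi, T_yi, T_yi, T_yi, T_xi, T_yi, T_xi, T_yi, T_yi, T_yi, T_xi, T_yi, T_xi, T_yi, T_yi, T_yi] M (Nat.sub (T_xi u) (Nat.mod (T_xi u) M)) (nat_lit 40) (Nat.mod (T_xi u) M) u) (lS MG [T_yi, T_yi, T_yi, T_xi, T_yi, T_xi, T_yi, T_yi, T_yi, T_xi, T_yi, T_xi, T_yi, T_yi, T_yi, T_xi, T_yi, T_xi, T_yi, T_yi, T_yi, T_xi, T_yi] M (Nat.sub (T_xi u) (Nat.mod (T_xi u) M)) (nat_lit 40) (Nat.mod (T_xi u) M) u) (Nat.ble (nat_lit 25) j)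
noncomputable def dp_xi_11 (j u : ℕ) : Bool :=
  Bool.rec (motive := fun _ => Bool) (lS MG [T_xi, T_y, T_xi, T_xi, T_yi] M (Nat.sub (T_xi u) (Nat.mod (T_xi u) M)) (nat_lit 40) (Nat.mod (T_xi u) M) u) (dp_xi_10 j u) (Nat.ble (nat_lit 24) j)
noncomputable def dp_xi_12 (j u : ℕ) : Bool :=
  Bool.rec (motive := fun _ => Bool) (dp_xi_9 j u) (dp_xi_11 j u) (Nat.ble (nat_lit 23) j)
noncomputable def dp_xi_13 (j u : ℕ) : Bool :=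
  Bool.rec (motive := fun _ => Bool) (dp_xi_8 j u) (dp_xi_12 j u) (Nat.ble (nat_lit 21) j)
noncomputable def dp_xi_14 (j u : ℕ) : Bool :=
  Bool.rec (motive := fun _ => Bool) (dp_xi_6 j u) (dp_xi_13 j u) (Nat.ble (nat_lit 18) j)
noncomputable def dp_xi_15 (j u : ℕ) : Bool :=
  Bool.rec (motive := fun _ => Bool) (dp_xi_4 j u) (dp_xi_14 j u) (Nat.ble (nat_lit 15) j)
noncomputable def dp_xi_16 (j u : ℕ) : Bool :=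
  Bool.rec (motive := fun _ => Bool) (dp_xi_3 j u) (dp_xi_15 j u) (Nat.ble (nat_lit 13) j)
noncomputable def dp_xi_17 (j u : ℕ) : Bool :=
  Bool.rec (motive := fun _ => Bool) (dp_xi_2 j u) (dp_xi_16 j u) (Nat.ble (nat_lit 11) j)
noncomputable def dp_xi_18 (j u : ℕ) : Bool :=
  Bool.rec (motive := fun _ => Bool) (dp_xi_1 j u) (dp_xi_17 j u) (Nat.ble (nat_lit 9) j)
noncomputable def dp_xi_19 (j u : ℕ) : Bool :=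
  Bool.rec (motive := fun _ => Bool) (lF [T_xi, T_y, T_xi, T_xi, T_yi] M (Nat.sub (T_xi u) (Nat.mod (T_xi u) M)) (Nat.mod (T_xi u) M) u) (dp_xi_18 j u) (Nat.ble (nat_lit 7) j)
noncomputable def dp_xi_20 (j u : ℕ) : Bool :=
  Bool.rec (motive := fun _ => Bool) (lF [T_y, T_xi, T_xi, T_yi, T_xi] M (Nat.sub (T_xi u) (Nat.mod (T_xi u) M)) (Nat.mod (T_xi u) M) u) (dp_xi_19 j u) (Nat.ble (nat_lit 6) j)
noncomputable def dp_xi_21 (j u : ℕ) : Bool :=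
  Bool.rec (motive := fun _ => Bool) (dp_xi_0 j u) (dp_xi_20 j u) (Nat.ble (nat_lit 5) j)
noncomputable def dp_xi_22 (j u : ℕ) : Bool :=
  Bool.rec (motive := fun _ => Bool) (lDef P (nat_lit 1) (Nat.mod (T_xi u) M) u) (dp_xi_21 j u) (Nat.ble (nat_lit 3) j)
noncomputable def disp_xi (j u : ℕ) : Bool :=
  Bool.rec (motive := fun _ => Bool) (Bool.rec (motive := fun _ => Bool) (lF1 T_x M (Nat.sub (T_xi u) (Nat.mod (T_xi u) M)) (Nat.mod (T_xi u) M) u) (lDef P (nat_lit 0) u (Nat.mod (T_xi u) M)) (Nat.ble (nat_lit 1) j)) (dp_xi_22 j u) (Nat.ble (nat_lit 2) j)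
noncomputable def chk_xi (j u : ℕ) : Bool :=
  Bool.rec (motive := fun _ => Bool) (disp_xi j u) (Nat.ble (Nat.succ (MG u)) A) (Nat.ble A (T_xi u))
noncomputable def dp_y_0 (j u : ℕ) : Bool :=
  Bool.rec (motive := fun _ => Bool) (lS MG [T_yi] M (Nat.sub (T_y u) (Nat.mod (T_y u) M)) (nat_lit 40) (Nat.mod (T_y u) M) u) (lF [T_xi, T_yi, T_x, T_y, T_xi, T_yi, T_x, T_y, T_xi, T_yi, T_x] M (Nat.sub (T_y u) (Nat.mod (T_y u) M)) (Nat.mod (T_y u) M) u) (Nat.ble (nat_lit 6) j)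
noncomputable def dp_y_1 (j u : ℕ) : Bool :=
  Bool.rec (motive := fun _ => Bool) (lF [T_x, T_x, T_yi, T_x, T_x] M (Nat.sub (T_y u) (Nat.mod (T_y u) M)) (Nat.mod (T_y u) M) u) (dp_y_0 j u) (Nat.ble (nat_lit 5) j)
noncomputable def dp_y_2 (j u : ℕ) : Bool :=
  Bool.rec (motive := fun _ => Bool) (lS MG [T_y, T_y, T_y, T_y, T_y] M (Nat.sub (T_y u) (Nat.mod (T_y u) M)) (nat_lit 40) (Nat.mod (T_y u) M) u) (lF [T_x, T_yi, T_xi, T_y, T_x, T_yi, T_xi, T_y, T_x, T_yi, T_xi] M (Nat.sub (T_y u) (Nat.mod (T_y u) M)) (Nat.mod (T_y u) M) u) (Nat.ble (nat_lit 8) j)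
noncomputable def dp_y_3 (j u : ℕ) : Bool :=
  Bool.rec (motive := fun _ => Bool) (lF [T_x, T_y, T_x, T_y, T_x, T_y, T_x, T_y, T_x, T_y, T_x, T_y, T_x, T_y, T_x] M (Nat.sub (T_y u) (Nat.mod (T_y u) M)) (Nat.mod (T_y u) M) u) (lS MG [T_xi, T_yi, T_x, T_y, T_xi, T_yi, T_x, T_y, T_xi, T_yi, T_x] M (Nat.sub (T_y u) (Nat.mod (T_y u) M)) (nat_lit 40) (Nat.mod (T_y u) M) u) (Nat.ble (nat_lit 11) j)
noncomputable def dp_y_4 (j u : ℕ) : Bool :=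
  Bool.rec (motive := fun _ => Bool) (lS MG [T_x, T_y, T_x, T_y, T_x, T_y, T_x, T_y, T_x, T_y, T_x, T_y, T_x, T_y, T_x] M (Nat.sub (T_y u) (Nat.mod (T_y u) M)) (nat_lit 40) (Nat.mod (T_y u) M) u) (dp_y_3 j u) (Nat.ble (nat_lit 10) j)
noncomputable def dp_y_5 (j u : ℕ) : Bool :=
  Bool.rec (motive := fun _ => Bool) (dp_y_2 j u) (dp_y_4 j u) (Nat.ble (nat_lit 9) j)
noncomputable def dp_y_6 (j u : ℕ) : Bool :=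
  Bool.rec (motive := fun _ => Bool) (lF [T_x, T_y, T_y, T_y, T_xi, T_y, T_y, T_x, T_y, T_y, T_y, T_xi, T_y, T_y, T_x, T_y, T_y, T_y, T_xi, T_y] M (Nat.sub (T_y u) (Nat.mod (T_y u) M)) (Nat.mod (T_y u) M) u) (lS MG [T_x, T_yi, T_xi, T_y, T_x, T_yi, T_xi, T_y, T_x, T_yi, T_xi] M (Nat.sub (T_y u) (Nat.mod (T_y u) M)) (nat_lit 40) (Nat.mod (T_y u) M) u) (Nat.ble (nat_lit 13) j)
noncomputable def dp_y_7 (j u : ℕ) : Bool :=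
  Bool.rec (motive := fun _ => Bool) (lF [T_y, T_x, T_y, T_y, T_y, T_xi, T_y, T_y, T_x, T_y, T_y, T_y, T_xi, T_y, T_y, T_x, T_y, T_y, T_y, T_xi] M (Nat.sub (T_y u) (Nat.mod (T_y u) M)) (Nat.mod (T_y u) M) u) (lF [T_y, T_xi, T_y, T_y, T_x, T_y, T_y, T_y, T_xi, T_y, T_y, T_x, T_y, T_y, T_y, T_xi, T_y, T_y, T_x, T_y] M (Nat.sub (T_y u) (Nat.mod (T_y u) M)) (Nat.mod (T_y u) M) u) (Nat.ble (nat_lit 15) j)
noncomputable def dp_y_8 (j u : ℕ) : Bool :=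
  Bool.rec (motive := fun _ => Bool) (dp_y_6 j u) (dp_y_7 j u) (Nat.ble (nat_lit 14) j)
noncomputable def dp_y_9 (j u : ℕ) : Bool :=
  Bool.rec (motive := fun _ => Bool) (lF [T_xi, T_y, T_y, T_x, T_y, T_y, T_y, T_xi, T_y, T_y, T_x, T_y, T_y, T_y, T_xi, T_y, T_y, T_x, T_y, T_y] M (Nat.sub (T_y u) (Nat.mod (T_y u) M)) (Nat.mod (T_y u) M) u) (lF [T_y, T_y, T_xi, T_y, T_y, T_x, T_y, T_y, T_y, T_xi, T_y, T_y, T_x, T_y, T_y, T_y, T_xi, T_y, T_y, T_x] M (Nat.sub (T_y u) (Nat.mod (T_y u) M)) (Nat.mod (T_y u) M) u) (Nat.ble (nat_lit 17) j)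
noncomputable def dp_y_10 (j u : ℕ) : Bool :=
  Bool.rec (motive := fun _ => Bool) (lF [T_y, T_x, T_y, T_x, T_y, T_y, T_y, T_x, T_y, T_x, T_y, T_y, T_y, T_x, T_y, T_x, T_y, T_y, T_y, T_x, T_y, T_x, T_y] M (Nat.sub (T_y u) (Nat.mod (T_y u) M)) (Nat.mod (T_y u) M) u) (lS MG [T_x, T_y, T_y, T_y, T_xi, T_y, T_y, T_x, T_y, T_y, T_y, T_xi, T_y, T_y, T_x, T_y, T_y, T_y, T_xi, T_y] M (Nat.sub (T_y u) (Nat.mod (T_y u) M)) (nat_lit 40) (Nat.mod (T_y u) M) u) (Nat.ble (nat_lit 20) j)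
noncomputable def dp_y_11 (j u : ℕ) : Bool :=
  Bool.rec (motive := fun _ => Bool) (lF [T_x, T_y, T_x, T_y, T_y, T_y, T_x, T_y, T_x, T_y, T_y, T_y, T_x, T_y, T_x, T_y, T_y, T_y, T_x, T_y, T_x, T_y, T_y] M (Nat.sub (T_y u) (Nat.mod (T_y u) M)) (Nat.mod (T_y u) M) u) (dp_y_10 j u) (Nat.ble (nat_lit 19) j)
noncomputable def dp_y_12 (j u : ℕ) : Bool :=
  Bool.rec (motive := fun _ => Bool) (dp_y_9 j u) (dp_y_11 j u) (Nat.ble (nat_lit 18) j)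
noncomputable def dp_y_13 (j u : ℕ) : Bool :=
  Bool.rec (motive := fun _ => Bool) (lS MG [T_y, T_xi, T_y, T_y, T_x, T_y, T_y, T_y, T_xi, T_y, T_y, T_x, T_y, T_y, T_y, T_xi, T_y, T_y, T_x, T_y] M (Nat.sub (T_y u) (Nat.mod (T_y u) M)) (nat_lit 40) (Nat.mod (T_y u) M) u) (lS MG [T_y, T_x, T_y, T_y, T_y, T_xi, T_y, T_y, T_x, T_y, T_y, T_y, T_xi, T_y, T_y, T_x, T_y, T_y, T_y, T_xi] M (Nat.sub (T_y u) (Nat.mod (T_y u) M)) (nat_lit 40) (Nat.mod (T_y u) M) u) (Nat.ble (nat_lit 23) j)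
noncomputable def dp_y_14 (j u : ℕ) : Bool :=
  Bool.rec (motive := fun _ => Bool) (lF [T_xi, T_xi, T_yi, T_xi, T_xi] M (Nat.sub (T_y u) (Nat.mod (T_y u) M)) (Nat.mod (T_y u) M) u) (dp_y_13 j u) (Nat.ble (nat_lit 22) j)
noncomputable def dp_y_15 (j u : ℕ) : Bool :=
  Bool.rec (motive := fun _ => Bool) (lS MG [T_xi, T_y, T_y, T_x, T_y, T_y, T_y, T_xi, T_y, T_y, T_x, T_y, T_y, T_y, T_xi, T_y, T_y, T_x, T_y, T_y] M (Nat.sub (T_y u) (Nat.mod (T_y u) M)) (nat_lit 40) (Nat.mod (T_y u) M) u) (lS MG [T_y, T_y, T_xi, T_y, T_y, T_x, T_y, T_y, T_y, T_xi, T_y, T_y, T_x, T_y, T_y, T_y, T_xi, T_y, T_y, T_x] M (Nat.sub (T_y u) (Nat.mod (T_y u) M)) (nat_lit 40) (Nat.mod (T_y u) M) u) (Nat.ble (nat_lit 25) j)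
noncomputable def dp_y_16 (j u : ℕ) : Bool :=
  Bool.rec (motive := fun _ => Bool) (lF [T_y, T_y, T_x, T_y, T_x, T_y, T_y, T_y, T_x, T_y, T_x, T_y, T_y, T_y, T_x, T_y, T_x, T_y, T_y, T_y, T_x, T_y, T_x] M (Nat.sub (T_y u) (Nat.mod (T_y u) M)) (Nat.mod (T_y u) M) u) (lF [T_x, T_y, T_y, T_y, T_x, T_y, T_x, T_y, T_y, T_y, T_x, T_y, T_x, T_y, T_y, T_y, T_x, T_y, T_x, T_y, T_y, T_y, T_x] M (Nat.sub (T_y u) (Nat.mod (T_y u) M)) (Nat.mod (T_y u) M) u) (Nat.ble (nat_lit 27) j)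
noncomputable def dp_y_17 (j u : ℕ) : Bool :=
  Bool.rec (motive := fun _ => Bool) (lS MG [T_x, T_x, T_yi, T_x, T_x] M (Nat.sub (T_y u) (Nat.mod (T_y u) M)) (nat_lit 40) (Nat.mod (T_y u) M) u) (lS MG [T_y, T_y, T_x, T_y, T_x, T_y, T_y, T_y, T_x, T_y, T_x, T_y, T_y, T_y, T_x, T_y, T_x, T_y, T_y, T_y, T_x, T_y, T_x] M (Nat.sub (T_y u) (Nat.mod (T_y u) M)) (nat_lit 40) (Nat.mod (T_y u) M) u) (Nat.ble (nat_lit 29) j)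
noncomputable def dp_y_18 (j u : ℕ) : Bool :=
  Bool.rec (motive := fun _ => Bool) (lH [T_xi, T_y] [T_xi] M (Nat.sub (T_y u) (Nat.mod (T_y u) M)) (Nat.mod (T_y u) M) u) (lH [T_y, T_y] [] M (Nat.sub (T_y u) (Nat.mod (T_y u) M)) (Nat.mod (T_y u) M) u) (Nat.ble (nat_lit 35) j)
noncomputable def dp_y_19 (j u : ℕ) : Bool :=
  Bool.rec (motive := fun _ => Bool) (lS MG [T_xi, T_xi, T_yi, T_xi, T_xi] M (Nat.sub (T_y u) (Nat.mod (T_y u) M)) (nat_lit 40) (Nat.mod (T_y u) M) u) (dp_y_18 j u) (Nat.ble (nat_lit 34) j)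
noncomputable def dp_y_20 (j u : ℕ) : Bool :=
  Bool.rec (motive := fun _ => Bool) (lS MG [T_y, T_x, T_y, T_x, T_y, T_y, T_y, T_x, T_y, T_x, T_y, T_y, T_y, T_x, T_y, T_x, T_y, T_y, T_y, T_x, T_y, T_x, T_y] M (Nat.sub (T_y u) (Nat.mod (T_y u) M)) (nat_lit 40) (Nat.mod (T_y u) M) u) (dp_y_19 j u) (Nat.ble (nat_lit 33) j)
noncomputable def dp_y_21 (j u : ℕ) : Bool :=
  Bool.rec (motive := fun _ => Bool) (lS MG [T_x, T_y, T_y, T_y, T_x, T_y, T_x, T_y, T_y, T_y, T_x, T_y, T_x, T_y, T_y, T_y, T_x, T_y, T_x, T_y, T_y, T_y, T_x] M (Nat.sub (T_y u) (Nat.mod (T_y u) M)) (nat_lit 40) (Nat.mod (T_y u) M) u) (dp_y_20 j u) (Nat.ble (nat_lit 32) j)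
noncomputable def dp_y_22 (j u : ℕ) : Bool :=
  Bool.rec (motive := fun _ => Bool) (lS MG [T_x, T_y, T_x, T_y, T_y, T_y, T_x, T_y, T_x, T_y, T_y, T_y, T_x, T_y, T_x, T_y, T_y, T_y, T_x, T_y, T_x, T_y, T_y] M (Nat.sub (T_y u) (Nat.mod (T_y u) M)) (nat_lit 40) (Nat.mod (T_y u) M) u) (dp_y_21 j u) (Nat.ble (nat_lit 31) j)
noncomputable def dp_y_23 (j u : ℕ) : Bool :=
  Bool.rec (motive := fun _ => Bool) (dp_y_17 j u) (dp_y_22 j u) (Nat.ble (nat_lit 30) j)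
noncomputable def dp_y_24 (j u : ℕ) : Bool :=
  Bool.rec (motive := fun _ => Bool) (dp_y_16 j u) (dp_y_23 j u) (Nat.ble (nat_lit 28) j)
noncomputable def dp_y_25 (j u : ℕ) : Bool :=
  Bool.rec (motive := fun _ => Bool) (dp_y_15 j u) (dp_y_24 j u) (Nat.ble (nat_lit 26) j)
noncomputable def dp_y_26 (j u : ℕ) : Bool :=
  Bool.rec (motive := fun _ => Bool) (dp_y_14 j u) (dp_y_25 j u) (Nat.ble (nat_lit 24) j)
noncomputable def dp_y_27 (j u : ℕ) : Bool :=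
  Bool.rec (motive := fun _ => Bool) (dp_y_12 j u) (dp_y_26 j u) (Nat.ble (nat_lit 21) j)
noncomputable def dp_y_28 (j u : ℕ) : Bool :=
  Bool.rec (motive := fun _ => Bool) (dp_y_8 j u) (dp_y_27 j u) (Nat.ble (nat_lit 16) j)
noncomputable def dp_y_29 (j u : ℕ) : Bool :=
  Bool.rec (motive := fun _ => Bool) (dp_y_5 j u) (dp_y_28 j u) (Nat.ble (nat_lit 12) j)
noncomputable def dp_y_30 (j u : ℕ) : Bool :=
  Bool.rec (motive := fun _ => Bool) (dp_y_1 j u) (dp_y_29 j u) (Nat.ble (nat_lit 7) j)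
noncomputable def dp_y_31 (j u : ℕ) : Bool :=
  Bool.rec (motive := fun _ => Bool) (lF1 T_yi M (Nat.sub (T_y u) (Nat.mod (T_y u) M)) (Nat.mod (T_y u) M) u) (dp_y_30 j u) (Nat.ble (nat_lit 4) j)
noncomputable def dp_y_32 (j u : ℕ) : Bool :=
  Bool.rec (motive := fun _ => Bool) (lF [T_y, T_y, T_y, T_y, T_y] M (Nat.sub (T_y u) (Nat.mod (T_y u) M)) (Nat.mod (T_y u) M) u) (dp_y_31 j u) (Nat.ble (nat_lit 3) j)
noncomputable def disp_y (j u : ℕ) : Bool :=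
  Bool.rec (motive := fun _ => Bool) (lDef P (nat_lit 2) (Nat.mod (T_y u) M) u) (Bool.rec (motive := fun _ => Bool) (lDef P (nat_lit 3) u (Nat.mod (T_y u) M)) (dp_y_32 j u) (Nat.ble (nat_lit 2) j)) (Nat.ble (nat_lit 1) j)
noncomputable def chk_y (j u : ℕ) : Bool :=
  Bool.rec (motive := fun _ => Bool) (disp_y j u) (Nat.ble (Nat.succ (MG u)) A) (Nat.ble A (T_y u))
noncomputable def dp_yi_0 (j u : ℕ) : Bool :=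
  Bool.rec (motive := fun _ => Bool) (lF [T_x, T_x, T_y, T_x, T_x] M (Nat.sub (T_yi u) (Nat.mod (T_yi u) M)) (Nat.mod (T_yi u) M) u) (lF [T_yi, T_yi, T_yi, T_yi, T_yi] M (Nat.sub (T_yi u) (Nat.mod (T_yi u) M)) (Nat.mod (T_yi u) M) u) (Nat.ble (nat_lit 4) j)
noncomputable def dp_yi_1 (j u : ℕ) : Bool :=
  Bool.rec (motive := fun _ => Bool) (lF [T_x, T_y, T_xi, T_yi, T_x, T_y, T_xi, T_yi, T_x, T_y, T_xi] M (Nat.sub (T_yi u) (Nat.mod (T_yi u) M)) (Nat.mod (T_yi u) M) u) (lS MG [T_yi, T_yi, T_yi, T_yi, T_yi] M (Nat.sub (T_yi u) (Nat.mod (T_yi u) M)) (nat_lit 40) (Nat.mod (T_yi u) M) u) (Nat.ble (nat_lit 7) j)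
noncomputable def dp_yi_2 (j u : ℕ) : Bool :=
  Bool.rec (motive := fun _ => Bool) (lS MG [T_y] M (Nat.sub (T_yi u) (Nat.mod (T_yi u) M)) (nat_lit 40) (Nat.mod (T_yi u) M) u) (dp_yi_1 j u) (Nat.ble (nat_lit 6) j)
noncomputable def dp_yi_3 (j u : ℕ) : Bool :=
  Bool.rec (motive := fun _ => Bool) (lS MG [T_xi, T_yi, T_xi, T_yi, T_xi, T_yi, T_xi, T_yi, T_xi, T_yi, T_xi, T_yi, T_xi, T_yi, T_xi] M (Nat.sub (T_yi u) (Nat.mod (T_yi u) M)) (nat_lit 40) (Nat.mod (T_yi u) M) u) (lF [T_xi, T_y, T_x, T_yi, T_xi, T_y, T_x, T_yi, T_xi, T_y, T_x] M (Nat.sub (T_yi u) (Nat.mod (T_yi u) M)) (Nat.mod (T_yi u) M) u) (Nat.ble (nat_lit 9) j)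
noncomputable def dp_yi_4 (j u : ℕ) : Bool :=
  Bool.rec (motive := fun _ => Bool) (lS MG [T_x, T_y, T_xi, T_yi, T_x, T_y, T_xi, T_yi, T_x, T_y, T_xi] M (Nat.sub (T_yi u) (Nat.mod (T_yi u) M)) (nat_lit 40) (Nat.mod (T_yi u) M) u) (lS MG [T_xi, T_y, T_x, T_yi, T_xi, T_y, T_x, T_yi, T_xi, T_y, T_x] M (Nat.sub (T_yi u) (Nat.mod (T_yi u) M)) (nat_lit 40) (Nat.mod (T_yi u) M) u) (Nat.ble (nat_lit 11) j)
noncomputable def dp_yi_5 (j u : ℕ) : Bool :=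
  Bool.rec (motive := fun _ => Bool) (dp_yi_3 j u) (dp_yi_4 j u) (Nat.ble (nat_lit 10) j)
noncomputable def dp_yi_6 (j u : ℕ) : Bool :=
  Bool.rec (motive := fun _ => Bool) (lF [T_xi, T_xi, T_y, T_xi, T_xi] M (Nat.sub (T_yi u) (Nat.mod (T_yi u) M)) (Nat.mod (T_yi u) M) u) (lF [T_yi, T_xi, T_yi, T_yi, T_x, T_yi, T_yi, T_yi, T_xi, T_yi, T_yi, T_x, T_yi, T_yi, T_yi, T_xi, T_yi, T_yi, T_x, T_yi] M (Nat.sub (T_yi u) (Nat.mod (T_yi u) M)) (Nat.mod (T_yi u) M) u) (Nat.ble (nat_lit 15) j)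
noncomputable def dp_yi_7 (j u : ℕ) : Bool :=
  Bool.rec (motive := fun _ => Bool) (lF [T_x, T_yi, T_yi, T_yi, T_xi, T_yi, T_yi, T_x, T_yi, T_yi, T_yi, T_xi, T_yi, T_yi, T_x, T_yi, T_yi, T_yi, T_xi, T_yi] M (Nat.sub (T_yi u) (Nat.mod (T_yi u) M)) (Nat.mod (T_yi u) M) u) (dp_yi_6 j u) (Nat.ble (nat_lit 14) j)
noncomputable def dp_yi_8 (j u : ℕ) : Bool :=
  Bool.rec (motive := fun _ => Bool) (lF [T_xi, T_yi, T_xi, T_yi, T_xi, T_yi, T_xi, T_yi, T_xi, T_yi, T_xi, T_yi, T_xi, T_yi, T_xi] M (Nat.sub (T_yi u) (Nat.mod (T_yi u) M)) (Nat.mod (T_yi u) M) u) (dp_yi_7 j u) (Nat.ble (nat_lit 13) j)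
noncomputable def dp_yi_9 (j u : ℕ) : Bool :=
  Bool.rec (motive := fun _ => Bool) (lF [T_yi, T_x, T_yi, T_yi, T_yi, T_xi, T_yi, T_yi, T_x, T_yi, T_yi, T_yi, T_xi, T_yi, T_yi, T_x, T_yi, T_yi, T_yi, T_xi] M (Nat.sub (T_yi u) (Nat.mod (T_yi u) M)) (Nat.mod (T_yi u) M) u) (lF [T_xi, T_yi, T_yi, T_x, T_yi, T_yi, T_yi, T_xi, T_yi, T_yi, T_x, T_yi, T_yi, T_yi, T_xi, T_yi, T_yi, T_x, T_yi, T_yi] M (Nat.sub (T_yi u) (Nat.mod (T_yi u) M)) (Nat.mod (T_yi u) M) u) (Nat.ble (nat_lit 17) j)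
noncomputable def dp_yi_10 (j u : ℕ) : Bool :=
  Bool.rec (motive := fun _ => Bool) (lF [T_yi, T_yi, T_xi, T_yi, T_yi, T_x, T_yi, T_yi, T_yi, T_xi, T_yi, T_yi, T_x, T_yi, T_yi, T_yi, T_xi, T_yi, T_yi, T_x] M (Nat.sub (T_yi u) (Nat.mod (T_yi u) M)) (Nat.mod (T_yi u) M) u) (lS MG [T_yi, T_xi, T_yi, T_yi, T_x, T_yi, T_yi, T_yi, T_xi, T_yi, T_yi, T_x, T_yi, T_yi, T_yi, T_xi, T_yi, T_yi, T_x, T_yi] M (Nat.sub (T_yi u) (Nat.mod (T_yi u) M)) (nat_lit 40) (Nat.mod (T_yi u) M) u) (Nat.ble (nat_lit 19) j)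
noncomputable def dp_yi_11 (j u : ℕ) : Bool :=
  Bool.rec (motive := fun _ => Bool) (dp_yi_9 j u) (dp_yi_10 j u) (Nat.ble (nat_lit 18) j)
noncomputable def dp_yi_12 (j u : ℕ) : Bool :=
  Bool.rec (motive := fun _ => Bool) (lF [T_xi, T_yi, T_xi, T_yi, T_yi, T_yi, T_xi, T_yi, T_xi, T_yi, T_yi, T_yi, T_xi, T_yi, T_xi, T_yi, T_yi, T_yi, T_xi, T_yi, T_xi, T_yi, T_yi] M (Nat.sub (T_yi u) (Nat.mod (T_yi u) M)) (Nat.mod (T_yi u) M) u) (lS MG [T_yi, T_x, T_yi, T_yi, T_yi, T_xi, T_yi, T_yi, T_x, T_yi, T_yi, T_yi, T_xi, T_yi, T_yi, T_x, T_yi, T_yi, T_yi, T_xi] M (Nat.sub (T_yi u) (Nat.mod (T_yi u) M)) (nat_lit 40) (Nat.mod (T_yi u) M) u) (Nat.ble (nat_lit 22) j)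
noncomputable def dp_yi_13 (j u : ℕ) : Bool :=
  Bool.rec (motive := fun _ => Bool) (lS MG [T_xi, T_yi, T_yi, T_x, T_yi, T_yi, T_yi, T_xi, T_yi, T_yi, T_x, T_yi, T_yi, T_yi, T_xi, T_yi, T_yi, T_x, T_yi, T_yi] M (Nat.sub (T_yi u) (Nat.mod (T_yi u) M)) (nat_lit 40) (Nat.mod (T_yi u) M) u) (dp_yi_12 j u) (Nat.ble (nat_lit 21) j)
noncomputable def dp_yi_14 (j u : ℕ) : Bool :=
  Bool.rec (motive := fun _ => Bool) (lS MG [T_x, T_yi, T_yi, T_yi, T_xi, T_yi, T_yi, T_x, T_yi, T_yi, T_yi, T_xi, T_yi, T_yi, T_x, T_yi, T_yi, T_yi, T_xi, T_yi] M (Nat.sub (T_yi u) (Nat.mod (T_yi u) M)) (nat_lit 40) (Nat.mod (T_yi u) M) u) (lS MG [T_yi, T_yi, T_xi, T_yi, T_yi, T_x, T_yi, T_yi, T_yi, T_xi, T_yi, T_yi, T_x, T_yi, T_yi, T_yi, T_xi, T_yi, T_yi, T_x] M (Nat.sub (T_yi u) (Nat.mod (T_yi u) M)) (nat_lit 40) (Nat.mod (T_yi u) M) u)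 (Nat.ble (nat_lit 24) j)
noncomputable def dp_yi_15 (j u : ℕ) : Bool :=
  Bool.rec (motive := fun _ => Bool) (lS MG [T_x, T_x, T_y, T_x, T_x] M (Nat.sub (T_yi u) (Nat.mod (T_yi u) M)) (nat_lit 40) (Nat.mod (T_yi u) M) u) (lF [T_yi, T_yi, T_xi, T_yi, T_xi, T_yi, T_yi, T_yi, T_xi, T_yi, T_xi, T_yi, T_yi, T_yi, T_xi, T_yi, T_xi, T_yi, T_yi, T_yi, T_xi, T_yi, T_xi] M (Nat.sub (T_yi u) (Nat.mod (T_yi u) M)) (Nat.mod (T_yi u) M) u) (Nat.ble (nat_lit 26) j)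
noncomputable def dp_yi_16 (j u : ℕ) : Bool :=
  Bool.rec (motive := fun _ => Bool) (lF [T_yi, T_xi, T_yi, T_xi, T_yi, T_yi, T_yi, T_xi, T_yi, T_xi, T_yi, T_yi, T_yi, T_xi, T_yi, T_xi, T_yi, T_yi, T_yi, T_xi, T_yi, T_xi, T_yi] M (Nat.sub (T_yi u) (Nat.mod (T_yi u) M)) (Nat.mod (T_yi u) M) u) (lF [T_xi, T_yi, T_yi, T_yi, T_xi, T_yi, T_xi, T_yi, T_yi, T_yi, T_xi, T_yi, T_xi, T_yi, T_yi, T_yi, T_xi, T_yi, T_xi, T_yi, T_yi, T_yi, T_xi] M (Nat.sub (T_yi u) (Nat.mod (T_yi u) M)) (Nat.mod (T_yi u) M) u) (Nat.ble (nat_lit 28) j)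
noncomputable def dp_yi_17 (j u : ℕ) : Bool :=
  Bool.rec (motive := fun _ => Bool) (lS MG [T_yi, T_xi, T_yi, T_xi, T_yi, T_yi, T_yi, T_xi, T_yi, T_xi, T_yi, T_yi, T_yi, T_xi, T_yi, T_xi, T_yi, T_yi, T_yi, T_xi, T_yi, T_xi, T_yi] M (Nat.sub (T_yi u) (Nat.mod (T_yi u) M)) (nat_lit 40) (Nat.mod (T_yi u) M) u) (lS MG [T_xi, T_yi, T_yi, T_yi, T_xi, T_yi, T_xi, T_yi, T_yi, T_yi, T_xi, T_yi, T_xi, T_yi, T_yi, T_yi, T_xi, T_yi, T_xi, T_yi, T_yi, T_yi, T_xi] M (Nat.sub (T_yi u) (Nat.mod (T_yi u) M)) (nat_lit 40) (Nat.mod (T_yi u) M) u) (Nat.ble (nat_lit 32) j)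
noncomputable def dp_yi_18 (j u : ℕ) : Bool :=
  Bool.rec (motive := fun _ => Bool) (lS MG [T_xi, T_yi, T_xi, T_yi, T_yi, T_yi, T_xi, T_yi, T_xi, T_yi, T_yi, T_yi, T_xi, T_yi, T_xi, T_yi, T_yi, T_yi, T_xi, T_yi, T_xi, T_yi, T_yi] M (Nat.sub (T_yi u) (Nat.mod (T_yi u) M)) (nat_lit 40) (Nat.mod (T_yi u) M) u) (dp_yi_17 j u) (Nat.ble (nat_lit 31) j)
noncomputable def dp_yi_19 (j u : ℕ) : Bool :=
  Bool.rec (motive := fun _ => Bool) (lS MG [T_yi, T_yi, T_xi, T_yi, T_xi, T_yi, T_yi, T_yi, T_xi, T_yi, T_xi, T_yi, T_yi, T_yi, T_xi, T_yi, T_xi, T_yi, T_yi, T_yi, T_xi, T_yi, T_xi] M (Nat.sub (T_yi u) (Nat.mod (T_yi u) M)) (nat_lit 40) (Nat.mod (T_yi u) M) u) (dp_yi_18 j u) (Nat.ble (nat_lit 30) j)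
noncomputable def dp_yi_20 (j u : ℕ) : Bool :=
  Bool.rec (motive := fun _ => Bool) (dp_yi_16 j u) (dp_yi_19 j u) (Nat.ble (nat_lit 29) j)
noncomputable def dp_yi_21 (j u : ℕ) : Bool :=
  Bool.rec (motive := fun _ => Bool) (dp_yi_15 j u) (dp_yi_20 j u) (Nat.ble (nat_lit 27) j)
noncomputable def dp_yi_22 (j u : ℕ) : Bool :=
  Bool.rec (motive := fun _ => Bool) (dp_yi_14 j u) (dp_yi_21 j u) (Nat.ble (nat_lit 25) j)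
noncomputable def dp_yi_23 (j u : ℕ) : Bool :=
  Bool.rec (motive := fun _ => Bool) (dp_yi_13 j u) (dp_yi_22 j u) (Nat.ble (nat_lit 23) j)
noncomputable def dp_yi_24 (j u : ℕ) : Bool :=
  Bool.rec (motive := fun _ => Bool) (dp_yi_11 j u) (dp_yi_23 j u) (Nat.ble (nat_lit 20) j)
noncomputable def dp_yi_25 (j u : ℕ) : Bool :=
  Bool.rec (motive := fun _ => Bool) (dp_yi_8 j u) (dp_yi_24 j u) (Nat.ble (nat_lit 16) j)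
noncomputable def dp_yi_26 (j u : ℕ) : Bool :=
  Bool.rec (motive := fun _ => Bool) (dp_yi_5 j u) (dp_yi_25 j u) (Nat.ble (nat_lit 12) j)
noncomputable def dp_yi_27 (j u : ℕ) : Bool :=
  Bool.rec (motive := fun _ => Bool) (dp_yi_2 j u) (dp_yi_26 j u) (Nat.ble (nat_lit 8) j)
noncomputable def dp_yi_28 (j u : ℕ) : Bool :=
  Bool.rec (motive := fun _ => Bool) (dp_yi_0 j u) (dp_yi_27 j u) (Nat.ble (nat_lit 5) j)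
noncomputable def dp_yi_29 (j u : ℕ) : Bool :=
  Bool.rec (motive := fun _ => Bool) (lF1 T_y M (Nat.sub (T_yi u) (Nat.mod (T_yi u) M)) (Nat.mod (T_yi u) M) u) (dp_yi_28 j u) (Nat.ble (nat_lit 3) j)
noncomputable def disp_yi (j u : ℕ) : Bool :=
  Bool.rec (motive := fun _ => Bool) (lDef P (nat_lit 2) u (Nat.mod (T_yi u) M)) (Bool.rec (motive := fun _ => Bool) (lDef P (nat_lit 3) (Nat.mod (T_yi u) M) u) (dp_yi_29 j u) (Nat.ble (nat_lit 2) j)) (Nat.ble (nat_lit 1) j)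
noncomputable def chk_yi (j u : ℕ) : Bool :=
  Bool.rec (motive := fun _ => Bool) (disp_yi j u) (Nat.ble (Nat.succ (MG u)) A) (Nat.ble A (T_yi u))
noncomputable def dM_0 (j z1 z2 u : ℕ) : Bool :=
  Bool.rec (motive := fun _ => Bool) (mCo MG T_y M (Nat.sub (MG u) (Nat.mod (MG u) M)) (nat_lit 40) z1 z2 u (Nat.mod (MG u) M)) (mCo MG T_yi M (Nat.sub (MG u) (Nat.mod (MG u) M)) (nat_lit 40) z1 z2 u (Nat.mod (MG u) M)) (Nat.ble (nat_lit 1) j)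
noncomputable def dM_1 (j z1 z2 u : ℕ) : Bool :=
  mCo MG T_x M (Nat.sub (MG u) (Nat.mod (MG u) M)) (nat_lit 40) z1 z2 u (Nat.mod (MG u) M)
noncomputable def dM_2 (j z1 z2 u : ℕ) : Bool :=
  mCo MG T_xi M (Nat.sub (MG u) (Nat.mod (MG u) M)) (nat_lit 40) z1 z2 u (Nat.mod (MG u) M)
noncomputable def dM_3 (j z1 z2 u : ℕ) : Bool :=
  Bool.rec (motive := fun _ => Bool) (Bool.rec (motive := fun _ => Bool) (mRel MG [T_y, T_x, T_x, T_yi] [T_xi, T_xi] M (Nat.sub (MG u) (Nat.mod (MG u) M)) (nat_lit 40) z1 u (Nat.mod (MG u) M)) (mRel MG [T_yi, T_x, T_x, T_y] [T_xi, T_xi] M (Nat.sub (MG u) (Nat.mod (MG u) M)) (nat_lit 40) z1 u (Nat.mod (MG u) M)) (Nat.ble (nat_lit 5) j)) (Bool.rec (motive := fun _ => Bool) (mRel MG [T_x, T_x] [T_y, T_xi, T_xi, T_yi] M (Nat.sub (MG u) (Nat.mod (MG u) M)) (nat_lit 40) z1 u (Nat.mod (MG u)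 M)) (mRel MG [T_x, T_x] [T_yi, T_xi, T_xi, T_y] M (Nat.sub (MG u) (Nat.mod (MG u) M)) (nat_lit 40) z1 u (Nat.mod (MG u) M)) (Nat.ble (nat_lit 7) j)) (Nat.ble (nat_lit 6) j)
noncomputable def dM_4 (j z1 z2 u : ℕ) : Bool :=
  Bool.rec (motive := fun _ => Bool) (Bool.rec (motive := fun _ => Bool) (mRel MG [T_yi, T_yi, T_yi, T_yi] [T_y, T_y] M (Nat.sub (MG u) (Nat.mod (MG u) M)) (nat_lit 40) z1 u (Nat.mod (MG u) M)) (mRel MG [T_y, T_y, T_y, T_y] [T_yi, T_yi] M (Nat.sub (MG u) (Nat.mod (MG u) M)) (nat_lit 40) z1 u (Nat.mod (MG u) M)) (Nat.ble (nat_lit 9) j)) (Bool.rec (motive := fun _ => Bool) (Bool.rec (motive := fun _ => Bool) (mRel MG [T_yi, T_yi, T_yi] [T_y, T_y, T_y] M (Nat.sub (MG u) (Nat.mod (MG u) M)) (nat_lit 40) z1 u (Nat.mod (MG u) M)) (mRel MG [T_y, T_y, T_y] [T_yi, T_yi, T_yi] M (Nat.sub (MG u) (Nat.mod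 (MG u) M)) (nat_lit 40) z1 u (Nat.mod (MG u) M)) (Nat.ble (nat_lit 11) j)) (Bool.rec (motive := fun _ => Bool) (mRel MG [T_y, T_y] [T_yi, T_yi, T_yi, T_yi] M (Nat.sub (MG u) (Nat.mod (MG u) M)) (nat_lit 40) z1 u (Nat.mod (MG u) M)) (mRel MG [T_yi, T_yi] [T_y, T_y, T_y, T_y] M (Nat.sub (MG u) (Nat.mod (MG u) M)) (nat_lit 40) z1 u (Nat.mod (MG u) M)) (Nat.ble (nat_lit 13) j)) (Nat.ble (nat_lit 12) j)) (Nat.ble (nat_lit 10) j)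
noncomputable def dM_5 (j z1 z2 u : ℕ) : Bool :=
  Bool.rec (motive := fun _ => Bool) (Bool.rec (motive := fun _ => Bool) (mRel MG [T_yi, T_x, T_y, T_xi, T_yi, T_x, T_y] [T_x, T_yi, T_xi, T_y, T_x] M (Nat.sub (MG u) (Nat.mod (MG u) M)) (nat_lit 40) z1 u (Nat.mod (MG u) M)) (Bool.rec (motive := fun _ => Bool) (mRel MG [T_y, T_xi, T_yi, T_x, T_y, T_xi, T_yi] [T_xi, T_y, T_x, T_yi, T_xi] M (Nat.sub (MG u) (Nat.mod (MG u) M)) (nat_lit 40) z1 u (Nat.mod (MG u) M)) (mRel MG [T_yi, T_x, T_y, T_xi, T_yi, T_x] [T_x, T_yi, T_xi, T_y, T_x, T_yi] M (Nat.sub (MG u) (Nat.mod (MG u) M)) (nat_lit 40) z1 u (Nat.mod (MG u) M)) (Nat.ble (nat_lit 16) j)) (Nat.ble (nat_lit 15) j)) (Bool.rec (motive := fun _ => Bool) (Bool.rec (motive := fun _ => Bool) (mRel MG [T_y, T_xi, T_yi, T_x, T_y] [T_xi, T_y, T_x, T_yi, T_xi, T_y, T_x] M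 (Nat.sub (MG u) (Nat.mod (MG u) M)) (nat_lit 40) z1 u (Nat.mod (MG u) M)) (mRel MG [T_y, T_xi, T_yi, T_x, T_y, T_xi, T_yi, T_x] [T_xi, T_y, T_x, T_yi] M (Nat.sub (MG u) (Nat.mod (MG u) M)) (nat_lit 40) z1 u (Nat.mod (MG u) M)) (Nat.ble (nat_lit 18) j)) (Bool.rec (motive := fun _ => Bool) (mRel MG [T_x, T_yi, T_xi, T_y, T_x, T_yi, T_xi, T_y] [T_yi, T_x, T_y, T_xi] M (Nat.sub (MG u) (Nat.mod (MG u) M)) (nat_lit 40) z1 u (Nat.mod (MG u) M)) (mRel MG [T_yi, T_x, T_y, T_xi, T_yi, T_x, T_y, T_xi] [T_x, T_yi, T_xi, T_y] M (Nat.sub (MG u) (Nat.mod (MG u) M)) (nat_lit 40) z1 u (Nat.mod (MG u) M)) (Nat.ble (nat_lit 20) j)) (Nat.ble (nat_lit 19) j)) (Nat.ble (nat_lit 17) j)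
noncomputable def dM_6 (j z1 z2 u : ℕ) : Bool :=
  Bool.rec (motive := fun _ => Bool) (Bool.rec (motive := fun _ => Bool) (Bool.rec (motive := fun _ => Bool) (mRel MG [T_x, T_yi, T_xi, T_y, T_x, T_yi] [T_yi, T_x, T_y, T_xi, T_yi, T_x] M (Nat.sub (MG u) (Nat.mod (MG u) M)) (nat_lit 40) z1 u (Nat.mod (MG u) M)) (mRel MG [T_y, T_xi, T_yi, T_x, T_y, T_xi, T_yi, T_x, T_y] [T_xi, T_y, T_x] M (Nat.sub (MG u) (Nat.mod (MG u) M)) (nat_lit 40) z1 u (Nat.mod (MG u) M)) (Nat.ble (nat_lit 22) j)) (Bool.rec (motive := fun _ => Bool) (mRel MG [T_yi, T_xi, T_yi, T_xi, T_yi, T_xi, T_yi, T_xi, T_yi] [T_x, T_y, T_x, T_y, T_x, T_y, T_x] M (Nat.sub (MG u) (Nat.mod (MG u) M)) (nat_lit 40) z1 u (Nat.mod (MG u) M)) (mRel MG [T_y, T_x, T_y, T_x, T_y, T_x, T_y, T_x, T_y] [T_xi, T_yi, T_xi, T_yi, T_xi, T_yi, T_xi] M (Nat.sub (MG u) (Nat.mod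 (MG u) M)) (nat_lit 40) z1 u (Nat.mod (MG u) M)) (Nat.ble (nat_lit 24) j)) (Nat.ble (nat_lit 23) j)) (Bool.rec (motive := fun _ => Bool) (Bool.rec (motive := fun _ => Bool) (mRel MG [T_y, T_xi, T_yi, T_x, T_y, T_xi] [T_xi, T_y, T_x, T_yi, T_xi, T_y] M (Nat.sub (MG u) (Nat.mod (MG u) M)) (nat_lit 40) z1 u (Nat.mod (MG u) M)) (mRel MG [T_x, T_yi, T_xi, T_y, T_x, T_yi, T_xi] [T_yi, T_x, T_y, T_xi, T_yi] M (Nat.sub (MG u) (Nat.mod (MG u) M)) (nat_lit 40) z1 u (Nat.mod (MG u) M)) (Nat.ble (nat_lit 26) j)) (Bool.rec (motive := fun _ => Bool) (mRel MG [T_x, T_y, T_xi, T_yi, T_x, T_y, T_xi] [T_y, T_x, T_yi, T_xi, T_y] M (Nat.sub (MG u) (Nat.mod (MG u) M)) (nat_lit 40) z1 u (Nat.mod (MG u) M)) (mRel MG [T_x, T_y, T_xi, T_yi, T_x, T_y, T_xi, T_yi] [T_y, T_x, T_yi, T_xi] M (Nat.sub (MG u) (Nat.mod (MG u) M)) (nat_lit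 40) z1 u (Nat.mod (MG u) M)) (Nat.ble (nat_lit 28) j)) (Nat.ble (nat_lit 27) j)) (Nat.ble (nat_lit 25) j)
noncomputable def dM_7 (j z1 z2 u : ℕ) : Bool :=
  Bool.rec (motive := fun _ => Bool) (dM_5 j z1 z2 u) (dM_6 j z1 z2 u) (Nat.ble (nat_lit 21) j)
noncomputable def dM_8 (j z1 z2 u : ℕ) : Bool :=
  Bool.rec (motive := fun _ => Bool) (dM_4 j z1 z2 u) (dM_7 j z1 z2 u) (Nat.ble (nat_lit 14) j)
noncomputable def dM_9 (j z1 z2 u : ℕ) : Bool :=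
  Bool.rec (motive := fun _ => Bool) (dM_3 j z1 z2 u) (dM_8 j z1 z2 u) (Nat.ble (nat_lit 8) j)
noncomputable def dM_10 (j z1 z2 u : ℕ) : Bool :=
  Bool.rec (motive := fun _ => Bool) (Bool.rec (motive := fun _ => Bool) (Bool.rec (motive := fun _ => Bool) (mRel MG [T_yi, T_x, T_y, T_xi, T_yi] [T_x, T_yi, T_xi, T_y, T_x, T_yi, T_xi] M (Nat.sub (MG u) (Nat.mod (MG u) M)) (nat_lit 40) z1 u (Nat.mod (MG u) M)) (mRel MG [T_x, T_y, T_xi, T_yi, T_x, T_y] [T_y, T_x, T_yi, T_xi, T_y, T_x] M (Nat.sub (MG u) (Nat.mod (MG u) M)) (nat_lit 40) z1 u (Nat.mod (MG u) M)) (Nat.ble (nat_lit 30) j)) (Bool.rec (motive := fun _ => Bool) (mRel MG [T_y, T_xi, T_yi, T_x] [T_xi, T_y, T_x, T_yi, T_xi, T_y, T_x, T_yi] M (Nat.sub (MG u) (Nat.mod (MG u) M)) (nat_lit 40) z1 u (Nat.mod (MG u) M)) (Bool.rec (motive := fun _ => Bool) (mRel MG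 [T_y, T_x, T_yi, T_xi, T_y, T_x, T_yi] [T_x, T_y, T_xi, T_yi, T_x] M (Nat.sub (MG u) (Nat.mod (MG u) M)) (nat_lit 40) z1 u (Nat.mod (MG u) M)) (mRel MG [T_x, T_y, T_xi, T_yi, T_x] [T_y, T_x, T_yi, T_xi, T_y, T_x, T_yi] M (Nat.sub (MG u) (Nat.mod (MG u) M)) (nat_lit 40) z1 u (Nat.mod (MG u) M)) (Nat.ble (nat_lit 33) j)) (Nat.ble (nat_lit 32) j)) (Nat.ble (nat_lit 31) j)) (Bool.rec (motive := fun _ => Bool) (Bool.rec (motive := fun _ => Bool) (mRel MG [T_yi, T_x, T_y, T_xi, T_yi, T_x, T_y, T_xi, T_yi] [T_x, T_yi, T_xi] M (Nat.sub (MG u) (Nat.mod (MG u) M)) (nat_lit 40) z1 u (Nat.mod (MG u) M)) (mRel MG [T_y, T_xi, T_yi, T_x, T_y, T_xi, T_yi, T_x, T_y, T_xi] [T_xi, T_y] M (Nat.sub (MG u) (Nat.mod (MG u) M)) (nat_lit 40) z1 u (Nat.mod (MG u) M)) (Nat.ble (nat_lit 35) j)) (Bool.rec (motive := fun _ => Bool) (mRel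 MG [T_yi, T_x, T_y, T_xi] [T_x, T_yi, T_xi, T_y, T_x, T_yi, T_xi, T_y] M (Nat.sub (MG u) (Nat.mod (MG u) M)) (nat_lit 40) z1 u (Nat.mod (MG u) M)) (Bool.rec (motive := fun _ => Bool) (mRel MG [T_x, T_yi, T_xi, T_y, T_x] [T_yi, T_x, T_y, T_xi, T_yi, T_x, T_y] M (Nat.sub (MG u) (Nat.mod (MG u) M)) (nat_lit 40) z1 u (Nat.mod (MG u) M)) (mRel MG [T_y, T_x, T_y, T_x, T_y, T_x, T_y, T_x, T_y, T_x] [T_xi, T_yi, T_xi, T_yi, T_xi, T_yi] M (Nat.sub (MG u) (Nat.mod (MG u) M)) (nat_lit 40) z1 u (Nat.mod (MG u) M)) (Nat.ble (nat_lit 38) j)) (Nat.ble (nat_lit 37) j)) (Nat.ble (nat_lit 36) j)) (Nat.ble (nat_lit 34) j)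
noncomputable def dM_11 (j z1 z2 u : ℕ) : Bool :=
  Bool.rec (motive := fun _ => Bool) (Bool.rec (motive := fun _ => Bool) (Bool.rec (motive := fun _ => Bool) (mRel MG [T_yi, T_xi, T_y, T_x, T_yi, T_xi, T_y] [T_xi, T_yi, T_x, T_y, T_xi] M (Nat.sub (MG u) (Nat.mod (MG u) M)) (nat_lit 40) z1 u (Nat.mod (MG u) M)) (mRel MG [T_y, T_x, T_y, T_x, T_y, T_x, T_y, T_x, T_y, T_x, T_y, T_x, T_y] [T_xi, T_yi, T_xi] M (Nat.sub (MG u) (Nat.mod (MG u) M)) (nat_lit 40) z1 u (Nat.mod (MG u) M)) (Nat.ble (nat_lit 40) j)) (Bool.rec (motive := fun _ => Bool) (mRel MG [T_x, T_y, T_x, T_y, T_x, T_y, T_x, T_y, T_x, T_y, T_x] [T_yi, T_xi, T_yi, T_xi, T_yi] M (Nat.sub (MG u) (Nat.mod (MG u) M)) (nat_lit 40) z1 u (Nat.mod (MG u) M)) (Bool.rec (motive := fun _ => Bool) (mRel MG [T_xi, T_yi, T_xi, T_yi, T_xi, T_yi, T_xi, T_yi] [T_y, T_x,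 T_y, T_x, T_y, T_x, T_y, T_x] M (Nat.sub (MG u) (Nat.mod (MG u) M)) (nat_lit 40) z1 u (Nat.mod (MG u) M)) (mRel MG [T_yi, T_xi, T_yi, T_xi, T_yi, T_xi] [T_x, T_y, T_x, T_y, T_x, T_y, T_x, T_y, T_x, T_y] M (Nat.sub (MG u) (Nat.mod (MG u) M)) (nat_lit 40) z1 u (Nat.mod (MG u) M)) (Nat.ble (nat_lit 43) j)) (Nat.ble (nat_lit 42) j)) (Nat.ble (nat_lit 41) j)) (Bool.rec (motive := fun _ => Bool) (Bool.rec (motive := fun _ => Bool) (mRel MG [T_x, T_y, T_x, T_y, T_x, T_y, T_x, T_y, T_x, T_y] [T_yi, T_xi, T_yi, T_xi, T_yi, T_xi] M (Nat.sub (MG u) (Nat.mod (MG u) M)) (nat_lit 40) z1 u (Nat.mod (MG u) M)) (Bool.rec (motive := fun _ => Bool) (mRel MG [T_y, T_x, T_y, T_x, T_y, T_x] [T_xi, T_yi, T_xi, T_yi, T_xi, T_yi, T_xi, T_yi, T_xi, T_yi] M (Nat.sub (MG u) (Nat.mod (MG u) M)) (nat_lit 40) z1 u (Nat.mod (MG u) M)) (mRel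 MG [T_x, T_y, T_xi, T_yi] [T_y, T_x, T_yi, T_xi, T_y, T_x, T_yi, T_xi] M (Nat.sub (MG u) (Nat.mod (MG u) M)) (nat_lit 40) z1 u (Nat.mod (MG u) M)) (Nat.ble (nat_lit 46) j)) (Nat.ble (nat_lit 45) j)) (Bool.rec (motive := fun _ => Bool) (mRel MG [T_yi, T_xi, T_yi, T_xi, T_yi, T_xi, T_yi, T_xi, T_yi, T_xi] [T_x, T_y, T_x, T_y, T_x, T_y] M (Nat.sub (MG u) (Nat.mod (MG u) M)) (nat_lit 40) z1 u (Nat.mod (MG u) M)) (Bool.rec (motive := fun _ => Bool) (mRel MG [T_y, T_x, T_y, T_x, T_y, T_x, T_y, T_x, T_y, T_x, T_y] [T_xi, T_yi, T_xi, T_yi, T_xi] M (Nat.sub (MG u) (Nat.mod (MG u) M)) (nat_lit 40) z1 u (Nat.mod (MG u) M)) (mRel MG [T_x, T_yi, T_xi, T_y] [T_yi, T_x, T_y, T_xi, T_yi, T_x, T_y, T_xi] M (Nat.sub (MG u) (Nat.mod (MG u) M)) (nat_lit 40) z1 u (Nat.mod (MG u) M)) (Nat.ble (nat_lit 49) j)) (Nat.ble (nat_lit 48)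 j)) (Nat.ble (nat_lit 47) j)) (Nat.ble (nat_lit 44) j)
noncomputable def dM_12 (j z1 z2 u : ℕ) : Bool :=
  Bool.rec (motive := fun _ => Bool) (dM_10 j z1 z2 u) (dM_11 j z1 z2 u) (Nat.ble (nat_lit 39) j)
noncomputable def dM_13 (j z1 z2 u : ℕ) : Bool :=
  Bool.rec (motive := fun _ => Bool) (Bool.rec (motive := fun _ => Bool) (mRel MG [T_xi, T_yi, T_xi, T_yi, T_xi, T_yi, T_xi, T_yi, T_xi, T_yi, T_xi] [T_y, T_x, T_y, T_x, T_y] M (Nat.sub (MG u) (Nat.mod (MG u) M)) (nat_lit 40) z1 u (Nat.mod (MG u) M)) (Bool.rec (motive := fun _ => Bool) (mRel MG [T_y, T_x, T_y, T_x, T_y, T_x, T_y] [T_xi, T_yi, T_xi, T_yi, T_xi, T_yi, T_xi, T_yi, T_xi] M (Nat.sub (MG u) (Nat.mod (MG u) M)) (nat_lit 40) z1 u (Nat.mod (MG u) M)) (mRel MG [T_yi, T_xi, T_yi, T_xi, T_yi] [T_x, T_y, T_x, T_y, T_x, T_y, T_x, T_y, T_x, T_y, T_x] M (Nat.sub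 (MG u) (Nat.mod (MG u) M)) (nat_lit 40) z1 u (Nat.mod (MG u) M)) (Nat.ble (nat_lit 52) j)) (Nat.ble (nat_lit 51) j)) (Bool.rec (motive := fun _ => Bool) (mRel MG [T_y, T_x, T_y, T_x, T_y] [T_xi, T_yi, T_xi, T_yi, T_xi, T_yi, T_xi, T_yi, T_xi, T_yi, T_xi] M (Nat.sub (MG u) (Nat.mod (MG u) M)) (nat_lit 40) z1 u (Nat.mod (MG u) M)) (Bool.rec (motive := fun _ => Bool) (mRel MG [T_x, T_y, T_x, T_y, T_x, T_y, T_x, T_y, T_x] [T_yi, T_xi, T_yi, T_xi, T_yi, T_xi, T_yi] M (Nat.sub (MG u) (Nat.mod (MG u) M)) (nat_lit 40) z1 u (Nat.mod (MG u) M)) (mRel MG [T_yi, T_x, T_y, T_xi, T_yi, T_x, T_y, T_xi, T_yi, T_x] [T_x, T_yi] M (Nat.sub (MG u) (Nat.mod (MG u) M)) (nat_lit 40) z1 u (Nat.mod (MG u) M)) (Nat.ble (nat_lit 55) j)) (Nat.ble (nat_lit 54) j)) (Nat.ble (nat_lit 53) j)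
noncomputable def dM_14 (j z1 z2 u : ℕ) : Bool :=
  Bool.rec (motive := fun _ => Bool) (Bool.rec (motive := fun _ => Bool) (mRel MG [T_yi, T_xi, T_yi, T_xi, T_yi, T_xi, T_yi, T_xi] [T_x, T_y, T_x, T_y, T_x, T_y, T_x, T_y] M (Nat.sub (MG u) (Nat.mod (MG u) M)) (nat_lit 40) z1 u (Nat.mod (MG u) M)) (Bool.rec (motive := fun _ => Bool) (mRel MG [T_x, T_y, T_xi, T_yi, T_x, T_y, T_xi, T_yi, T_x] [T_y, T_x, T_yi] M (Nat.sub (MG u) (Nat.mod (MG u) M)) (nat_lit 40) z1 u (Nat.mod (MG u) M)) (mRel MG [T_y, T_x, T_y, T_x, T_y, T_x, T_y, T_x] [T_xi, T_yi, T_xi, T_yi, T_xi, T_yi, T_xi, T_yi] M (Nat.sub (MG u) (Nat.mod (MG u) M)) (nat_lit 40) z1 u (Nat.mod (MG u) M)) (Nat.ble (nat_lit 58) j)) (Nat.ble (nat_lit 57) j)) (Bool.rec (motive := fun _ => Bool) (Bool.rec (motive := fun _ => Bool) (mRel MG [T_x, T_y, T_x, T_y, T_x,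 T_y] [T_yi, T_xi, T_yi, T_xi, T_yi, T_xi, T_yi, T_xi, T_yi, T_xi] M (Nat.sub (MG u) (Nat.mod (MG u) M)) (nat_lit 40) z1 u (Nat.mod (MG u) M)) (mRel MG [T_xi, T_yi, T_xi, T_yi, T_xi, T_yi, T_xi, T_yi, T_xi, T_yi] [T_y, T_x, T_y, T_x, T_y, T_x] M (Nat.sub (MG u) (Nat.mod (MG u) M)) (nat_lit 40) z1 u (Nat.mod (MG u) M)) (Nat.ble (nat_lit 60) j)) (Bool.rec (motive := fun _ => Bool) (mRel MG [T_yi, T_xi, T_yi, T_xi, T_yi, T_xi, T_yi, T_xi, T_yi, T_xi, T_yi] [T_x, T_y, T_x, T_y, T_x] M (Nat.sub (MG u) (Nat.mod (MG u) M)) (nat_lit 40) z1 u (Nat.mod (MG u) M)) (mRel MG [T_x, T_y, T_x, T_y, T_x, T_y, T_x] [T_yi, T_xi, T_yi, T_xi, T_yi, T_xi, T_yi, T_xi, T_yi] M (Nat.sub (MG u) (Nat.mod (MG u) M)) (nat_lit 40) z1 u (Nat.mod (MG u) M)) (Nat.ble (nat_lit 62) j)) (Nat.ble (nat_lit 61) j)) (Nat.ble (nat_lit 59) j)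
noncomputable def dM_15 (j z1 z2 u : ℕ) : Bool :=
  Bool.rec (motive := fun _ => Bool) (dM_13 j z1 z2 u) (dM_14 j z1 z2 u) (Nat.ble (nat_lit 56) j)
noncomputable def dM_16 (j z1 z2 u : ℕ) : Bool :=
  Bool.rec (motive := fun _ => Bool) (Bool.rec (motive := fun _ => Bool) (mRel MG [T_x, T_y, T_x, T_y, T_x, T_y, T_x, T_y] [T_yi, T_xi, T_yi, T_xi, T_yi, T_xi, T_yi, T_xi] M (Nat.sub (MG u) (Nat.mod (MG u) M)) (nat_lit 40) z1 u (Nat.mod (MG u) M)) (Bool.rec (motive := fun _ => Bool) (mRel MG [T_y, T_x, T_y, T_x] [T_xi, T_yi, T_xi, T_yi, T_xi, T_yi, T_xi, T_yi, T_xi, T_yi, T_xi, T_yi] M (Nat.sub (MG u) (Nat.mod (MG u) M)) (nat_lit 40) z1 u (Nat.mod (MG u) M)) (mRel MG [T_xi, T_yi, T_xi, T_yi, T_xi, T_yi] [T_y, T_x, T_y, T_x, T_y, T_x, T_y, T_x, T_y, T_x] M (Nat.sub (MG u) (Nat.mod (MG u) M)) (nat_lit 40) z1 u (Nat.mod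 (MG u) M)) (Nat.ble (nat_lit 65) j)) (Nat.ble (nat_lit 64) j)) (Bool.rec (motive := fun _ => Bool) (Bool.rec (motive := fun _ => Bool) (mRel MG [T_yi, T_xi, T_yi, T_xi, T_yi, T_xi, T_yi] [T_x, T_y, T_x, T_y, T_x, T_y, T_x, T_y, T_x] M (Nat.sub (MG u) (Nat.mod (MG u) M)) (nat_lit 40) z1 u (Nat.mod (MG u) M)) (mRel MG [T_xi, T_yi, T_xi, T_yi, T_xi, T_yi, T_xi, T_yi, T_xi, T_yi, T_xi, T_yi] [T_y, T_x, T_y, T_x] M (Nat.sub (MG u) (Nat.mod (MG u) M)) (nat_lit 40) z1 u (Nat.mod (MG u) M)) (Nat.ble (nat_lit 67) j)) (Bool.rec (motive := fun _ => Bool) (mRel MG [T_y, T_xi, T_yi] [T_xi, T_y, T_x, T_yi, T_xi, T_y, T_x, T_yi, T_xi] M (Nat.sub (MG u) (Nat.mod (MG u) M)) (nat_lit 40) z1 u (Nat.mod (MG u) M)) (mRel MG [T_yi, T_xi, T_yi, T_xi, T_yi, T_xi, T_yi, T_xi, T_yi, T_xi, T_yi, T_xi] [T_x, T_y, T_x, T_y] M (Nat.sub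 (MG u) (Nat.mod (MG u) M)) (nat_lit 40) z1 u (Nat.mod (MG u) M)) (Nat.ble (nat_lit 69) j)) (Nat.ble (nat_lit 68) j)) (Nat.ble (nat_lit 66) j)
noncomputable def dM_17 (j z1 z2 u : ℕ) : Bool :=
  Bool.rec (motive := fun _ => Bool) (Bool.rec (motive := fun _ => Bool) (mRel MG [T_xi, T_yi, T_xi, T_yi, T_xi, T_yi, T_xi, T_yi, T_xi] [T_y, T_x, T_y, T_x, T_y, T_x, T_y] M (Nat.sub (MG u) (Nat.mod (MG u) M)) (nat_lit 40) z1 u (Nat.mod (MG u) M)) (Bool.rec (motive := fun _ => Bool) (mRel MG [T_x, T_yi, T_xi, T_y, T_x, T_yi, T_xi, T_y, T_x] [T_yi, T_x, T_y] M (Nat.sub (MG u) (Nat.mod (MG u) M)) (nat_lit 40) z1 u (Nat.mod (MG u) M)) (mRel MG [T_y, T_x, T_y, T_x, T_y, T_x, T_y, T_x, T_y, T_x, T_y, T_x] [T_xi, T_yi, T_xi, T_yi] M (Nat.sub (MG u) (Nat.mod (MG u) M)) (nat_lit 40) z1 u (Nat.mod (MG u) M)) (Nat.ble (nat_lit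 72) j)) (Nat.ble (nat_lit 71) j)) (Bool.rec (motive := fun _ => Bool) (Bool.rec (motive := fun _ => Bool) (mRel MG [T_yi, T_x, T_y] [T_x, T_yi, T_xi, T_y, T_x, T_yi, T_xi, T_y, T_x] M (Nat.sub (MG u) (Nat.mod (MG u) M)) (nat_lit 40) z1 u (Nat.mod (MG u) M)) (mRel MG [T_x, T_y, T_x, T_y, T_x] [T_yi, T_xi, T_yi, T_xi, T_yi, T_xi, T_yi, T_xi, T_yi, T_xi, T_yi] M (Nat.sub (MG u) (Nat.mod (MG u) M)) (nat_lit 40) z1 u (Nat.mod (MG u) M)) (Nat.ble (nat_lit 74) j)) (Bool.rec (motive := fun _ => Bool) (mRel MG [T_yi, T_xi, T_yi, T_xi, T_yi, T_xi, T_yi, T_xi, T_yi, T_xi, T_yi, T_xi, T_yi, T_xi] [T_x, T_y] M (Nat.sub (MG u) (Nat.mod (MG u) M)) (nat_lit 40) z1 u (Nat.mod (MG u) M)) (mRel MG [T_y, T_x, T_yi] [T_x, T_y, T_xi, T_yi, T_x, T_y, T_xi, T_yi, T_x] M (Nat.sub (MG u) (Nat.mod (MG u) M)) (nat_lit 40) z1 u (Nat.mod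 (MG u) M)) (Nat.ble (nat_lit 76) j)) (Nat.ble (nat_lit 75) j)) (Nat.ble (nat_lit 73) j)
noncomputable def dM_18 (j z1 z2 u : ℕ) : Bool :=
  Bool.rec (motive := fun _ => Bool) (dM_16 j z1 z2 u) (dM_17 j z1 z2 u) (Nat.ble (nat_lit 70) j)
noncomputable def dM_19 (j z1 z2 u : ℕ) : Bool :=
  Bool.rec (motive := fun _ => Bool) (dM_15 j z1 z2 u) (dM_18 j z1 z2 u) (Nat.ble (nat_lit 63) j)
noncomputable def dM_20 (j z1 z2 u : ℕ) : Bool :=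
  Bool.rec (motive := fun _ => Bool) (dM_12 j z1 z2 u) (dM_19 j z1 z2 u) (Nat.ble (nat_lit 50) j)
noncomputable def dM_21 (j z1 z2 u : ℕ) : Bool :=
  Bool.rec (motive := fun _ => Bool) (Bool.rec (motive := fun _ => Bool) (Bool.rec (motive := fun _ => Bool) (mRel MG [T_xi, T_yi, T_xi, T_yi, T_xi, T_yi, T_xi] [T_y, T_x, T_y, T_x, T_y, T_x, T_y, T_x, T_y] M (Nat.sub (MG u) (Nat.mod (MG u) M)) (nat_lit 40) z1 u (Nat.mod (MG u) M)) (mRel MG [T_x, T_y, T_x, T_y, T_x, T_y, T_x, T_y, T_x, T_y, T_x, T_y] [T_yi, T_xi, T_yi, T_xi] M (Nat.sub (MG u) (Nat.mod (MG u) M)) (nat_lit 40) z1 u (Nat.mod (MG u) M)) (Nat.ble (nat_lit 78) j)) (Bool.rec (motive := fun _ => Bool) (mRel MG [T_yi, T_xi, T_yi, T_xi, T_yi, T_xi, T_yi, T_xi, T_yi, T_xi, T_yi, T_xi, T_yi] [T_x, T_y, T_x] M (Nat.sub (MG u) (Nat.mod (MG u) M)) (nat_lit 40)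 z1 u (Nat.mod (MG u) M)) (mRel MG [T_yi, T_xi, T_yi, T_xi] [T_x, T_y, T_x, T_y, T_x, T_y, T_x, T_y, T_x, T_y, T_x, T_y] M (Nat.sub (MG u) (Nat.mod (MG u) M)) (nat_lit 40) z1 u (Nat.mod (MG u) M)) (Nat.ble (nat_lit 80) j)) (Nat.ble (nat_lit 79) j)) (Bool.rec (motive := fun _ => Bool) (Bool.rec (motive := fun _ => Bool) (mRel MG [T_yi, T_xi, T_y] [T_xi, T_yi, T_x, T_y, T_xi, T_yi, T_x, T_y, T_xi] M (Nat.sub (MG u) (Nat.mod (MG u) M)) (nat_lit 40) z1 u (Nat.mod (MG u) M)) (mRel MG [T_x, T_yi, T_xi, T_y, T_x, T_yi, T_xi, T_y, T_x, T_yi] [T_yi, T_x] M (Nat.sub (MG u) (Nat.mod (MG u) M)) (nat_lit 40) z1 u (Nat.mod (MG u) M)) (Nat.ble (nat_lit 82) j)) (Bool.rec (motive := fun _ => Bool) (mRel MG [T_yi, T_xi, T_y, T_x, T_yi, T_xi] [T_xi, T_yi, T_x, T_y, T_xi, T_yi] M (Nat.sub (MG u) (Nat.mod (MG u) M)) (nat_lit 40)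 z1 u (Nat.mod (MG u) M)) (Bool.rec (motive := fun _ => Bool) (mRel MG [T_x, T_y, T_x, T_y, T_x, T_y, T_x, T_y, T_x, T_y, T_x, T_y, T_x] [T_yi, T_xi, T_yi] M (Nat.sub (MG u) (Nat.mod (MG u) M)) (nat_lit 40) z1 u (Nat.mod (MG u) M)) (mRel MG [T_xi, T_yi, T_xi, T_yi, T_xi] [T_y, T_x, T_y, T_x, T_y, T_x, T_y, T_x, T_y, T_x, T_y] M (Nat.sub (MG u) (Nat.mod (MG u) M)) (nat_lit 40) z1 u (Nat.mod (MG u) M)) (Nat.ble (nat_lit 85) j)) (Nat.ble (nat_lit 84) j)) (Nat.ble (nat_lit 83) j)) (Nat.ble (nat_lit 81) j)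
noncomputable def dM_22 (j z1 z2 u : ℕ) : Bool :=
  Bool.rec (motive := fun _ => Bool) (Bool.rec (motive := fun _ => Bool) (Bool.rec (motive := fun _ => Bool) (mRel MG [T_y, T_xi, T_yi, T_x, T_y, T_xi, T_yi, T_x, T_y, T_xi, T_yi] [T_xi] M (Nat.sub (MG u) (Nat.mod (MG u) M)) (nat_lit 40) z1 u (Nat.mod (MG u) M)) (mRel MG [T_x, T_y, T_xi, T_yi, T_x, T_y, T_xi, T_yi, T_x, T_y] [T_y, T_x] M (Nat.sub (MG u) (Nat.mod (MG u) M)) (nat_lit 40) z1 u (Nat.mod (MG u) M)) (Nat.ble (nat_lit 87) j)) (Bool.rec (motive := fun _ => Bool) (mRel MG [T_xi, T_yi, T_xi, T_yi, T_xi, T_yi, T_xi, T_yi, T_xi, T_yi, T_xi, T_yi, T_xi, T_yi] [T_y, T_x] M (Nat.sub (MG u) (Nat.mod (MG u) M)) (nat_lit 40) z1 u (Nat.mod (MG u) M)) (Bool.rec (motive := fun _ => Bool) (mRel MG [T_xi, T_yi, T_xi, T_yi, T_xi, T_yi, T_xi, T_yi, T_xi, T_yi, T_xi,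 T_yi, T_xi] [T_y, T_x, T_y] M (Nat.sub (MG u) (Nat.mod (MG u) M)) (nat_lit 40) z1 u (Nat.mod (MG u) M)) (mRel MG [T_yi, T_x, T_y, T_xi, T_yi, T_x, T_y, T_xi, T_yi, T_x, T_y] [T_x] M (Nat.sub (MG u) (Nat.mod (MG u) M)) (nat_lit 40) z1 u (Nat.mod (MG u) M)) (Nat.ble (nat_lit 90) j)) (Nat.ble (nat_lit 89) j)) (Nat.ble (nat_lit 88) j)) (Bool.rec (motive := fun _ => Bool) (Bool.rec (motive := fun _ => Bool) (mRel MG [T_x, T_yi, T_xi] [T_yi, T_x, T_y, T_xi, T_yi, T_x, T_y, T_xi, T_yi] M (Nat.sub (MG u) (Nat.mod (MG u) M)) (nat_lit 40) z1 u (Nat.mod (MG u) M)) (Bool.rec (motive := fun _ => Bool) (mRel MG [T_x, T_y, T_x, T_y, T_x, T_y, T_x, T_y, T_x, T_y, T_x, T_y, T_x, T_y] [T_yi, T_xi] M (Nat.sub (MG u) (Nat.mod (MG u) M)) (nat_lit 40) z1 u (Nat.mod (MG u) M)) (mRel MG [T_y, T_x, T_yi, T_xi, T_y, T_x, T_yi, T_xi,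 T_y, T_x, T_yi] [T_x] M (Nat.sub (MG u) (Nat.mod (MG u) M)) (nat_lit 40) z1 u (Nat.mod (MG u) M)) (Nat.ble (nat_lit 93) j)) (Nat.ble (nat_lit 92) j)) (Bool.rec (motive := fun _ => Bool) (mRel MG [T_x, T_y, T_x, T_y] [T_yi, T_xi, T_yi, T_xi, T_yi, T_xi, T_yi, T_xi, T_yi, T_xi, T_yi, T_xi] M (Nat.sub (MG u) (Nat.mod (MG u) M)) (nat_lit 40) z1 u (Nat.mod (MG u) M)) (Bool.rec (motive := fun _ => Bool) (mRel MG [T_xi, T_yi, T_xi, T_yi] [T_y, T_x, T_y, T_x, T_y, T_x, T_y, T_x, T_y, T_x, T_y, T_x] M (Nat.sub (MG u) (Nat.mod (MG u) M)) (nat_lit 40) z1 u (Nat.mod (MG u) M)) (mRel MG [T_y, T_x, T_y, T_x, T_y, T_x, T_y, T_x, T_y, T_x, T_y, T_x, T_y, T_x] [T_xi, T_yi] M (Nat.sub (MG u) (Nat.mod (MG u) M)) (nat_lit 40) z1 u (Nat.mod (MG u) M)) (Nat.ble (nat_lit 96) j)) (Nat.ble (nat_lit 95) j)) (Nat.ble (nat_lit 94) j))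 (Nat.ble (nat_lit 91) j)
noncomputable def dM_23 (j z1 z2 u : ℕ) : Bool :=
  Bool.rec (motive := fun _ => Bool) (dM_21 j z1 z2 u) (dM_22 j z1 z2 u) (Nat.ble (nat_lit 86) j)
noncomputable def dM_24 (j z1 z2 u : ℕ) : Bool :=
  Bool.rec (motive := fun _ => Bool) (Bool.rec (motive := fun _ => Bool) (mRel MG [T_y, T_x, T_yi, T_xi, T_y, T_x] [T_x, T_y, T_xi, T_yi, T_x, T_y] M (Nat.sub (MG u) (Nat.mod (MG u) M)) (nat_lit 40) z1 u (Nat.mod (MG u) M)) (Bool.rec (motive := fun _ => Bool) (mRel MG [T_yi, T_xi] [T_xi, T_yi, T_x, T_y, T_xi, T_yi, T_x, T_y, T_xi, T_yi] M (Nat.sub (MG u) (Nat.mod (MG u) M)) (nat_lit 40) z1 u (Nat.mod (MG u) M)) (mRel MG [T_y, T_x, T_yi, T_xi, T_y, T_x, T_yi, T_xi, T_y, T_x] [T_x, T_y] M (Nat.sub (MG u) (Nat.mod (MG u) M)) (nat_lit 40) z1 u (Nat.mod (MG u) M)) (Nat.ble (nat_lit 99) j)) (Nat.ble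 (nat_lit 98) j)) (Bool.rec (motive := fun _ => Bool) (Bool.rec (motive := fun _ => Bool) (mRel MG [T_yi, T_xi, T_yi] [T_x, T_y, T_x, T_y, T_x, T_y, T_x, T_y, T_x, T_y, T_x, T_y, T_x] M (Nat.sub (MG u) (Nat.mod (MG u) M)) (nat_lit 40) z1 u (Nat.mod (MG u) M)) (mRel MG [T_yi, T_xi, T_y, T_x, T_yi, T_xi, T_y, T_x, T_yi, T_xi] [T_xi, T_yi] M (Nat.sub (MG u) (Nat.mod (MG u) M)) (nat_lit 40) z1 u (Nat.mod (MG u) M)) (Nat.ble (nat_lit 101) j)) (Bool.rec (motive := fun _ => Bool) (mRel MG [T_y, T_x, T_y] [T_xi, T_yi, T_xi, T_yi, T_xi, T_yi, T_xi, T_yi, T_xi, T_yi, T_xi, T_yi, T_xi] M (Nat.sub (MG u) (Nat.mod (MG u) M)) (nat_lit 40) z1 u (Nat.mod (MG u) M)) (mRel MG [T_yi, T_xi, T_y, T_x, T_yi, T_xi, T_y, T_x, T_yi, T_xi, T_y] [T_xi] M (Nat.sub (MG u) (Nat.mod (MG u) M)) (nat_lit 40) z1 u (Nat.mod (MG u) M)) (Nat.ble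 (nat_lit 103) j)) (Nat.ble (nat_lit 102) j)) (Nat.ble (nat_lit 100) j)
noncomputable def dM_25 (j z1 z2 u : ℕ) : Bool :=
  Bool.rec (motive := fun _ => Bool) (Bool.rec (motive := fun _ => Bool) (Bool.rec (motive := fun _ => Bool) (mRel MG [T_y, T_y, T_y, T_y, T_y] [T_yi] M (Nat.sub (MG u) (Nat.mod (MG u) M)) (nat_lit 40) z1 u (Nat.mod (MG u) M)) (mRel MG [T_x, T_yi] [T_yi, T_x, T_y, T_xi, T_yi, T_x, T_y, T_xi, T_yi, T_x] M (Nat.sub (MG u) (Nat.mod (MG u) M)) (nat_lit 40) z1 u (Nat.mod (MG u) M)) (Nat.ble (nat_lit 105) j)) (Bool.rec (motive := fun _ => Bool) (mRel MG [T_yi, T_x] [T_x, T_yi, T_xi, T_y, T_x, T_yi, T_xi, T_y, T_x, T_yi] M (Nat.sub (MG u) (Nat.mod (MG u) M)) (nat_lit 40) z1 u (Nat.mod (MG u) M)) (mRel MG [T_xi, T_yi, T_xi] [T_y, T_x, T_y, T_x, T_y, T_x, T_y, T_x, T_y, T_x, T_y, T_x, T_y] M (Nat.sub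 (MG u) (Nat.mod (MG u) M)) (nat_lit 40) z1 u (Nat.mod (MG u) M)) (Nat.ble (nat_lit 107) j)) (Nat.ble (nat_lit 106) j)) (Bool.rec (motive := fun _ => Bool) (Bool.rec (motive := fun _ => Bool) (mRel MG [T_xi, T_yi, T_xi, T_yi, T_xi, T_yi, T_xi, T_yi, T_xi, T_yi, T_xi, T_yi, T_xi, T_yi, T_xi] [T_y] M (Nat.sub (MG u) (Nat.mod (MG u) M)) (nat_lit 40) z1 u (Nat.mod (MG u) M)) (mRel MG [T_x, T_y, T_xi] [T_y, T_x, T_yi, T_xi, T_y, T_x, T_yi, T_xi, T_y] M (Nat.sub (MG u) (Nat.mod (MG u) M)) (nat_lit 40) z1 u (Nat.mod (MG u) M)) (Nat.ble (nat_lit 109) j)) (Bool.rec (motive := fun _ => Bool) (mRel MG [T_y, T_xi, T_xi, T_yi] [T_x, T_x] M (Nat.sub (MG u) (Nat.mod (MG u) M)) (nat_lit 40) z1 u (Nat.mod (MG u) M)) (mRel MG [T_yi, T_yi, T_yi, T_yi, T_yi] [T_y] M (Nat.sub (MG u) (Nat.mod (MG u) M)) (nat_lit 40) z1 u (Nat.mod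 (MG u) M)) (Nat.ble (nat_lit 111) j)) (Nat.ble (nat_lit 110) j)) (Nat.ble (nat_lit 108) j)
noncomputable def dM_26 (j z1 z2 u : ℕ) : Bool :=
  Bool.rec (motive := fun _ => Bool) (dM_24 j z1 z2 u) (dM_25 j z1 z2 u) (Nat.ble (nat_lit 104) j)
noncomputable def dM_27 (j z1 z2 u : ℕ) : Bool :=
  Bool.rec (motive := fun _ => Bool) (Bool.rec (motive := fun _ => Bool) (Bool.rec (motive := fun _ => Bool) (mRel MG [T_xi, T_y, T_x] [T_y, T_xi, T_yi, T_x, T_y, T_xi, T_yi, T_x, T_y] M (Nat.sub (MG u) (Nat.mod (MG u) M)) (nat_lit 40) z1 u (Nat.mod (MG u) M)) (mRel MG [T_xi, T_yi, T_yi, T_x, T_yi, T_yi, T_yi, T_xi, T_yi] [T_y, T_y, T_y, T_xi, T_y, T_y, T_x, T_y, T_y, T_y, T_xi, T_y] M (Nat.sub (MG u) (Nat.mod (MG u) M)) (nat_lit 40) z1 u (Nat.mod (MG u) M)) (Nat.ble (nat_lit 113) j)) (Bool.rec (motive := fun _ => Bool) (mRel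 MG [T_y, T_xi] [T_xi, T_y, T_x, T_yi, T_xi, T_y, T_x, T_yi, T_xi, T_y] M (Nat.sub (MG u) (Nat.mod (MG u) M)) (nat_lit 40) z1 u (Nat.mod (MG u) M)) (Bool.rec (motive := fun _ => Bool) (mRel MG [T_x, T_y, T_x, T_y, T_x, T_y, T_x, T_y, T_x, T_y, T_x, T_y, T_x, T_y, T_x] [T_yi] M (Nat.sub (MG u) (Nat.mod (MG u) M)) (nat_lit 40) z1 u (Nat.mod (MG u) M)) (mRel MG [T_yi, T_x, T_yi, T_yi, T_yi, T_xi, T_yi, T_yi, T_x, T_yi, T_yi, T_yi, T_xi] [T_y, T_x, T_y, T_y, T_y, T_xi, T_y, T_y] M (Nat.sub (MG u) (Nat.mod (MG u) M)) (nat_lit 40) z1 u (Nat.mod (MG u) M)) (Nat.ble (nat_lit 116) j)) (Nat.ble (nat_lit 115) j)) (Nat.ble (nat_lit 114) j)) (Bool.rec (motive := fun _ => Bool) (Bool.rec (motive := fun _ => Bool) (mRel MG [T_y, T_x, T_y, T_x, T_y, T_x, T_y, T_x, T_y, T_x, T_y, T_x, T_y, T_x, T_y] [T_xi] M (Nat.sub (MG u)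 (Nat.mod (MG u) M)) (nat_lit 40) z1 u (Nat.mod (MG u) M)) (Bool.rec (motive := fun _ => Bool) (mRel MG [T_y, T_x, T_x] [T_xi, T_xi, T_y] M (Nat.sub (MG u) (Nat.mod (MG u) M)) (nat_lit 40) z1 u (Nat.mod (MG u) M)) (mRel MG [T_xi, T_yi, T_x, T_y, T_xi, T_yi, T_x] [T_yi, T_xi, T_y, T_x, T_yi] M (Nat.sub (MG u) (Nat.mod (MG u) M)) (nat_lit 40) z1 u (Nat.mod (MG u) M)) (Nat.ble (nat_lit 119) j)) (Nat.ble (nat_lit 118) j)) (Bool.rec (motive := fun _ => Bool) (Bool.rec (motive := fun _ => Bool) (mRel MG [T_yi, T_yi, T_xi, T_yi, T_yi, T_x, T_yi, T_yi, T_yi, T_xi, T_yi] [T_y, T_xi, T_y, T_y, T_x, T_y, T_y, T_y, T_xi, T_y] M (Nat.sub (MG u) (Nat.mod (MG u) M)) (nat_lit 40) z1 u (Nat.mod (MG u) M)) (mRel MG [T_xi, T_yi, T_yi, T_x, T_yi, T_yi, T_yi, T_xi, T_yi, T_yi, T_x] [T_y, T_y, T_y, T_xi, T_y, T_y, T_x, T_y, T_y,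 T_y] M (Nat.sub (MG u) (Nat.mod (MG u) M)) (nat_lit 40) z1 u (Nat.mod (MG u) M)) (Nat.ble (nat_lit 121) j)) (Bool.rec (motive := fun _ => Bool) (mRel MG [T_y, T_y, T_y, T_xi, T_y, T_y, T_x, T_y, T_y, T_y, T_xi, T_y, T_y] [T_xi, T_yi, T_yi, T_x, T_yi, T_yi, T_yi, T_xi] M (Nat.sub (MG u) (Nat.mod (MG u) M)) (nat_lit 40) z1 u (Nat.mod (MG u) M)) (mRel MG [T_y, T_y, T_xi, T_y, T_y, T_x, T_y, T_y] [T_yi, T_xi, T_yi, T_yi, T_x, T_yi, T_yi, T_yi, T_xi, T_yi, T_yi, T_x, T_yi] M (Nat.sub (MG u) (Nat.mod (MG u) M)) (nat_lit 40) z1 u (Nat.mod (MG u) M)) (Nat.ble (nat_lit 123) j)) (Nat.ble (nat_lit 122) j)) (Nat.ble (nat_lit 120) j)) (Nat.ble (nat_lit 117) j)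
noncomputable def dM_28 (j z1 z2 u : ℕ) : Bool :=
  Bool.rec (motive := fun _ => Bool) (Bool.rec (motive := fun _ => Bool) (mRel MG [T_xi, T_yi, T_yi, T_x, T_yi, T_yi, T_yi, T_xi, T_yi, T_yi] [T_y, T_y, T_y, T_xi, T_y, T_y, T_x, T_y, T_y, T_y, T_xi] M (Nat.sub (MG u) (Nat.mod (MG u) M)) (nat_lit 40) z1 u (Nat.mod (MG u) M)) (Bool.rec (motive := fun _ => Bool) (mRel MG [T_xi, T_yi, T_x, T_y, T_xi] [T_yi, T_xi, T_y, T_x, T_yi, T_xi, T_y] M (Nat.sub (MG u) (Nat.mod (MG u) M)) (nat_lit 40) z1 u (Nat.mod (MG u) M)) (mRel MG [T_y, T_x] [T_x, T_y, T_xi, T_yi, T_x, T_y, T_xi, T_yi, T_x, T_y] M (Nat.sub (MG u) (Nat.mod (MG u) M)) (nat_lit 40) z1 u (Nat.mod (MG u) M)) (Nat.ble (nat_lit 126) j)) (Nat.ble (nat_lit 125) j)) (Bool.rec (motive := fun _ => Bool) (Bool.rec (motive := fun _ => Bool) (mRel MG [T_y, T_y, T_x,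 T_y, T_x, T_y] [T_yi, T_xi, T_yi, T_xi, T_yi, T_yi, T_yi, T_xi, T_yi, T_xi, T_yi, T_yi, T_yi, T_xi, T_yi, T_xi, T_yi, T_yi] M (Nat.sub (MG u) (Nat.mod (MG u) M)) (nat_lit 40) z1 u (Nat.mod (MG u) M)) (mRel MG [T_yi, T_xi, T_yi, T_yi, T_x, T_yi, T_yi, T_yi, T_xi, T_yi, T_yi, T_x, T_yi] [T_y, T_y, T_xi, T_y, T_y, T_x, T_y, T_y] M (Nat.sub (MG u) (Nat.mod (MG u) M)) (nat_lit 40) z1 u (Nat.mod (MG u) M)) (Nat.ble (nat_lit 128) j)) (Bool.rec (motive := fun _ => Bool) (mRel MG [T_x, T_y, T_x] [T_yi, T_xi, T_yi, T_xi, T_yi, T_xi, T_yi, T_xi, T_yi, T_xi, T_yi, T_xi, T_yi] M (Nat.sub (MG u) (Nat.mod (MG u) M)) (nat_lit 40) z1 u (Nat.mod (MG u) M)) (mRel MG [T_x, T_y, T_y, T_y, T_xi, T_y, T_y, T_x, T_y, T_y, T_y, T_xi, T_y, T_y, T_x] [T_yi, T_yi, T_x, T_yi, T_yi, T_yi] M (Nat.sub (MG u) (Nat.mod (MG u) M)) (nat_lit 40)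 z1 u (Nat.mod (MG u) M)) (Nat.ble (nat_lit 130) j)) (Nat.ble (nat_lit 129) j)) (Nat.ble (nat_lit 127) j)
noncomputable def dM_29 (j z1 z2 u : ℕ) : Bool :=
  Bool.rec (motive := fun _ => Bool) (Bool.rec (motive := fun _ => Bool) (Bool.rec (motive := fun _ => Bool) (mRel MG [T_y, T_xi, T_y, T_y, T_x, T_y, T_y, T_y, T_xi, T_y] [T_yi, T_yi, T_xi, T_yi, T_yi, T_x, T_yi, T_yi, T_yi, T_xi, T_yi] M (Nat.sub (MG u) (Nat.mod (MG u) M)) (nat_lit 40) z1 u (Nat.mod (MG u) M)) (mRel MG [T_yi, T_xi] [T_x, T_y, T_x, T_y, T_x, T_y, T_x, T_y, T_x, T_y, T_x, T_y, T_x, T_y] M (Nat.sub (MG u) (Nat.mod (MG u) M)) (nat_lit 40) z1 u (Nat.mod (MG u) M)) (Nat.ble (nat_lit 132) j)) (Bool.rec (motive := fun _ => Bool) (mRel MG [T_xi, T_y, T_y, T_x, T_y, T_y, T_y, T_xi, T_y] [T_yi, T_yi, T_yi, T_xi, T_yi, T_yi, T_x, T_yi, T_yi, T_yi, T_xi,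 T_yi] M (Nat.sub (MG u) (Nat.mod (MG u) M)) (nat_lit 40) z1 u (Nat.mod (MG u) M)) (mRel MG [T_xi, T_y, T_x, T_yi, T_xi, T_y, T_x, T_yi] [T_y, T_xi, T_yi, T_x] M (Nat.sub (MG u) (Nat.mod (MG u) M)) (nat_lit 40) z1 u (Nat.mod (MG u) M)) (Nat.ble (nat_lit 134) j)) (Nat.ble (nat_lit 133) j)) (Bool.rec (motive := fun _ => Bool) (Bool.rec (motive := fun _ => Bool) (mRel MG [T_x, T_yi, T_xi, T_y, T_x, T_yi, T_xi, T_y, T_x, T_yi, T_xi] [T_yi] M (Nat.sub (MG u) (Nat.mod (MG u) M)) (nat_lit 40) z1 u (Nat.mod (MG u) M)) (mRel MG [T_xi, T_yi, T_x, T_y, T_xi, T_yi, T_x, T_y, T_xi, T_yi, T_x] [T_yi] M (Nat.sub (MG u) (Nat.mod (MG u) M)) (nat_lit 40) z1 u (Nat.mod (MG u) M)) (Nat.ble (nat_lit 136) j)) (Bool.rec (motive := fun _ => Bool) (mRel MG [T_yi, T_xi, T_xi, T_y] [T_x, T_x] M (Nat.sub (MG u) (Nat.mod (MG u) M)) (nat_lit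 40) z1 u (Nat.mod (MG u) M)) (mRel MG [T_x, T_y, T_y, T_y, T_xi, T_y, T_y, T_x, T_y, T_y, T_y] [T_yi, T_yi, T_x, T_yi, T_yi, T_yi, T_xi, T_yi, T_yi, T_x] M (Nat.sub (MG u) (Nat.mod (MG u) M)) (nat_lit 40) z1 u (Nat.mod (MG u) M)) (Nat.ble (nat_lit 138) j)) (Nat.ble (nat_lit 137) j)) (Nat.ble (nat_lit 135) j)
noncomputable def dM_30 (j z1 z2 u : ℕ) : Bool :=
  Bool.rec (motive := fun _ => Bool) (dM_28 j z1 z2 u) (dM_29 j z1 z2 u) (Nat.ble (nat_lit 131) j)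
noncomputable def dM_31 (j z1 z2 u : ℕ) : Bool :=
  Bool.rec (motive := fun _ => Bool) (dM_27 j z1 z2 u) (dM_30 j z1 z2 u) (Nat.ble (nat_lit 124) j)
noncomputable def dM_32 (j z1 z2 u : ℕ) : Bool :=
  Bool.rec (motive := fun _ => Bool) (dM_26 j z1 z2 u) (dM_31 j z1 z2 u) (Nat.ble (nat_lit 112) j)
noncomputable def dM_33 (j z1 z2 u : ℕ) : Bool :=
  Bool.rec (motive := fun _ => Bool) (dM_23 j z1 z2 u) (dM_32 j z1 z2 u) (Nat.ble (nat_lit 97) j)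
noncomputable def dM_34 (j z1 z2 u : ℕ) : Bool :=
  Bool.rec (motive := fun _ => Bool) (Bool.rec (motive := fun _ => Bool) (Bool.rec (motive := fun _ => Bool) (mRel MG [T_xi, T_y, T_x, T_yi, T_xi, T_y, T_x, T_yi, T_xi, T_y] [T_y, T_xi] M (Nat.sub (MG u) (Nat.mod (MG u) M)) (nat_lit 40) z1 u (Nat.mod (MG u) M)) (mRel MG [T_y, T_y, T_xi, T_y, T_y, T_x, T_y, T_y, T_y, T_xi, T_y] [T_yi, T_xi, T_yi, T_yi, T_x, T_yi, T_yi, T_yi, T_xi, T_yi] M (Nat.sub (MG u) (Nat.mod (MG u) M)) (nat_lit 40) z1 u (Nat.mod (MG u) M)) (Nat.ble (nat_lit 140) j)) (Bool.rec (motive := fun _ => Bool) (mRel MG [T_xi, T_yi, T_yi, T_x, T_yi, T_yi, T_yi, T_xi, T_yi, T_yi, T_x, T_yi] [T_y, T_y, T_y, T_xi, T_y, T_y, T_x, T_y, T_y] M (Nat.sub (MG u) (Nat.mod (MG u) M)) (nat_lit 40) z1 u (Nat.mod (MG u) M)) (mRel MG [T_yi, T_x, T_x] [T_xi, T_xi,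 T_yi] M (Nat.sub (MG u) (Nat.mod (MG u) M)) (nat_lit 40) z1 u (Nat.mod (MG u) M)) (Nat.ble (nat_lit 142) j)) (Nat.ble (nat_lit 141) j)) (Bool.rec (motive := fun _ => Bool) (Bool.rec (motive := fun _ => Bool) (mRel MG [T_xi, T_y, T_y, T_x, T_y, T_y, T_y, T_xi, T_y, T_y] [T_yi, T_yi, T_yi, T_xi, T_yi, T_yi, T_x, T_yi, T_yi, T_yi, T_xi] M (Nat.sub (MG u) (Nat.mod (MG u) M)) (nat_lit 40) z1 u (Nat.mod (MG u) M)) (mRel MG [T_xi, T_y, T_x, T_yi, T_xi, T_y, T_x, T_yi, T_xi] [T_y, T_xi, T_yi] M (Nat.sub (MG u) (Nat.mod (MG u) M)) (nat_lit 40) z1 u (Nat.mod (MG u) M)) (Nat.ble (nat_lit 144) j)) (Bool.rec (motive := fun _ => Bool) (mRel MG [T_xi, T_yi] [T_y, T_x, T_y, T_x, T_y, T_x, T_y, T_x, T_y, T_x, T_y, T_x, T_y, T_x] M (Nat.sub (MG u) (Nat.mod (MG u) M)) (nat_lit 40) z1 u (Nat.mod (MG u) M)) (mRel MG [T_y, T_x]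 [T_xi, T_yi, T_xi, T_yi, T_xi, T_yi, T_xi, T_yi, T_xi, T_yi, T_xi, T_yi, T_xi, T_yi] M (Nat.sub (MG u) (Nat.mod (MG u) M)) (nat_lit 40) z1 u (Nat.mod (MG u) M)) (Nat.ble (nat_lit 146) j)) (Nat.ble (nat_lit 145) j)) (Nat.ble (nat_lit 143) j)
noncomputable def dM_35 (j z1 z2 u : ℕ) : Bool :=
  Bool.rec (motive := fun _ => Bool) (Bool.rec (motive := fun _ => Bool) (Bool.rec (motive := fun _ => Bool) (mRel MG [T_x, T_y] [T_y, T_x, T_yi, T_xi, T_y, T_x, T_yi, T_xi, T_y, T_x] M (Nat.sub (MG u) (Nat.mod (MG u) M)) (nat_lit 40) z1 u (Nat.mod (MG u) M)) (mRel MG [T_y, T_y, T_xi, T_y, T_y, T_x, T_y, T_y, T_y, T_xi, T_y, T_y] [T_yi, T_xi, T_yi, T_yi, T_x, T_yi, T_yi, T_yi, T_xi] M (Nat.sub (MG u) (Nat.mod (MG u) M)) (nat_lit 40) z1 u (Nat.mod (MG u) M)) (Nat.ble (nat_lit 148) j)) (Bool.rec (motive := fun _ => Bool) (mRel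 MG [T_y, T_xi, T_y, T_y, T_x, T_y, T_y, T_y, T_xi, T_y, T_y] [T_yi, T_yi, T_xi, T_yi, T_yi, T_x, T_yi, T_yi, T_yi, T_xi] M (Nat.sub (MG u) (Nat.mod (MG u) M)) (nat_lit 40) z1 u (Nat.mod (MG u) M)) (Bool.rec (motive := fun _ => Bool) (mRel MG [T_x, T_yi, T_yi, T_yi, T_xi, T_yi, T_yi, T_x, T_yi, T_yi, T_yi, T_xi, T_yi, T_yi, T_x, T_yi, T_yi] [T_y, T_y, T_x, T_y] M (Nat.sub (MG u) (Nat.mod (MG u) M)) (nat_lit 40) z1 u (Nat.mod (MG u) M)) (mRel MG [T_x, T_yi, T_yi, T_yi, T_xi, T_yi, T_yi, T_x, T_yi, T_yi, T_yi, T_xi, T_yi] [T_y, T_y, T_x, T_y, T_y, T_y, T_xi, T_y] M (Nat.sub (MG u) (Nat.mod (MG u) M)) (nat_lit 40) z1 u (Nat.mod (MG u) M)) (Nat.ble (nat_lit 151) j)) (Nat.ble (nat_lit 150) j)) (Nat.ble (nat_lit 149) j)) (Bool.rec (motive := fun _ => Bool) (Bool.rec (motive := fun _ => Bool) (mRel MG [T_y, T_y, T_x,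 T_y, T_y, T_y, T_xi, T_y, T_y, T_x, T_y, T_y, T_y, T_xi] [T_x, T_yi, T_yi, T_yi, T_xi, T_yi, T_yi] M (Nat.sub (MG u) (Nat.mod (MG u) M)) (nat_lit 40) z1 u (Nat.mod (MG u) M)) (mRel MG [T_x, T_yi, T_yi, T_yi, T_xi, T_yi, T_yi, T_x, T_yi, T_yi, T_yi, T_xi, T_yi, T_yi, T_x] [T_y, T_y, T_x, T_y, T_y, T_y] M (Nat.sub (MG u) (Nat.mod (MG u) M)) (nat_lit 40) z1 u (Nat.mod (MG u) M)) (Nat.ble (nat_lit 153) j)) (Bool.rec (motive := fun _ => Bool) (mRel MG [T_x, T_yi, T_yi, T_yi, T_xi, T_yi, T_yi, T_x, T_yi, T_yi, T_yi, T_xi] [T_y, T_y, T_x, T_y, T_y, T_y, T_xi, T_y, T_y] M (Nat.sub (MG u) (Nat.mod (MG u) M)) (nat_lit 40) z1 u (Nat.mod (MG u) M)) (Bool.rec (motive := fun _ => Bool) (mRel MG [T_yi, T_yi, T_yi, T_xi, T_yi, T_yi, T_x, T_yi, T_yi, T_yi, T_xi, T_yi, T_yi, T_x, T_yi, T_yi, T_yi] [T_xi, T_y, T_y, T_x] M (Nat.sub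 (MG u) (Nat.mod (MG u) M)) (nat_lit 40) z1 u (Nat.mod (MG u) M)) (mRel MG [T_xi, T_y, T_y, T_x, T_y, T_y, T_y, T_xi] [T_yi, T_yi, T_yi, T_xi, T_yi, T_yi, T_x, T_yi, T_yi, T_yi, T_xi, T_yi, T_yi] M (Nat.sub (MG u) (Nat.mod (MG u) M)) (nat_lit 40) z1 u (Nat.mod (MG u) M)) (Nat.ble (nat_lit 156) j)) (Nat.ble (nat_lit 155) j)) (Nat.ble (nat_lit 154) j)) (Nat.ble (nat_lit 152) j)
noncomputable def dM_36 (j z1 z2 u : ℕ) : Bool :=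
  Bool.rec (motive := fun _ => Bool) (dM_34 j z1 z2 u) (dM_35 j z1 z2 u) (Nat.ble (nat_lit 147) j)
noncomputable def dM_37 (j z1 z2 u : ℕ) : Bool :=
  Bool.rec (motive := fun _ => Bool) (Bool.rec (motive := fun _ => Bool) (Bool.rec (motive := fun _ => Bool) (mRel MG [T_y, T_y, T_y, T_xi, T_y, T_y, T_x, T_y, T_y, T_y, T_xi] [T_xi, T_yi, T_yi, T_x, T_yi, T_yi, T_yi, T_xi, T_yi, T_yi] M (Nat.sub (MG u) (Nat.mod (MG u) M)) (nat_lit 40) z1 u (Nat.mod (MG u) M)) (mRel MG [T_y, T_x, T_y, T_x, T_y, T_y] [T_yi, T_yi, T_xi, T_yi, T_xi, T_yi, T_yi, T_yi, T_xi, T_yi, T_xi, T_yi, T_yi, T_yi, T_xi, T_yi, T_xi, T_yi] M (Nat.sub (MG u) (Nat.mod (MG u) M)) (nat_lit 40) z1 u (Nat.mod (MG u) M)) (Nat.ble (nat_lit 158) j)) (Bool.rec (motive := fun _ => Bool) (mRel MG [T_yi, T_yi, T_yi, T_xi, T_yi, T_yi, T_x, T_yi, T_yi, T_yi,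 T_xi] [T_xi, T_y, T_y, T_x, T_y, T_y, T_y, T_xi, T_y, T_y] M (Nat.sub (MG u) (Nat.mod (MG u) M)) (nat_lit 40) z1 u (Nat.mod (MG u) M)) (mRel MG [T_y, T_x, T_y, T_y, T_y] [T_yi, T_x, T_yi, T_yi, T_yi, T_xi, T_yi, T_yi, T_x, T_yi, T_yi, T_yi, T_xi, T_yi, T_yi, T_x] M (Nat.sub (MG u) (Nat.mod (MG u) M)) (nat_lit 40) z1 u (Nat.mod (MG u) M)) (Nat.ble (nat_lit 160) j)) (Nat.ble (nat_lit 159) j)) (Bool.rec (motive := fun _ => Bool) (Bool.rec (motive := fun _ => Bool) (mRel MG [T_y, T_x, T_y, T_y, T_y, T_xi, T_y, T_y, T_x, T_y, T_y, T_y, T_xi] [T_yi, T_x, T_yi, T_yi, T_yi, T_xi, T_yi, T_yi] M (Nat.sub (MG u) (Nat.mod (MG u) M)) (nat_lit 40) z1 u (Nat.mod (MG u) M)) (mRel MG [T_xi, T_yi, T_yi, T_x, T_yi] [T_y, T_y, T_y, T_xi, T_y, T_y, T_x, T_y, T_y, T_y, T_xi, T_y, T_y, T_x, T_y, T_y] M (Nat.sub (MG u) (Nat.mod (MG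 u) M)) (nat_lit 40) z1 u (Nat.mod (MG u) M)) (Nat.ble (nat_lit 162) j)) (Bool.rec (motive := fun _ => Bool) (mRel MG [T_yi, T_xi, T_yi, T_yi, T_x, T_yi, T_yi, T_yi, T_xi, T_yi, T_yi] [T_y, T_y, T_xi, T_y, T_y, T_x, T_y, T_y, T_y, T_xi] M (Nat.sub (MG u) (Nat.mod (MG u) M)) (nat_lit 40) z1 u (Nat.mod (MG u) M)) (Bool.rec (motive := fun _ => Bool) (mRel MG [T_yi, T_yi, T_xi, T_yi, T_yi, T_x, T_yi, T_yi, T_yi, T_xi, T_yi, T_yi, T_x] [T_y, T_xi, T_y, T_y, T_x, T_y, T_y, T_y] M (Nat.sub (MG u) (Nat.mod (MG u) M)) (nat_lit 40) z1 u (Nat.mod (MG u) M)) (mRel MG [T_yi, T_yi, T_xi, T_yi, T_yi, T_x, T_yi, T_yi] [T_y, T_xi, T_y, T_y, T_x, T_y, T_y, T_y, T_xi, T_y, T_y, T_x, T_y] M (Nat.sub (MG u) (Nat.mod (MG u) M)) (nat_lit 40) z1 u (Nat.mod (MG u) M)) (Nat.ble (nat_lit 165) j)) (Nat.ble (nat_lit 164) j)) (Nat.ble (nat_lit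 163) j)) (Nat.ble (nat_lit 161) j)
noncomputable def dM_38 (j z1 z2 u : ℕ) : Bool :=
  Bool.rec (motive := fun _ => Bool) (Bool.rec (motive := fun _ => Bool) (Bool.rec (motive := fun _ => Bool) (mRel MG [T_xi, T_y, T_x, T_yi, T_xi] [T_y, T_xi, T_yi, T_x, T_y, T_xi, T_yi] M (Nat.sub (MG u) (Nat.mod (MG u) M)) (nat_lit 40) z1 u (Nat.mod (MG u) M)) (mRel MG [T_y, T_x, T_y, T_y, T_y, T_xi, T_y, T_y, T_x, T_y, T_y, T_y, T_xi, T_y, T_y, T_x] [T_yi, T_x, T_yi, T_yi, T_yi] M (Nat.sub (MG u) (Nat.mod (MG u) M)) (nat_lit 40) z1 u (Nat.mod (MG u) M)) (Nat.ble (nat_lit 167) j)) (Bool.rec (motive := fun _ => Bool) (mRel MG [T_y, T_y, T_xi, T_y, T_y, T_x, T_y, T_y, T_y, T_xi, T_y, T_y, T_x] [T_yi, T_xi, T_yi, T_yi, T_x, T_yi, T_yi, T_yi] M (Nat.sub (MG u) (Nat.mod (MG u) M)) (nat_lit 40) z1 u (Nat.mod (MG u) M)) (Bool.rec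 (motive := fun _ => Bool) (mRel MG [T_yi, T_yi, T_yi, T_xi, T_yi, T_yi, T_x, T_yi, T_yi] [T_xi, T_y, T_y, T_x, T_y, T_y, T_y, T_xi, T_y, T_y, T_x, T_y] M (Nat.sub (MG u) (Nat.mod (MG u) M)) (nat_lit 40) z1 u (Nat.mod (MG u) M)) (mRel MG [T_y, T_y, T_xi, T_y, T_y, T_x, T_y, T_y, T_y, T_xi, T_y, T_y, T_x, T_y] [T_yi, T_xi, T_yi, T_yi, T_x, T_yi, T_yi] M (Nat.sub (MG u) (Nat.mod (MG u) M)) (nat_lit 40) z1 u (Nat.mod (MG u) M)) (Nat.ble (nat_lit 170) j)) (Nat.ble (nat_lit 169) j)) (Nat.ble (nat_lit 168) j)) (Bool.rec (motive := fun _ => Bool) (Bool.rec (motive := fun _ => Bool) (mRel MG [T_y, T_y, T_x, T_y, T_y, T_y, T_xi, T_y, T_y, T_x, T_y, T_y, T_y] [T_x, T_yi, T_yi, T_yi, T_xi, T_yi, T_yi, T_x] M (Nat.sub (MG u) (Nat.mod (MG u) M)) (nat_lit 40) z1 u (Nat.mod (MG u) M)) (mRel MG [T_x, T_y, T_xi, T_yi, T_x, T_y,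 T_xi, T_yi, T_x, T_y, T_xi] [T_y] M (Nat.sub (MG u) (Nat.mod (MG u) M)) (nat_lit 40) z1 u (Nat.mod (MG u) M)) (Nat.ble (nat_lit 172) j)) (Bool.rec (motive := fun _ => Bool) (mRel MG [T_x, T_y, T_y, T_y, T_xi, T_y, T_y, T_x, T_y] [T_yi, T_yi, T_x, T_yi, T_yi, T_yi, T_xi, T_yi, T_yi, T_x, T_yi, T_yi] M (Nat.sub (MG u) (Nat.mod (MG u) M)) (nat_lit 40) z1 u (Nat.mod (MG u) M)) (Bool.rec (motive := fun _ => Bool) (mRel MG [T_xi, T_y] [T_y, T_xi, T_yi, T_x, T_y, T_xi, T_yi, T_x, T_y, T_xi] M (Nat.sub (MG u) (Nat.mod (MG u) M)) (nat_lit 40) z1 u (Nat.mod (MG u) M)) (mRel MG [T_yi, T_xi, T_yi, T_yi, T_x, T_yi, T_yi, T_yi, T_xi, T_yi, T_yi, T_x, T_yi, T_yi, T_yi] [T_y, T_y, T_xi, T_y, T_y, T_x] M (Nat.sub (MG u) (Nat.mod (MG u) M)) (nat_lit 40) z1 u (Nat.mod (MG u) M)) (Nat.ble (nat_lit 175) j)) (Nat.ble (nat_lit 174)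 j)) (Nat.ble (nat_lit 173) j)) (Nat.ble (nat_lit 171) j)
noncomputable def dM_39 (j z1 z2 u : ℕ) : Bool :=
  Bool.rec (motive := fun _ => Bool) (dM_37 j z1 z2 u) (dM_38 j z1 z2 u) (Nat.ble (nat_lit 166) j)
noncomputable def dM_40 (j z1 z2 u : ℕ) : Bool :=
  Bool.rec (motive := fun _ => Bool) (dM_36 j z1 z2 u) (dM_39 j z1 z2 u) (Nat.ble (nat_lit 157) j)
noncomputable def dM_41 (j z1 z2 u : ℕ) : Bool :=
  Bool.rec (motive := fun _ => Bool) (Bool.rec (motive := fun _ => Bool) (Bool.rec (motive := fun _ => Bool) (mRel MG [T_yi, T_yi, T_x, T_yi, T_yi, T_yi, T_xi, T_yi, T_yi, T_x, T_yi] [T_x, T_y, T_y, T_y, T_xi, T_y, T_y, T_x, T_y, T_y] M (Nat.sub (MG u) (Nat.mod (MG u) M)) (nat_lit 40) z1 u (Nat.mod (MG u) M)) (mRel MG [T_y, T_y, T_y, T_xi, T_y, T_y, T_x, T_y, T_y, T_y, T_xi, T_y, T_y, T_x, T_y] [T_xi, T_yi, T_yi,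 T_x, T_yi, T_yi] M (Nat.sub (MG u) (Nat.mod (MG u) M)) (nat_lit 40) z1 u (Nat.mod (MG u) M)) (Nat.ble (nat_lit 177) j)) (Bool.rec (motive := fun _ => Bool) (mRel MG [T_y, T_xi, T_y, T_y, T_x, T_y, T_y, T_y] [T_yi, T_yi, T_xi, T_yi, T_yi, T_x, T_yi, T_yi, T_yi, T_xi, T_yi, T_yi, T_x] M (Nat.sub (MG u) (Nat.mod (MG u) M)) (nat_lit 40) z1 u (Nat.mod (MG u) M)) (Bool.rec (motive := fun _ => Bool) (mRel MG [T_yi, T_yi, T_yi, T_xi, T_yi, T_yi, T_x, T_yi, T_yi, T_yi, T_xi, T_yi, T_yi] [T_xi, T_y, T_y, T_x, T_y, T_y, T_y, T_xi] M (Nat.sub (MG u) (Nat.mod (MG u) M)) (nat_lit 40) z1 u (Nat.mod (MG u) M)) (mRel MG [T_xi, T_yi, T_yi, T_x, T_yi, T_yi, T_yi] [T_y, T_y, T_y, T_xi, T_y, T_y, T_x, T_y, T_y, T_y, T_xi, T_y, T_y, T_x] M (Nat.sub (MG u) (Nat.mod (MG u) M)) (nat_lit 40) z1 u (Nat.mod (MG u) M)) (Nat.ble (nat_lit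 180) j)) (Nat.ble (nat_lit 179) j)) (Nat.ble (nat_lit 178) j)) (Bool.rec (motive := fun _ => Bool) (Bool.rec (motive := fun _ => Bool) (mRel MG [T_yi, T_yi, T_xi, T_yi, T_yi, T_x, T_yi, T_yi, T_yi, T_xi, T_yi, T_yi, T_x, T_yi, T_yi] [T_y, T_xi, T_y, T_y, T_x, T_y] M (Nat.sub (MG u) (Nat.mod (MG u) M)) (nat_lit 40) z1 u (Nat.mod (MG u) M)) (Bool.rec (motive := fun _ => Bool) (mRel MG [T_yi, T_xi, T_yi, T_xi, T_yi, T_xi, T_yi, T_xi, T_yi, T_xi, T_yi, T_xi, T_yi, T_xi, T_yi] [T_x] M (Nat.sub (MG u) (Nat.mod (MG u) M)) (nat_lit 40) z1 u (Nat.mod (MG u) M)) (mRel MG [T_yi, T_yi, T_x, T_yi, T_yi, T_yi, T_xi, T_yi] [T_x, T_y, T_y, T_y, T_xi, T_y, T_y, T_x, T_y, T_y, T_y, T_xi, T_y] M (Nat.sub (MG u) (Nat.mod (MG u) M)) (nat_lit 40) z1 u (Nat.mod (MG u) M)) (Nat.ble (nat_lit 183) j)) (Nat.ble (nat_lit 182) j)) (Bool.rec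 (motive := fun _ => Bool) (mRel MG [T_y, T_y, T_y, T_xi, T_y, T_y, T_x, T_y, T_y, T_y, T_xi, T_y, T_y, T_x, T_y, T_y] [T_xi, T_yi, T_yi, T_x, T_yi] M (Nat.sub (MG u) (Nat.mod (MG u) M)) (nat_lit 40) z1 u (Nat.mod (MG u) M)) (Bool.rec (motive := fun _ => Bool) (mRel MG [T_x, T_y, T_y, T_y, T_xi, T_y, T_y, T_x, T_y, T_y, T_y, T_xi, T_y, T_y] [T_yi, T_yi, T_x, T_yi, T_yi, T_yi, T_xi] M (Nat.sub (MG u) (Nat.mod (MG u) M)) (nat_lit 40) z1 u (Nat.mod (MG u) M)) (mRel MG [T_y, T_x, T_y, T_y, T_y, T_xi, T_y, T_y, T_x, T_y, T_y] [T_yi, T_x, T_yi, T_yi, T_yi, T_xi, T_yi, T_yi, T_x, T_yi] M (Nat.sub (MG u) (Nat.mod (MG u) M)) (nat_lit 40) z1 u (Nat.mod (MG u) M)) (Nat.ble (nat_lit 186) j)) (Nat.ble (nat_lit 185) j)) (Nat.ble (nat_lit 184) j)) (Nat.ble (nat_lit 181) j)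
noncomputable def dM_42 (j z1 z2 u : ℕ) : Bool :=
  Bool.rec (motive := fun _ => Bool) (Bool.rec (motive := fun _ => Bool) (Bool.rec (motive := fun _ => Bool) (mRel MG [T_xi, T_yi, T_x, T_y] [T_yi, T_xi, T_y, T_x, T_yi, T_xi, T_y, T_x] M (Nat.sub (MG u) (Nat.mod (MG u) M)) (nat_lit 40) z1 u (Nat.mod (MG u) M)) (mRel MG [T_y, T_y, T_x, T_y, T_y, T_y, T_xi, T_y, T_y, T_x, T_y, T_y, T_y, T_xi, T_y, T_y, T_x, T_y] [T_x, T_yi, T_yi] M (Nat.sub (MG u) (Nat.mod (MG u) M)) (nat_lit 40) z1 u (Nat.mod (MG u) M)) (Nat.ble (nat_lit 188) j)) (Bool.rec (motive := fun _ => Bool) (mRel MG [T_y, T_y, T_xi, T_y, T_y, T_x, T_y, T_y, T_y, T_xi, T_y, T_y, T_x, T_y, T_y] [T_yi, T_xi, T_yi, T_yi, T_x, T_yi] M (Nat.sub (MG u) (Nat.mod (MG u) M)) (nat_lit 40) z1 u (Nat.mod (MG u) M)) (Bool.rec (motive := fun _ => Bool) (mRel MG [T_yi,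 T_xi, T_yi, T_yi, T_x, T_yi, T_yi, T_yi, T_xi, T_yi] [T_y, T_y, T_xi, T_y, T_y, T_x, T_y, T_y, T_y, T_xi, T_y] M (Nat.sub (MG u) (Nat.mod (MG u) M)) (nat_lit 40) z1 u (Nat.mod (MG u) M)) (mRel MG [T_x, T_y] [T_yi, T_xi, T_yi, T_xi, T_yi, T_xi, T_yi, T_xi, T_yi, T_xi, T_yi, T_xi, T_yi, T_xi] M (Nat.sub (MG u) (Nat.mod (MG u) M)) (nat_lit 40) z1 u (Nat.mod (MG u) M)) (Nat.ble (nat_lit 191) j)) (Nat.ble (nat_lit 190) j)) (Nat.ble (nat_lit 189) j)) (Bool.rec (motive := fun _ => Bool) (Bool.rec (motive := fun _ => Bool) (mRel MG [T_y, T_y, T_x, T_y, T_y, T_y, T_xi, T_y, T_y, T_x, T_y, T_y] [T_x, T_yi, T_yi, T_yi, T_xi, T_yi, T_yi, T_x, T_yi] M (Nat.sub (MG u) (Nat.mod (MG u) M)) (nat_lit 40) z1 u (Nat.mod (MG u) M)) (Bool.rec (motive := fun _ => Bool) (mRel MG [T_x, T_yi, T_yi, T_yi, T_xi, T_yi, T_yi, T_x, T_yi,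 T_yi, T_yi] [T_y, T_y, T_x, T_y, T_y, T_y, T_xi, T_y, T_y, T_x] M (Nat.sub (MG u) (Nat.mod (MG u) M)) (nat_lit 40) z1 u (Nat.mod (MG u) M)) (mRel MG [T_xi, T_y, T_y, T_x, T_y, T_y, T_y, T_xi, T_y, T_y, T_x, T_y] [T_yi, T_yi, T_yi, T_xi, T_yi, T_yi, T_x, T_yi, T_yi] M (Nat.sub (MG u) (Nat.mod (MG u) M)) (nat_lit 40) z1 u (Nat.mod (MG u) M)) (Nat.ble (nat_lit 194) j)) (Nat.ble (nat_lit 193) j)) (Bool.rec (motive := fun _ => Bool) (mRel MG [T_y, T_x, T_y, T_y, T_y, T_xi, T_y, T_y, T_x, T_y] [T_yi, T_x, T_yi, T_yi, T_yi, T_xi, T_yi, T_yi, T_x, T_yi, T_yi] M (Nat.sub (MG u) (Nat.mod (MG u) M)) (nat_lit 40) z1 u (Nat.mod (MG u) M)) (Bool.rec (motive := fun _ => Bool) (mRel MG [T_yi, T_yi, T_x, T_yi, T_yi, T_yi, T_xi, T_yi, T_yi, T_x, T_yi, T_yi] [T_x, T_y, T_y, T_y, T_xi, T_y, T_y, T_x, T_y] M (Nat.sub (MG u) (Nat.mod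 (MG u) M)) (nat_lit 40) z1 u (Nat.mod (MG u) M)) (mRel MG [T_xi, T_y, T_x, T_yi, T_xi, T_y] [T_y, T_xi, T_yi, T_x, T_y, T_xi] M (Nat.sub (MG u) (Nat.mod (MG u) M)) (nat_lit 40) z1 u (Nat.mod (MG u) M)) (Nat.ble (nat_lit 197) j)) (Nat.ble (nat_lit 196) j)) (Nat.ble (nat_lit 195) j)) (Nat.ble (nat_lit 192) j)
noncomputable def dM_43 (j z1 z2 u : ℕ) : Bool :=
  Bool.rec (motive := fun _ => Bool) (dM_41 j z1 z2 u) (dM_42 j z1 z2 u) (Nat.ble (nat_lit 187) j)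
noncomputable def dM_44 (j z1 z2 u : ℕ) : Bool :=
  Bool.rec (motive := fun _ => Bool) (Bool.rec (motive := fun _ => Bool) (mRel MG [T_xi, T_yi, T_x, T_y, T_xi, T_yi, T_x, T_y, T_xi] [T_yi, T_xi, T_y] M (Nat.sub (MG u) (Nat.mod (MG u) M)) (nat_lit 40) z1 u (Nat.mod (MG u) M)) (Bool.rec (motive := fun _ => Bool) (mRel MG [T_y, T_x, T_y, T_y, T_y, T_xi, T_y, T_y, T_x, T_y, T_y, T_y, T_xi, T_y, T_y, T_x, T_y, T_y, T_y] [T_yi, T_x] M (Nat.sub (MG u) (Nat.mod (MG u) M)) (nat_lit 40) z1 u (Nat.mod (MG u) M)) (mRel MG [T_y, T_y, T_y, T_xi, T_y, T_y, T_x, T_y, T_y, T_y, T_xi, T_y, T_y, T_x, T_y, T_y, T_y] [T_xi, T_yi, T_yi, T_x] M (Nat.sub (MG u) (Nat.mod (MG u) M)) (nat_lit 40) z1 u (Nat.mod (MG u) M)) (Nat.ble (nat_lit 200) j)) (Nat.ble (nat_lit 199) j)) (Bool.rec (motive := fun _ => Bool) (mRel MG [T_y, T_xi, T_y,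 T_y, T_x, T_y, T_y, T_y, T_xi, T_y, T_y, T_x, T_y] [T_yi, T_yi, T_xi, T_yi, T_yi, T_x, T_yi, T_yi] M (Nat.sub (MG u) (Nat.mod (MG u) M)) (nat_lit 40) z1 u (Nat.mod (MG u) M)) (Bool.rec (motive := fun _ => Bool) (mRel MG [T_yi, T_yi, T_x, T_yi, T_yi, T_yi, T_xi, T_yi, T_yi, T_x, T_yi, T_yi, T_yi, T_xi, T_yi, T_yi, T_x] [T_x, T_y, T_y, T_y] M (Nat.sub (MG u) (Nat.mod (MG u) M)) (nat_lit 40) z1 u (Nat.mod (MG u) M)) (mRel MG [T_x, T_y, T_y, T_y, T_xi, T_y, T_y, T_x, T_y, T_y, T_y, T_xi, T_y, T_y, T_x, T_y] [T_yi, T_yi, T_x, T_yi, T_yi] M (Nat.sub (MG u) (Nat.mod (MG u) M)) (nat_lit 40) z1 u (Nat.mod (MG u) M)) (Nat.ble (nat_lit 203) j)) (Nat.ble (nat_lit 202) j)) (Nat.ble (nat_lit 201) j)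
noncomputable def dM_45 (j z1 z2 u : ℕ) : Bool :=
  Bool.rec (motive := fun _ => Bool) (Bool.rec (motive := fun _ => Bool) (mRel MG [T_x, T_yi, T_yi, T_yi, T_xi, T_yi, T_yi, T_x, T_yi, T_yi, T_yi, T_xi, T_yi, T_yi] [T_y, T_y, T_x, T_y, T_y, T_y, T_xi] M (Nat.sub (MG u) (Nat.mod (MG u) M)) (nat_lit 40) z1 u (Nat.mod (MG u) M)) (Bool.rec (motive := fun _ => Bool) (mRel MG [T_x, T_y, T_y, T_y, T_xi, T_y, T_y, T_x, T_y, T_y, T_y, T_xi] [T_yi, T_yi, T_x, T_yi, T_yi, T_yi, T_xi, T_yi, T_yi] M (Nat.sub (MG u) (Nat.mod (MG u) M)) (nat_lit 40) z1 u (Nat.mod (MG u) M)) (mRel MG [T_yi, T_yi, T_x, T_yi, T_yi] [T_x, T_y, T_y, T_y, T_xi, T_y, T_y, T_x, T_y, T_y, T_y, T_xi, T_y, T_y, T_x, T_y] M (Nat.sub (MG u) (Nat.mod (MG u) M)) (nat_lit 40) z1 u (Nat.mod (MG u) M)) (Nat.ble (nat_lit 206) j)) (Nat.ble (nat_lit 205) j))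 (Bool.rec (motive := fun _ => Bool) (Bool.rec (motive := fun _ => Bool) (mRel MG [T_yi, T_yi, T_yi, T_xi, T_yi, T_yi, T_x, T_yi, T_yi, T_yi] [T_xi, T_y, T_y, T_x, T_y, T_y, T_y, T_xi, T_y, T_y, T_x] M (Nat.sub (MG u) (Nat.mod (MG u) M)) (nat_lit 40) z1 u (Nat.mod (MG u) M)) (mRel MG [T_y, T_x, T_y, T_y, T_y, T_xi, T_y, T_y, T_x, T_y, T_y, T_y, T_xi, T_y] [T_yi, T_x, T_yi, T_yi, T_yi, T_xi, T_yi] M (Nat.sub (MG u) (Nat.mod (MG u) M)) (nat_lit 40) z1 u (Nat.mod (MG u) M)) (Nat.ble (nat_lit 208) j)) (Bool.rec (motive := fun _ => Bool) (mRel MG [T_x, T_yi, T_yi, T_yi, T_xi, T_yi, T_yi, T_x, T_yi, T_yi, T_yi, T_xi, T_yi, T_yi, T_x, T_yi, T_yi, T_yi] [T_y, T_y, T_x] M (Nat.sub (MG u) (Nat.mod (MG u) M)) (nat_lit 40) z1 u (Nat.mod (MG u) M)) (mRel MG [T_yi, T_x, T_yi, T_yi, T_yi, T_xi, T_yi, T_yi, T_x, T_yi, T_yi,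 T_yi, T_xi, T_yi, T_yi, T_x] [T_y, T_x, T_y, T_y, T_y] M (Nat.sub (MG u) (Nat.mod (MG u) M)) (nat_lit 40) z1 u (Nat.mod (MG u) M)) (Nat.ble (nat_lit 210) j)) (Nat.ble (nat_lit 209) j)) (Nat.ble (nat_lit 207) j)
noncomputable def dM_46 (j z1 z2 u : ℕ) : Bool :=
  Bool.rec (motive := fun _ => Bool) (dM_44 j z1 z2 u) (dM_45 j z1 z2 u) (Nat.ble (nat_lit 204) j)
noncomputable def dM_47 (j z1 z2 u : ℕ) : Bool :=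
  Bool.rec (motive := fun _ => Bool) (Bool.rec (motive := fun _ => Bool) (mRel MG [T_xi, T_y, T_y, T_x, T_y, T_y, T_y, T_xi, T_y, T_y, T_x] [T_yi, T_yi, T_yi, T_xi, T_yi, T_yi, T_x, T_yi, T_yi, T_yi] M (Nat.sub (MG u) (Nat.mod (MG u) M)) (nat_lit 40) z1 u (Nat.mod (MG u) M)) (Bool.rec (motive := fun _ => Bool) (mRel MG [T_yi, T_x, T_yi, T_yi, T_yi, T_xi, T_yi, T_yi, T_x, T_yi, T_yi, T_yi] [T_y, T_x, T_y, T_y, T_y, T_xi, T_y, T_y, T_x] M (Nat.sub (MG u) (Nat.mod (MG u) M)) (nat_lit 40) z1 u (Nat.mod (MG u) M)) (mRel MG [T_y, T_x, T_y, T_y, T_y, T_xi, T_y, T_y, T_x, T_y, T_y, T_y, T_xi, T_y, T_y] [T_yi, T_x, T_yi, T_yi, T_yi, T_xi] M (Nat.sub (MG u) (Nat.mod (MG u) M)) (nat_lit 40) z1 u (Nat.mod (MG u) M)) (Nat.ble (nat_lit 213) j)) (Nat.ble (nat_lit 212) j)) (Bool.rec (motive := fun _ => Bool) (Bool.rec (motive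 := fun _ => Bool) (mRel MG [T_yi, T_x, T_yi, T_yi, T_yi, T_xi, T_yi, T_yi, T_x, T_yi, T_yi, T_yi, T_xi, T_yi] [T_y, T_x, T_y, T_y, T_y, T_xi, T_y] M (Nat.sub (MG u) (Nat.mod (MG u) M)) (nat_lit 40) z1 u (Nat.mod (MG u) M)) (mRel MG [T_yi, T_yi, T_xi, T_yi] [T_y, T_xi, T_y, T_y, T_x, T_y, T_y, T_y, T_xi, T_y, T_y, T_x, T_y, T_y, T_y, T_xi, T_y] M (Nat.sub (MG u) (Nat.mod (MG u) M)) (nat_lit 40) z1 u (Nat.mod (MG u) M)) (Nat.ble (nat_lit 215) j)) (Bool.rec (motive := fun _ => Bool) (mRel MG [T_xi, T_y, T_x, T_yi, T_xi, T_y, T_x] [T_y, T_xi, T_yi, T_x, T_y] M (Nat.sub (MG u) (Nat.mod (MG u) M)) (nat_lit 40) z1 u (Nat.mod (MG u) M)) (mRel MG [T_y, T_x, T_y, T_y, T_y, T_xi, T_y, T_y, T_x, T_y, T_y, T_y, T_xi, T_y, T_y, T_x, T_y] [T_yi, T_x, T_yi, T_yi] M (Nat.sub (MG u) (Nat.mod (MG u) M)) (nat_lit 40) z1 u (Nat.mod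 (MG u) M)) (Nat.ble (nat_lit 217) j)) (Nat.ble (nat_lit 216) j)) (Nat.ble (nat_lit 214) j)
noncomputable def dM_48 (j z1 z2 u : ℕ) : Bool :=
  Bool.rec (motive := fun _ => Bool) (Bool.rec (motive := fun _ => Bool) (Bool.rec (motive := fun _ => Bool) (mRel MG [T_y, T_y, T_xi, T_y, T_y, T_x, T_y, T_y, T_y, T_xi, T_y, T_y, T_x, T_y, T_y, T_y] [T_yi, T_xi, T_yi, T_yi, T_x] M (Nat.sub (MG u) (Nat.mod (MG u) M)) (nat_lit 40) z1 u (Nat.mod (MG u) M)) (mRel MG [T_y, T_xi, T_y, T_y, T_x] [T_yi, T_yi, T_xi, T_yi, T_yi, T_x, T_yi, T_yi, T_yi, T_xi, T_yi, T_yi, T_x, T_yi, T_yi, T_yi] M (Nat.sub (MG u) (Nat.mod (MG u) M)) (nat_lit 40) z1 u (Nat.mod (MG u) M)) (Nat.ble (nat_lit 219) j)) (Bool.rec (motive := fun _ => Bool) (mRel MG [T_y, T_xi, T_y, T_y, T_x, T_y] [T_yi, T_yi, T_xi, T_yi, T_yi, T_x, T_yi, T_yi, T_yi, T_xi,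 T_yi, T_yi, T_x, T_yi, T_yi] M (Nat.sub (MG u) (Nat.mod (MG u) M)) (nat_lit 40) z1 u (Nat.mod (MG u) M)) (mRel MG [T_xi, T_yi, T_yi, T_x, T_yi, T_yi, T_yi, T_xi] [T_y, T_y, T_y, T_xi, T_y, T_y, T_x, T_y, T_y, T_y, T_xi, T_y, T_y] M (Nat.sub (MG u) (Nat.mod (MG u) M)) (nat_lit 40) z1 u (Nat.mod (MG u) M)) (Nat.ble (nat_lit 221) j)) (Nat.ble (nat_lit 220) j)) (Bool.rec (motive := fun _ => Bool) (Bool.rec (motive := fun _ => Bool) (mRel MG [T_yi, T_xi, T_yi, T_xi, T_yi, T_xi, T_yi, T_xi, T_yi, T_xi, T_yi, T_xi, T_yi, T_xi, T_yi, T_xi] [] M (Nat.sub (MG u) (Nat.mod (MG u) M)) (nat_lit 40) z1 u (Nat.mod (MG u) M)) (mRel MG [T_yi, T_xi, T_yi, T_yi, T_x, T_yi, T_yi, T_yi] [T_y, T_y, T_xi, T_y, T_y, T_x, T_y, T_y, T_y, T_xi, T_y, T_y, T_x] M (Nat.sub (MG u) (Nat.mod (MG u) M)) (nat_lit 40) z1 u (Nat.mod (MG u) M))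 (Nat.ble (nat_lit 223) j)) (Bool.rec (motive := fun _ => Bool) (mRel MG [T_yi, T_yi, T_yi, T_xi, T_yi, T_yi, T_x, T_yi, T_yi, T_yi, T_xi, T_yi] [T_xi, T_y, T_y, T_x, T_y, T_y, T_y, T_xi, T_y] M (Nat.sub (MG u) (Nat.mod (MG u) M)) (nat_lit 40) z1 u (Nat.mod (MG u) M)) (mRel MG [T_xi, T_yi, T_yi, T_x, T_yi, T_yi, T_yi, T_xi, T_yi, T_yi, T_x, T_yi, T_yi, T_yi, T_xi, T_yi] [T_y, T_y, T_y, T_xi, T_y] M (Nat.sub (MG u) (Nat.mod (MG u) M)) (nat_lit 40) z1 u (Nat.mod (MG u) M)) (Nat.ble (nat_lit 225) j)) (Nat.ble (nat_lit 224) j)) (Nat.ble (nat_lit 222) j)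
noncomputable def dM_49 (j z1 z2 u : ℕ) : Bool :=
  Bool.rec (motive := fun _ => Bool) (dM_47 j z1 z2 u) (dM_48 j z1 z2 u) (Nat.ble (nat_lit 218) j)
noncomputable def dM_50 (j z1 z2 u : ℕ) : Bool :=
  Bool.rec (motive := fun _ => Bool) (dM_46 j z1 z2 u) (dM_49 j z1 z2 u) (Nat.ble (nat_lit 211) j)
noncomputable def dM_51 (j z1 z2 u : ℕ) : Bool :=
  Bool.rec (motive := fun _ => Bool) (dM_43 j z1 z2 u) (dM_50 j z1 z2 u) (Nat.ble (nat_lit 198) j)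
noncomputable def dM_52 (j z1 z2 u : ℕ) : Bool :=
  Bool.rec (motive := fun _ => Bool) (dM_40 j z1 z2 u) (dM_51 j z1 z2 u) (Nat.ble (nat_lit 176) j)
noncomputable def dM_53 (j z1 z2 u : ℕ) : Bool :=
  Bool.rec (motive := fun _ => Bool) (Bool.rec (motive := fun _ => Bool) (Bool.rec (motive := fun _ => Bool) (mRel MG [T_yi, T_yi, T_x, T_yi, T_yi, T_yi] [T_x, T_y, T_y, T_y, T_xi, T_y, T_y, T_x, T_y, T_y, T_y, T_xi, T_y, T_y, T_x] M (Nat.sub (MG u) (Nat.mod (MG u) M)) (nat_lit 40) z1 u (Nat.mod (MG u) M)) (mRel MG [T_yi, T_x, T_yi, T_yi, T_yi, T_xi, T_yi, T_yi, T_x, T_yi, T_yi, T_yi, T_xi, T_yi, T_yi, T_x, T_yi, T_yi, T_yi] [T_y, T_x] M (Nat.sub (MG u) (Nat.mod (MG u) M)) (nat_lit 40) z1 u (Nat.mod (MG u) M)) (Nat.ble (nat_lit 227) j)) (Bool.rec (motive := fun _ => Bool) (mRel MG [T_y, T_xi, T_y, T_y, T_x, T_y,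 T_y] [T_yi, T_yi, T_xi, T_yi, T_yi, T_x, T_yi, T_yi, T_yi, T_xi, T_yi, T_yi, T_x, T_yi] M (Nat.sub (MG u) (Nat.mod (MG u) M)) (nat_lit 40) z1 u (Nat.mod (MG u) M)) (mRel MG [T_yi, T_yi, T_x, T_yi, T_yi, T_yi, T_xi, T_yi, T_yi, T_x, T_yi, T_yi, T_yi, T_xi] [T_x, T_y, T_y, T_y, T_xi, T_y, T_y] M (Nat.sub (MG u) (Nat.mod (MG u) M)) (nat_lit 40) z1 u (Nat.mod (MG u) M)) (Nat.ble (nat_lit 229) j)) (Nat.ble (nat_lit 228) j)) (Bool.rec (motive := fun _ => Bool) (Bool.rec (motive := fun _ => Bool) (mRel MG [T_y, T_y, T_x, T_y, T_y, T_y, T_xi] [T_x, T_yi, T_yi, T_yi, T_xi, T_yi, T_yi, T_x, T_yi, T_yi, T_yi, T_xi, T_yi, T_yi] M (Nat.sub (MG u) (Nat.mod (MG u) M)) (nat_lit 40) z1 u (Nat.mod (MG u) M)) (mRel MG [T_y, T_x, T_y, T_x, T_y] [T_yi, T_yi, T_xi, T_yi, T_xi, T_yi, T_yi, T_yi, T_xi, T_yi, T_xi, T_yi, T_yi, T_yi,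 T_xi, T_yi, T_xi, T_yi, T_yi] M (Nat.sub (MG u) (Nat.mod (MG u) M)) (nat_lit 40) z1 u (Nat.mod (MG u) M)) (Nat.ble (nat_lit 231) j)) (Bool.rec (motive := fun _ => Bool) (mRel MG [T_xi, T_y, T_y, T_x, T_y] [T_yi, T_yi, T_yi, T_xi, T_yi, T_yi, T_x, T_yi, T_yi, T_yi, T_xi, T_yi, T_yi, T_x, T_yi, T_yi] M (Nat.sub (MG u) (Nat.mod (MG u) M)) (nat_lit 40) z1 u (Nat.mod (MG u) M)) (mRel MG [T_y, T_y, T_y, T_xi, T_y, T_y, T_x, T_y, T_y, T_y, T_xi, T_y, T_y, T_x] [T_xi, T_yi, T_yi, T_x, T_yi, T_yi, T_yi] M (Nat.sub (MG u) (Nat.mod (MG u) M)) (nat_lit 40) z1 u (Nat.mod (MG u) M)) (Nat.ble (nat_lit 233) j)) (Nat.ble (nat_lit 232) j)) (Nat.ble (nat_lit 230) j)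
noncomputable def dM_54 (j z1 z2 u : ℕ) : Bool :=
  Bool.rec (motive := fun _ => Bool) (Bool.rec (motive := fun _ => Bool) (Bool.rec (motive := fun _ => Bool) (mRel MG [T_y, T_xi, T_y, T_y, T_x, T_y, T_y, T_y, T_xi, T_y, T_y, T_x, T_y, T_y, T_y] [T_yi, T_yi, T_xi, T_yi, T_yi, T_x] M (Nat.sub (MG u) (Nat.mod (MG u) M)) (nat_lit 40) z1 u (Nat.mod (MG u) M)) (mRel MG [T_y, T_xi, T_y, T_y, T_x, T_y, T_y, T_y, T_xi, T_y, T_y, T_x] [T_yi, T_yi, T_xi, T_yi, T_yi, T_x, T_yi, T_yi, T_yi] M (Nat.sub (MG u) (Nat.mod (MG u) M)) (nat_lit 40) z1 u (Nat.mod (MG u) M)) (Nat.ble (nat_lit 235) j)) (Bool.rec (motive := fun _ => Bool) (mRel MG [T_yi, T_x, T_yi, T_yi, T_yi, T_xi, T_yi, T_yi, T_x, T_yi, T_yi, T_yi, T_xi, T_yi, T_yi, T_x, T_yi, T_yi] [T_y, T_x, T_y] M (Nat.sub (MG u) (Nat.mod (MG u) M)) (nat_lit 40) z1 u (Nat.mod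 (MG u) M)) (mRel MG [T_yi, T_x, T_yi, T_yi, T_yi] [T_y, T_x, T_y, T_y, T_y, T_xi, T_y, T_y, T_x, T_y, T_y, T_y, T_xi, T_y, T_y, T_x] M (Nat.sub (MG u) (Nat.mod (MG u) M)) (nat_lit 40) z1 u (Nat.mod (MG u) M)) (Nat.ble (nat_lit 237) j)) (Nat.ble (nat_lit 236) j)) (Bool.rec (motive := fun _ => Bool) (Bool.rec (motive := fun _ => Bool) (mRel MG [T_yi, T_yi, T_x, T_yi, T_yi, T_yi, T_xi, T_yi, T_yi, T_x, T_yi, T_yi, T_yi, T_xi, T_yi, T_yi, T_x, T_yi, T_yi] [T_x, T_y] M (Nat.sub (MG u) (Nat.mod (MG u) M)) (nat_lit 40) z1 u (Nat.mod (MG u) M)) (mRel MG [T_xi, T_y, T_y, T_x, T_y, T_y, T_y, T_xi, T_y, T_y, T_x, T_y, T_y] [T_yi, T_yi, T_yi, T_xi, T_yi, T_yi, T_x, T_yi] M (Nat.sub (MG u) (Nat.mod (MG u) M)) (nat_lit 40) z1 u (Nat.mod (MG u) M)) (Nat.ble (nat_lit 239) j)) (Bool.rec (motive := fun _ => Bool) (mRel MG [T_x,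 T_y, T_y, T_y, T_xi, T_y, T_y, T_x, T_y, T_y, T_y, T_xi, T_y, T_y, T_x, T_y, T_y, T_y, T_xi] [T_yi, T_yi] M (Nat.sub (MG u) (Nat.mod (MG u) M)) (nat_lit 40) z1 u (Nat.mod (MG u) M)) (mRel MG [T_yi, T_yi, T_yi, T_xi, T_yi, T_yi, T_x, T_yi, T_yi, T_yi, T_xi, T_yi, T_yi, T_x, T_yi, T_yi] [T_xi, T_y, T_y, T_x, T_y] M (Nat.sub (MG u) (Nat.mod (MG u) M)) (nat_lit 40) z1 u (Nat.mod (MG u) M)) (Nat.ble (nat_lit 241) j)) (Nat.ble (nat_lit 240) j)) (Nat.ble (nat_lit 238) j)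
noncomputable def dM_55 (j z1 z2 u : ℕ) : Bool :=
  Bool.rec (motive := fun _ => Bool) (dM_53 j z1 z2 u) (dM_54 j z1 z2 u) (Nat.ble (nat_lit 234) j)
noncomputable def dM_56 (j z1 z2 u : ℕ) : Bool :=
  Bool.rec (motive := fun _ => Bool) (Bool.rec (motive := fun _ => Bool) (Bool.rec (motive := fun _ => Bool) (mRel MG [T_xi, T_yi, T_xi, T_yi, T_xi, T_yi, T_xi, T_yi, T_xi, T_yi, T_xi, T_yi, T_xi, T_yi, T_xi, T_yi] [] M (Nat.sub (MG u) (Nat.mod (MG u) M)) (nat_lit 40) z1 u (Nat.mod (MG u) M)) (mRel MG [T_y, T_y, T_x, T_y, T_y, T_y, T_xi, T_y, T_y] [T_x, T_yi, T_yi, T_yi, T_xi, T_yi, T_yi, T_x, T_yi, T_yi, T_yi, T_xi] M (Nat.sub (MG u) (Nat.mod (MG u) M)) (nat_lit 40) z1 u (Nat.mod (MG u) M)) (Nat.ble (nat_lit 243) j)) (Bool.rec (motive := fun _ => Bool) (mRel MG [T_y, T_y, T_x, T_y, T_y, T_y, T_xi, T_y, T_y, T_x,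 T_y, T_y, T_y, T_xi, T_y, T_y] [T_x, T_yi, T_yi, T_yi, T_xi] M (Nat.sub (MG u) (Nat.mod (MG u) M)) (nat_lit 40) z1 u (Nat.mod (MG u) M)) (mRel MG [T_y, T_xi, T_y, T_y, T_x, T_y, T_y, T_y, T_xi] [T_yi, T_yi, T_xi, T_yi, T_yi, T_x, T_yi, T_yi, T_yi, T_xi, T_yi, T_yi] M (Nat.sub (MG u) (Nat.mod (MG u) M)) (nat_lit 40) z1 u (Nat.mod (MG u) M)) (Nat.ble (nat_lit 245) j)) (Nat.ble (nat_lit 244) j)) (Bool.rec (motive := fun _ => Bool) (Bool.rec (motive := fun _ => Bool) (mRel MG [T_y, T_x, T_y, T_y] [T_yi, T_x, T_yi, T_yi, T_yi, T_xi, T_yi, T_yi, T_x, T_yi, T_yi, T_yi, T_xi, T_yi, T_yi, T_x, T_yi] M (Nat.sub (MG u) (Nat.mod (MG u) M)) (nat_lit 40) z1 u (Nat.mod (MG u) M)) (mRel MG [T_x, T_y, T_x, T_y, T_x, T_y, T_x, T_y, T_x, T_y, T_x, T_y, T_x, T_y, T_x, T_y] [] M (Nat.sub (MG u) (Nat.mod (MG u) M)) (nat_lit 40)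 z1 u (Nat.mod (MG u) M)) (Nat.ble (nat_lit 247) j)) (Bool.rec (motive := fun _ => Bool) (mRel MG [T_xi, T_y, T_y, T_x, T_y, T_y, T_y] [T_yi, T_yi, T_yi, T_xi, T_yi, T_yi, T_x, T_yi, T_yi, T_yi, T_xi, T_yi, T_yi, T_x] M (Nat.sub (MG u) (Nat.mod (MG u) M)) (nat_lit 40) z1 u (Nat.mod (MG u) M)) (mRel MG [T_x, T_y, T_y, T_y, T_xi, T_y, T_y, T_x, T_y, T_y, T_y, T_xi, T_y] [T_yi, T_yi, T_x, T_yi, T_yi, T_yi, T_xi, T_yi] M (Nat.sub (MG u) (Nat.mod (MG u) M)) (nat_lit 40) z1 u (Nat.mod (MG u) M)) (Nat.ble (nat_lit 249) j)) (Nat.ble (nat_lit 248) j)) (Nat.ble (nat_lit 246) j)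
noncomputable def dM_57 (j z1 z2 u : ℕ) : Bool :=
  Bool.rec (motive := fun _ => Bool) (Bool.rec (motive := fun _ => Bool) (Bool.rec (motive := fun _ => Bool) (mRel MG [T_yi, T_yi, T_xi, T_yi, T_yi, T_x, T_yi] [T_y, T_xi, T_y, T_y, T_x, T_y, T_y, T_y, T_xi, T_y, T_y, T_x, T_y, T_y] M (Nat.sub (MG u) (Nat.mod (MG u) M)) (nat_lit 40) z1 u (Nat.mod (MG u) M)) (mRel MG [T_x, T_yi, T_yi, T_yi, T_xi, T_yi, T_yi, T_x] [T_y, T_y, T_x, T_y, T_y, T_y, T_xi, T_y, T_y, T_x, T_y, T_y, T_y] M (Nat.sub (MG u) (Nat.mod (MG u) M)) (nat_lit 40) z1 u (Nat.mod (MG u) M)) (Nat.ble (nat_lit 251) j)) (Bool.rec (motive := fun _ => Bool) (mRel MG [T_yi, T_xi, T_yi, T_yi, T_x, T_yi, T_yi, T_yi, T_xi, T_yi, T_yi, T_x, T_yi, T_yi, T_yi, T_xi, T_yi, T_yi, T_x, T_yi, T_yi] [] M (Nat.sub (MG u) (Nat.mod (MG u) M)) (nat_lit 40) z1 u (Nat.mod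 (MG u) M)) (mRel MG [T_x, T_y, T_y, T_y, T_xi, T_y, T_y, T_x, T_y, T_y, T_y, T_xi, T_y, T_y, T_x, T_y, T_y, T_y] [T_yi, T_yi, T_x] M (Nat.sub (MG u) (Nat.mod (MG u) M)) (nat_lit 40) z1 u (Nat.mod (MG u) M)) (Nat.ble (nat_lit 253) j)) (Nat.ble (nat_lit 252) j)) (Bool.rec (motive := fun _ => Bool) (Bool.rec (motive := fun _ => Bool) (mRel MG [T_yi, T_xi, T_yi, T_yi, T_x, T_yi, T_yi] [T_y, T_y, T_xi, T_y, T_y, T_x, T_y, T_y, T_y, T_xi, T_y, T_y, T_x, T_y] M (Nat.sub (MG u) (Nat.mod (MG u) M)) (nat_lit 40) z1 u (Nat.mod (MG u) M)) (mRel MG [T_yi, T_xi, T_yi, T_yi, T_x, T_yi, T_yi, T_yi, T_xi] [T_y, T_y, T_xi, T_y, T_y, T_x, T_y, T_y, T_y, T_xi, T_y, T_y] M (Nat.sub (MG u) (Nat.mod (MG u) M)) (nat_lit 40) z1 u (Nat.mod (MG u) M)) (Nat.ble (nat_lit 255) j)) (Bool.rec (motive := fun _ => Bool) (mRel MG [T_xi, T_yi,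 T_x, T_y, T_xi, T_yi] [T_yi, T_xi, T_y, T_x, T_yi, T_xi] M (Nat.sub (MG u) (Nat.mod (MG u) M)) (nat_lit 40) z1 u (Nat.mod (MG u) M)) (Bool.rec (motive := fun _ => Bool) (mRel MG [T_x, T_y, T_y, T_y, T_xi, T_y, T_y, T_x, T_y, T_y] [T_yi, T_yi, T_x, T_yi, T_yi, T_yi, T_xi, T_yi, T_yi, T_x, T_yi] M (Nat.sub (MG u) (Nat.mod (MG u) M)) (nat_lit 40) z1 u (Nat.mod (MG u) M)) (mRel MG [T_xi, T_y, T_y, T_x, T_y, T_y] [T_yi, T_yi, T_yi, T_xi, T_yi, T_yi, T_x, T_yi, T_yi, T_yi, T_xi, T_yi, T_yi, T_x, T_yi] M (Nat.sub (MG u) (Nat.mod (MG u) M)) (nat_lit 40) z1 u (Nat.mod (MG u) M)) (Nat.ble (nat_lit 258) j)) (Nat.ble (nat_lit 257) j)) (Nat.ble (nat_lit 256) j)) (Nat.ble (nat_lit 254) j)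
noncomputable def dM_58 (j z1 z2 u : ℕ) : Bool :=
  Bool.rec (motive := fun _ => Bool) (dM_56 j z1 z2 u) (dM_57 j z1 z2 u) (Nat.ble (nat_lit 250) j)
noncomputable def dM_59 (j z1 z2 u : ℕ) : Bool :=
  Bool.rec (motive := fun _ => Bool) (dM_55 j z1 z2 u) (dM_58 j z1 z2 u) (Nat.ble (nat_lit 242) j)
noncomputable def dM_60 (j z1 z2 u : ℕ) : Bool :=
  Bool.rec (motive := fun _ => Bool) (Bool.rec (motive := fun _ => Bool) (Bool.rec (motive := fun _ => Bool) (mRel MG [T_x, T_yi, T_yi, T_yi, T_xi, T_yi, T_yi, T_x, T_yi] [T_y, T_y, T_x, T_y, T_y, T_y, T_xi, T_y, T_y, T_x, T_y, T_y] M (Nat.sub (MG u) (Nat.mod (MG u) M)) (nat_lit 40) z1 u (Nat.mod (MG u) M)) (mRel MG [T_y, T_xi, T_y, T_y, T_x, T_y, T_y, T_y, T_xi, T_y, T_y, T_x, T_y, T_y] [T_yi, T_yi, T_xi, T_yi, T_yi, T_x, T_yi] M (Nat.sub (MG u) (Nat.mod (MG u) M))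 (nat_lit 40) z1 u (Nat.mod (MG u) M)) (Nat.ble (nat_lit 260) j)) (Bool.rec (motive := fun _ => Bool) (mRel MG [T_yi, T_yi, T_x, T_yi, T_yi, T_yi, T_xi, T_yi, T_yi, T_x] [T_x, T_y, T_y, T_y, T_xi, T_y, T_y, T_x, T_y, T_y, T_y] M (Nat.sub (MG u) (Nat.mod (MG u) M)) (nat_lit 40) z1 u (Nat.mod (MG u) M)) (mRel MG [T_xi, T_y, T_x, T_yi, T_xi, T_y, T_x, T_yi, T_xi, T_y, T_x] [T_y] M (Nat.sub (MG u) (Nat.mod (MG u) M)) (nat_lit 40) z1 u (Nat.mod (MG u) M)) (Nat.ble (nat_lit 262) j)) (Nat.ble (nat_lit 261) j)) (Bool.rec (motive := fun _ => Bool) (Bool.rec (motive := fun _ => Bool) (mRel MG [T_yi, T_xi, T_xi] [T_x, T_x, T_yi] M (Nat.sub (MG u) (Nat.mod (MG u) M)) (nat_lit 40) z1 u (Nat.mod (MG u) M)) (Bool.rec (motive := fun _ => Bool) (mRel MG [T_y, T_x, T_y, T_y, T_y, T_xi] [T_yi, T_x, T_yi, T_yi, T_yi, T_xi, T_yi,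 T_yi, T_x, T_yi, T_yi, T_yi, T_xi, T_yi, T_yi] M (Nat.sub (MG u) (Nat.mod (MG u) M)) (nat_lit 40) z1 u (Nat.mod (MG u) M)) (mRel MG [T_y, T_y, T_y] [T_xi, T_yi, T_yi, T_x, T_yi, T_yi, T_yi, T_xi, T_yi, T_yi, T_x, T_yi, T_yi, T_yi, T_xi, T_yi, T_yi, T_x] M (Nat.sub (MG u) (Nat.mod (MG u) M)) (nat_lit 40) z1 u (Nat.mod (MG u) M)) (Nat.ble (nat_lit 265) j)) (Nat.ble (nat_lit 264) j)) (Bool.rec (motive := fun _ => Bool) (mRel MG [T_y, T_y, T_x, T_y, T_y, T_y, T_xi, T_y, T_y, T_x] [T_x, T_yi, T_yi, T_yi, T_xi, T_yi, T_yi, T_x, T_yi, T_yi, T_yi] M (Nat.sub (MG u) (Nat.mod (MG u) M)) (nat_lit 40) z1 u (Nat.mod (MG u) M)) (Bool.rec (motive := fun _ => Bool) (mRel MG [T_y, T_y, T_y, T_xi, T_y, T_y, T_x, T_y, T_y, T_y, T_xi, T_y] [T_xi, T_yi, T_yi, T_x, T_yi, T_yi, T_yi, T_xi, T_yi] M (Nat.sub (MG u) (Nat.mod (MG u)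 M)) (nat_lit 40) z1 u (Nat.mod (MG u) M)) (mRel MG [T_yi, T_xi, T_yi, T_yi, T_x, T_yi, T_yi, T_yi, T_xi, T_yi, T_yi, T_x, T_yi, T_yi, T_yi, T_xi, T_yi] [T_y, T_y, T_xi, T_y] M (Nat.sub (MG u) (Nat.mod (MG u) M)) (nat_lit 40) z1 u (Nat.mod (MG u) M)) (Nat.ble (nat_lit 268) j)) (Nat.ble (nat_lit 267) j)) (Nat.ble (nat_lit 266) j)) (Nat.ble (nat_lit 263) j)
noncomputable def dM_61 (j z1 z2 u : ℕ) : Bool :=
  Bool.rec (motive := fun _ => Bool) (Bool.rec (motive := fun _ => Bool) (Bool.rec (motive := fun _ => Bool) (mRel MG [T_yi, T_yi, T_yi, T_xi, T_yi, T_yi, T_x, T_yi, T_yi, T_yi, T_xi, T_yi, T_yi, T_x] [T_xi, T_y, T_y, T_x, T_y, T_y, T_y] M (Nat.sub (MG u) (Nat.mod (MG u) M)) (nat_lit 40) z1 u (Nat.mod (MG u) M)) (mRel MG [T_y, T_y, T_x, T_y, T_y] [T_x, T_yi, T_yi, T_yi, T_xi, T_yi, T_yi, T_x, T_yi, T_yi, T_yi,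 T_xi, T_yi, T_yi, T_x, T_yi] M (Nat.sub (MG u) (Nat.mod (MG u) M)) (nat_lit 40) z1 u (Nat.mod (MG u) M)) (Nat.ble (nat_lit 270) j)) (Bool.rec (motive := fun _ => Bool) (mRel MG [T_y, T_x, T_y, T_y, T_y, T_xi, T_y] [T_yi, T_x, T_yi, T_yi, T_yi, T_xi, T_yi, T_yi, T_x, T_yi, T_yi, T_yi, T_xi, T_yi] M (Nat.sub (MG u) (Nat.mod (MG u) M)) (nat_lit 40) z1 u (Nat.mod (MG u) M)) (Bool.rec (motive := fun _ => Bool) (mRel MG [T_xi, T_y, T_y, T_x, T_y, T_y, T_y, T_xi, T_y, T_y, T_x, T_y, T_y, T_y] [T_yi, T_yi, T_yi, T_xi, T_yi, T_yi, T_x] M (Nat.sub (MG u) (Nat.mod (MG u) M)) (nat_lit 40) z1 u (Nat.mod (MG u) M)) (mRel MG [T_yi, T_yi, T_x, T_yi, T_yi, T_yi, T_xi, T_yi, T_yi, T_x, T_yi, T_yi, T_yi] [T_x, T_y, T_y, T_y, T_xi, T_y, T_y, T_x] M (Nat.sub (MG u) (Nat.mod (MG u) M)) (nat_lit 40) z1 u (Nat.mod (MG u) M)) (Nat.ble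 (nat_lit 273) j)) (Nat.ble (nat_lit 272) j)) (Nat.ble (nat_lit 271) j)) (Bool.rec (motive := fun _ => Bool) (Bool.rec (motive := fun _ => Bool) (mRel MG [T_y, T_y, T_y, T_xi, T_y, T_y, T_x, T_y, T_y] [T_xi, T_yi, T_yi, T_x, T_yi, T_yi, T_yi, T_xi, T_yi, T_yi, T_x, T_yi] M (Nat.sub (MG u) (Nat.mod (MG u) M)) (nat_lit 40) z1 u (Nat.mod (MG u) M)) (Bool.rec (motive := fun _ => Bool) (mRel MG [T_y, T_xi, T_y, T_y, T_x, T_y, T_y, T_y, T_xi, T_y, T_y, T_x, T_y, T_y, T_y, T_xi, T_y, T_y] [T_yi, T_yi, T_xi] M (Nat.sub (MG u) (Nat.mod (MG u) M)) (nat_lit 40) z1 u (Nat.mod (MG u) M)) (mRel MG [T_x, T_yi, T_yi, T_yi, T_xi, T_yi, T_yi, T_x, T_yi, T_yi, T_yi, T_xi, T_yi, T_yi, T_x, T_yi, T_yi, T_yi, T_xi] [T_y, T_y] M (Nat.sub (MG u) (Nat.mod (MG u) M)) (nat_lit 40) z1 u (Nat.mod (MG u) M)) (Nat.ble (nat_lit 276) j)) (Nat.ble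 (nat_lit 275) j)) (Bool.rec (motive := fun _ => Bool) (mRel MG [T_yi, T_yi, T_xi, T_yi, T_yi, T_x, T_yi, T_yi, T_yi, T_xi, T_yi, T_yi] [T_y, T_xi, T_y, T_y, T_x, T_y, T_y, T_y, T_xi] M (Nat.sub (MG u) (Nat.mod (MG u) M)) (nat_lit 40) z1 u (Nat.mod (MG u) M)) (Bool.rec (motive := fun _ => Bool) (mRel MG [T_y, T_y, T_xi, T_y, T_y, T_x, T_y, T_y, T_y, T_xi, T_y, T_y, T_x, T_y, T_y, T_y, T_xi] [T_yi, T_xi, T_yi, T_yi] M (Nat.sub (MG u) (Nat.mod (MG u) M)) (nat_lit 40) z1 u (Nat.mod (MG u) M)) (mRel MG [T_y, T_x, T_y, T_y, T_y, T_xi, T_y, T_y, T_x, T_y, T_y, T_y] [T_yi, T_x, T_yi, T_yi, T_yi, T_xi, T_yi, T_yi, T_x] M (Nat.sub (MG u) (Nat.mod (MG u) M)) (nat_lit 40) z1 u (Nat.mod (MG u) M)) (Nat.ble (nat_lit 279) j)) (Nat.ble (nat_lit 278) j)) (Nat.ble (nat_lit 277) j)) (Nat.ble (nat_lit 274) j)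
noncomputable def dM_62 (j z1 z2 u : ℕ) : Bool :=
  Bool.rec (motive := fun _ => Bool) (dM_60 j z1 z2 u) (dM_61 j z1 z2 u) (Nat.ble (nat_lit 269) j)
noncomputable def dM_63 (j z1 z2 u : ℕ) : Bool :=
  Bool.rec (motive := fun _ => Bool) (Bool.rec (motive := fun _ => Bool) (Bool.rec (motive := fun _ => Bool) (mRel MG [T_xi, T_y, T_y, T_x, T_y, T_y, T_y, T_xi, T_y, T_y, T_x, T_y, T_y, T_y, T_xi, T_y, T_y, T_x] [T_yi, T_yi, T_yi] M (Nat.sub (MG u) (Nat.mod (MG u) M)) (nat_lit 40) z1 u (Nat.mod (MG u) M)) (mRel MG [T_x, T_yi, T_xi, T_y, T_x, T_yi, T_xi, T_y, T_x, T_yi, T_xi, T_y] [] M (Nat.sub (MG u) (Nat.mod (MG u) M)) (nat_lit 40) z1 u (Nat.mod (MG u) M)) (Nat.ble (nat_lit 281) j)) (Bool.rec (motive := fun _ => Bool) (mRel MG [T_y, T_y, T_xi, T_y] [T_yi, T_xi, T_yi, T_yi, T_x, T_yi, T_yi, T_yi, T_xi, T_yi, T_yi,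 T_x, T_yi, T_yi, T_yi, T_xi, T_yi] M (Nat.sub (MG u) (Nat.mod (MG u) M)) (nat_lit 40) z1 u (Nat.mod (MG u) M)) (Bool.rec (motive := fun _ => Bool) (mRel MG [T_y, T_y, T_x, T_y, T_y, T_y, T_xi, T_y, T_y, T_x, T_y, T_y, T_y, T_xi, T_y] [T_x, T_yi, T_yi, T_yi, T_xi, T_yi] M (Nat.sub (MG u) (Nat.mod (MG u) M)) (nat_lit 40) z1 u (Nat.mod (MG u) M)) (mRel MG [T_yi, T_yi, T_xi, T_yi, T_xi, T_yi] [T_y, T_x, T_y, T_x, T_y, T_y, T_y, T_x, T_y, T_x, T_y, T_y, T_y, T_x, T_y, T_x, T_y, T_y] M (Nat.sub (MG u) (Nat.mod (MG u) M)) (nat_lit 40) z1 u (Nat.mod (MG u) M)) (Nat.ble (nat_lit 284) j)) (Nat.ble (nat_lit 283) j)) (Nat.ble (nat_lit 282) j)) (Bool.rec (motive := fun _ => Bool) (Bool.rec (motive := fun _ => Bool) (mRel MG [T_x, T_y, T_y, T_y, T_xi, T_y, T_y, T_x, T_y, T_y, T_y, T_xi, T_y, T_y, T_x, T_y, T_y] [T_yi, T_yi,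 T_x, T_yi] M (Nat.sub (MG u) (Nat.mod (MG u) M)) (nat_lit 40) z1 u (Nat.mod (MG u) M)) (Bool.rec (motive := fun _ => Bool) (mRel MG [T_yi, T_x, T_yi, T_yi, T_yi, T_xi, T_yi] [T_y, T_x, T_y, T_y, T_y, T_xi, T_y, T_y, T_x, T_y, T_y, T_y, T_xi, T_y] M (Nat.sub (MG u) (Nat.mod (MG u) M)) (nat_lit 40) z1 u (Nat.mod (MG u) M)) (mRel MG [T_y, T_y, T_y, T_xi, T_y, T_y, T_x, T_y, T_y, T_y] [T_xi, T_yi, T_yi, T_x, T_yi, T_yi, T_yi, T_xi, T_yi, T_yi, T_x] M (Nat.sub (MG u) (Nat.mod (MG u) M)) (nat_lit 40) z1 u (Nat.mod (MG u) M)) (Nat.ble (nat_lit 287) j)) (Nat.ble (nat_lit 286) j)) (Bool.rec (motive := fun _ => Bool) (mRel MG [T_y, T_y, T_xi, T_y, T_y, T_x, T_y, T_y, T_y, T_xi, T_y, T_y, T_x, T_y, T_y, T_y, T_xi, T_y] [T_yi, T_xi, T_yi] M (Nat.sub (MG u) (Nat.mod (MG u) M)) (nat_lit 40) z1 u (Nat.mod (MG u) M)) (Bool.rec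 (motive := fun _ => Bool) (mRel MG [T_y, T_y, T_xi, T_y, T_y, T_x, T_y, T_y, T_y] [T_yi, T_xi, T_yi, T_yi, T_x, T_yi, T_yi, T_yi, T_xi, T_yi, T_yi, T_x] M (Nat.sub (MG u) (Nat.mod (MG u) M)) (nat_lit 40) z1 u (Nat.mod (MG u) M)) (mRel MG [T_x, T_y, T_x, T_y, T_y] [T_yi, T_yi, T_yi, T_xi, T_yi, T_xi, T_yi, T_yi, T_yi, T_xi, T_yi, T_xi, T_yi, T_yi, T_yi, T_xi, T_yi, T_xi, T_yi] M (Nat.sub (MG u) (Nat.mod (MG u) M)) (nat_lit 40) z1 u (Nat.mod (MG u) M)) (Nat.ble (nat_lit 290) j)) (Nat.ble (nat_lit 289) j)) (Nat.ble (nat_lit 288) j)) (Nat.ble (nat_lit 285) j)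
noncomputable def dM_64 (j z1 z2 u : ℕ) : Bool :=
  Bool.rec (motive := fun _ => Bool) (Bool.rec (motive := fun _ => Bool) (Bool.rec (motive := fun _ => Bool) (mRel MG [T_yi, T_yi, T_x, T_yi] [T_x, T_y, T_y, T_y, T_xi, T_y, T_y, T_x, T_y, T_y, T_y, T_xi, T_y, T_y, T_x, T_y, T_y] M (Nat.sub (MG u) (Nat.mod (MG u) M)) (nat_lit 40) z1 u (Nat.mod (MG u) M)) (mRel MG [T_y, T_y, T_y, T_xi, T_y, T_y, T_x] [T_xi, T_yi, T_yi, T_x, T_yi, T_yi, T_yi, T_xi, T_yi, T_yi, T_x, T_yi, T_yi, T_yi] M (Nat.sub (MG u) (Nat.mod (MG u) M)) (nat_lit 40) z1 u (Nat.mod (MG u) M)) (Nat.ble (nat_lit 292) j)) (Bool.rec (motive := fun _ => Bool) (mRel MG [T_yi, T_yi, T_xi, T_yi, T_yi, T_x, T_yi, T_yi, T_yi, T_xi, T_yi, T_yi, T_x, T_yi, T_yi, T_yi] [T_y, T_xi, T_y, T_y, T_x] M (Nat.sub (MG u) (Nat.mod (MG u) M)) (nat_lit 40) z1 u (Nat.mod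 (MG u) M)) (Bool.rec (motive := fun _ => Bool) (mRel MG [T_yi, T_x, T_yi, T_yi, T_yi, T_xi, T_yi, T_yi, T_x] [T_y, T_x, T_y, T_y, T_y, T_xi, T_y, T_y, T_x, T_y, T_y, T_y] M (Nat.sub (MG u) (Nat.mod (MG u) M)) (nat_lit 40) z1 u (Nat.mod (MG u) M)) (mRel MG [T_yi, T_x, T_yi, T_yi, T_yi, T_xi, T_yi, T_yi] [T_y, T_x, T_y, T_y, T_y, T_xi, T_y, T_y, T_x, T_y, T_y, T_y, T_xi] M (Nat.sub (MG u) (Nat.mod (MG u) M)) (nat_lit 40) z1 u (Nat.mod (MG u) M)) (Nat.ble (nat_lit 295) j)) (Nat.ble (nat_lit 294) j)) (Nat.ble (nat_lit 293) j)) (Bool.rec (motive := fun _ => Bool) (Bool.rec (motive := fun _ => Bool) (mRel MG [T_yi, T_xi, T_yi, T_yi, T_x] [T_y, T_y, T_xi, T_y, T_y, T_x, T_y, T_y, T_y, T_xi, T_y, T_y, T_x, T_y, T_y, T_y] M (Nat.sub (MG u) (Nat.mod (MG u) M)) (nat_lit 40) z1 u (Nat.mod (MG u) M)) (Bool.rec (motive :=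 fun _ => Bool) (mRel MG [T_yi, T_xi, T_yi, T_yi, T_x, T_yi, T_yi, T_yi, T_xi, T_yi, T_yi, T_x, T_yi, T_yi] [T_y, T_y, T_xi, T_y, T_y, T_x, T_y] M (Nat.sub (MG u) (Nat.mod (MG u) M)) (nat_lit 40) z1 u (Nat.mod (MG u) M)) (mRel MG [T_x, T_y, T_y, T_y, T_x] [T_yi, T_xi, T_yi, T_yi, T_yi, T_xi, T_yi, T_xi, T_yi, T_yi, T_yi, T_xi, T_yi, T_xi, T_yi, T_yi, T_yi, T_xi, T_yi] M (Nat.sub (MG u) (Nat.mod (MG u) M)) (nat_lit 40) z1 u (Nat.mod (MG u) M)) (Nat.ble (nat_lit 298) j)) (Nat.ble (nat_lit 297) j)) (Bool.rec (motive := fun _ => Bool) (mRel MG [T_y, T_y, T_x, T_y, T_y, T_y] [T_x, T_yi, T_yi, T_yi, T_xi, T_yi, T_yi, T_x, T_yi, T_yi, T_yi, T_xi, T_yi, T_yi, T_x] M (Nat.sub (MG u) (Nat.mod (MG u) M)) (nat_lit 40) z1 u (Nat.mod (MG u) M)) (Bool.rec (motive := fun _ => Bool) (mRel MG [T_yi, T_yi, T_xi, T_yi, T_yi, T_x]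 [T_y, T_xi, T_y, T_y, T_x, T_y, T_y, T_y, T_xi, T_y, T_y, T_x, T_y, T_y, T_y] M (Nat.sub (MG u) (Nat.mod (MG u) M)) (nat_lit 40) z1 u (Nat.mod (MG u) M)) (mRel MG [T_y, T_y, T_xi, T_y, T_y, T_x, T_y, T_y, T_y, T_xi] [T_yi, T_xi, T_yi, T_yi, T_x, T_yi, T_yi, T_yi, T_xi, T_yi, T_yi] M (Nat.sub (MG u) (Nat.mod (MG u) M)) (nat_lit 40) z1 u (Nat.mod (MG u) M)) (Nat.ble (nat_lit 301) j)) (Nat.ble (nat_lit 300) j)) (Nat.ble (nat_lit 299) j)) (Nat.ble (nat_lit 296) j)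
noncomputable def dM_65 (j z1 z2 u : ℕ) : Bool :=
  Bool.rec (motive := fun _ => Bool) (dM_63 j z1 z2 u) (dM_64 j z1 z2 u) (Nat.ble (nat_lit 291) j)
noncomputable def dM_66 (j z1 z2 u : ℕ) : Bool :=
  Bool.rec (motive := fun _ => Bool) (dM_62 j z1 z2 u) (dM_65 j z1 z2 u) (Nat.ble (nat_lit 280) j)
noncomputable def dM_67 (j z1 z2 u : ℕ) : Bool :=
  Bool.rec (motive := fun _ => Bool) (dM_59 j z1 z2 u) (dM_66 j z1 z2 u) (Nat.ble (nat_lit 259) j)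
noncomputable def dM_68 (j z1 z2 u : ℕ) : Bool :=
  Bool.rec (motive := fun _ => Bool) (Bool.rec (motive := fun _ => Bool) (Bool.rec (motive := fun _ => Bool) (mRel MG [T_yi, T_x, T_yi, T_yi, T_yi, T_xi, T_yi, T_yi, T_x, T_yi] [T_y, T_x, T_y, T_y, T_y, T_xi, T_y, T_y, T_x, T_y, T_y] M (Nat.sub (MG u) (Nat.mod (MG u) M)) (nat_lit 40) z1 u (Nat.mod (MG u) M)) (mRel MG [T_x, T_x, T_y] [T_y, T_xi, T_xi] M (Nat.sub (MG u) (Nat.mod (MG u) M)) (nat_lit 40) z1 u (Nat.mod (MG u) M)) (Nat.ble (nat_lit 303) j)) (Bool.rec (motive := fun _ => Bool) (mRel MG [T_y, T_y, T_x, T_y, T_y, T_y, T_xi, T_y, T_y, T_x, T_y] [T_x, T_yi, T_yi, T_yi, T_xi, T_yi, T_yi, T_x, T_yi, T_yi] M (Nat.sub (MG u) (Nat.mod (MG u) M)) (nat_lit 40) z1 u (Nat.mod (MG u) M)) (Bool.rec (motive := fun _ => Bool) (mRel MG [T_yi, T_yi, T_xi, T_yi, T_yi,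 T_x, T_yi, T_yi, T_yi] [T_y, T_xi, T_y, T_y, T_x, T_y, T_y, T_y, T_xi, T_y, T_y, T_x] M (Nat.sub (MG u) (Nat.mod (MG u) M)) (nat_lit 40) z1 u (Nat.mod (MG u) M)) (mRel MG [T_xi, T_yi, T_x, T_y, T_xi, T_yi, T_x, T_y, T_xi, T_yi] [T_yi, T_xi] M (Nat.sub (MG u) (Nat.mod (MG u) M)) (nat_lit 40) z1 u (Nat.mod (MG u) M)) (Nat.ble (nat_lit 306) j)) (Nat.ble (nat_lit 305) j)) (Nat.ble (nat_lit 304) j)) (Bool.rec (motive := fun _ => Bool) (Bool.rec (motive := fun _ => Bool) (mRel MG [T_y, T_y, T_x, T_y, T_x, T_y, T_y, T_y, T_x, T_y, T_x, T_y] [T_yi, T_xi, T_yi, T_xi, T_yi, T_yi, T_yi, T_xi, T_yi, T_xi, T_yi, T_yi] M (Nat.sub (MG u) (Nat.mod (MG u) M)) (nat_lit 40) z1 u (Nat.mod (MG u) M)) (Bool.rec (motive := fun _ => Bool) (mRel MG [T_yi, T_xi, T_yi, T_yi, T_x, T_yi] [T_y, T_y, T_xi, T_y, T_y, T_x, T_y, T_y, T_y, T_xi,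 T_y, T_y, T_x, T_y, T_y] M (Nat.sub (MG u) (Nat.mod (MG u) M)) (nat_lit 40) z1 u (Nat.mod (MG u) M)) (mRel MG [T_y, T_x, T_y, T_x, T_y, T_y, T_y, T_x, T_y, T_x, T_y, T_y, T_y, T_x, T_y, T_x, T_y, T_y] [T_yi, T_yi, T_xi, T_yi, T_xi, T_yi] M (Nat.sub (MG u) (Nat.mod (MG u) M)) (nat_lit 40) z1 u (Nat.mod (MG u) M)) (Nat.ble (nat_lit 309) j)) (Nat.ble (nat_lit 308) j)) (Bool.rec (motive := fun _ => Bool) (mRel MG [T_yi, T_yi, T_x, T_yi, T_yi, T_yi, T_xi, T_yi, T_yi, T_x, T_yi, T_yi, T_yi, T_xi, T_yi, T_yi] [T_x, T_y, T_y, T_y, T_xi] M (Nat.sub (MG u) (Nat.mod (MG u) M)) (nat_lit 40) z1 u (Nat.mod (MG u) M)) (Bool.rec (motive := fun _ => Bool) (mRel MG [T_y, T_y, T_xi, T_y, T_y] [T_yi, T_xi, T_yi, T_yi, T_x, T_yi, T_yi, T_yi, T_xi, T_yi, T_yi, T_x, T_yi, T_yi, T_yi, T_xi] M (Nat.sub (MG u) (Nat.mod (MG u) M)) (nat_lit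 40) z1 u (Nat.mod (MG u) M)) (mRel MG [T_y, T_y, T_x, T_y] [T_x, T_yi, T_yi, T_yi, T_xi, T_yi, T_yi, T_x, T_yi, T_yi, T_yi, T_xi, T_yi, T_yi, T_x, T_yi, T_yi] M (Nat.sub (MG u) (Nat.mod (MG u) M)) (nat_lit 40) z1 u (Nat.mod (MG u) M)) (Nat.ble (nat_lit 312) j)) (Nat.ble (nat_lit 311) j)) (Nat.ble (nat_lit 310) j)) (Nat.ble (nat_lit 307) j)
noncomputable def dM_69 (j z1 z2 u : ℕ) : Bool :=
  Bool.rec (motive := fun _ => Bool) (Bool.rec (motive := fun _ => Bool) (mRel MG [T_yi, T_x, T_yi, T_yi, T_yi, T_xi, T_yi, T_yi, T_x, T_yi, T_yi, T_yi, T_xi, T_yi, T_yi] [T_y, T_x, T_y, T_y, T_y, T_xi] M (Nat.sub (MG u) (Nat.mod (MG u) M)) (nat_lit 40) z1 u (Nat.mod (MG u) M)) (Bool.rec (motive := fun _ => Bool) (mRel MG [T_x, T_y, T_y, T_y, T_xi, T_y, T_y] [T_yi, T_yi, T_x, T_yi, T_yi, T_yi, T_xi, T_yi, T_yi, T_x, T_yi,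 T_yi, T_yi, T_xi] M (Nat.sub (MG u) (Nat.mod (MG u) M)) (nat_lit 40) z1 u (Nat.mod (MG u) M)) (mRel MG [T_xi, T_y, T_x, T_yi] [T_y, T_xi, T_yi, T_x, T_y, T_xi, T_yi, T_x] M (Nat.sub (MG u) (Nat.mod (MG u) M)) (nat_lit 40) z1 u (Nat.mod (MG u) M)) (Nat.ble (nat_lit 315) j)) (Nat.ble (nat_lit 314) j)) (Bool.rec (motive := fun _ => Bool) (mRel MG [T_xi, T_xi] [T_yi, T_x, T_x, T_y] M (Nat.sub (MG u) (Nat.mod (MG u) M)) (nat_lit 40) z1 u (Nat.mod (MG u) M)) (Bool.rec (motive := fun _ => Bool) (mRel MG [T_y, T_y, T_x, T_y, T_x] [T_yi, T_xi, T_yi, T_xi, T_yi, T_yi, T_yi, T_xi, T_yi, T_xi, T_yi, T_yi, T_yi, T_xi, T_yi, T_xi, T_yi, T_yi, T_yi] M (Nat.sub (MG u) (Nat.mod (MG u) M)) (nat_lit 40) z1 u (Nat.mod (MG u) M)) (mRel MG [T_y, T_x, T_y, T_y, T_y, T_xi, T_y, T_y, T_x] [T_yi, T_x, T_yi, T_yi, T_yi, T_xi, T_yi, T_yi,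 T_x, T_yi, T_yi, T_yi] M (Nat.sub (MG u) (Nat.mod (MG u) M)) (nat_lit 40) z1 u (Nat.mod (MG u) M)) (Nat.ble (nat_lit 318) j)) (Nat.ble (nat_lit 317) j)) (Nat.ble (nat_lit 316) j)
noncomputable def dM_70 (j z1 z2 u : ℕ) : Bool :=
  Bool.rec (motive := fun _ => Bool) (Bool.rec (motive := fun _ => Bool) (Bool.rec (motive := fun _ => Bool) (mRel MG [T_y, T_y, T_x, T_y, T_y, T_y, T_xi, T_y] [T_x, T_yi, T_yi, T_yi, T_xi, T_yi, T_yi, T_x, T_yi, T_yi, T_yi, T_xi, T_yi] M (Nat.sub (MG u) (Nat.mod (MG u) M)) (nat_lit 40) z1 u (Nat.mod (MG u) M)) (mRel MG [T_y, T_x, T_y, T_x, T_y, T_x, T_y, T_x, T_y, T_x, T_y, T_x, T_y, T_x, T_y, T_x] [] M (Nat.sub (MG u) (Nat.mod (MG u) M)) (nat_lit 40) z1 u (Nat.mod (MG u) M)) (Nat.ble (nat_lit 320) j)) (Bool.rec (motive := fun _ => Bool) (mRel MG [T_x, T_y, T_x, T_y, T_y, T_y, T_x,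 T_y, T_x, T_y] [T_yi, T_yi, T_yi, T_xi, T_yi, T_xi, T_yi, T_yi, T_yi, T_xi, T_yi, T_xi, T_yi, T_yi] M (Nat.sub (MG u) (Nat.mod (MG u) M)) (nat_lit 40) z1 u (Nat.mod (MG u) M)) (mRel MG [T_x, T_y, T_y, T_y, T_x, T_y, T_x, T_y, T_y, T_y, T_x, T_y, T_x] [T_yi, T_xi, T_yi, T_yi, T_yi, T_xi, T_yi, T_xi, T_yi, T_yi, T_yi] M (Nat.sub (MG u) (Nat.mod (MG u) M)) (nat_lit 40) z1 u (Nat.mod (MG u) M)) (Nat.ble (nat_lit 322) j)) (Nat.ble (nat_lit 321) j)) (Bool.rec (motive := fun _ => Bool) (Bool.rec (motive := fun _ => Bool) (mRel MG [T_x, T_yi, T_yi, T_yi, T_xi, T_yi, T_yi, T_x, T_yi, T_yi, T_yi, T_xi, T_yi, T_yi, T_x, T_yi] [T_y, T_y, T_x, T_y, T_y] M (Nat.sub (MG u) (Nat.mod (MG u) M)) (nat_lit 40) z1 u (Nat.mod (MG u) M)) (mRel MG [T_xi, T_yi, T_xi, T_xi, T_y] [T_x] M (Nat.sub (MG u) (Nat.mod (MG u) M)) (nat_lit 40)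 z1 u (Nat.mod (MG u) M)) (Nat.ble (nat_lit 324) j)) (Bool.rec (motive := fun _ => Bool) (mRel MG [T_xi, T_yi, T_xi, T_yi, T_yi, T_yi, T_xi, T_yi, T_xi] [T_y, T_y, T_y, T_x, T_y, T_x, T_y, T_y, T_y, T_x, T_y, T_x, T_y, T_y, T_y] M (Nat.sub (MG u) (Nat.mod (MG u) M)) (nat_lit 40) z1 u (Nat.mod (MG u) M)) (Bool.rec (motive := fun _ => Bool) (mRel MG [T_y, T_x, T_y, T_x, T_y, T_y, T_y] [T_yi, T_yi, T_xi, T_yi, T_xi, T_yi, T_yi, T_yi, T_xi, T_yi, T_xi, T_yi, T_yi, T_yi, T_xi, T_yi, T_xi] M (Nat.sub (MG u) (Nat.mod (MG u) M)) (nat_lit 40) z1 u (Nat.mod (MG u) M)) (mRel MG [T_yi, T_yi, T_yi, T_xi, T_yi] [T_xi, T_y, T_y, T_x, T_y, T_y, T_y, T_xi, T_y, T_y, T_x, T_y, T_y, T_y, T_xi, T_y] M (Nat.sub (MG u) (Nat.mod (MG u) M)) (nat_lit 40) z1 u (Nat.mod (MG u) M)) (Nat.ble (nat_lit 327) j)) (Nat.ble (nat_lit 326) j))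 (Nat.ble (nat_lit 325) j)) (Nat.ble (nat_lit 323) j)
noncomputable def dM_71 (j z1 z2 u : ℕ) : Bool :=
  Bool.rec (motive := fun _ => Bool) (dM_69 j z1 z2 u) (dM_70 j z1 z2 u) (Nat.ble (nat_lit 319) j)
noncomputable def dM_72 (j z1 z2 u : ℕ) : Bool :=
  Bool.rec (motive := fun _ => Bool) (dM_68 j z1 z2 u) (dM_71 j z1 z2 u) (Nat.ble (nat_lit 313) j)
noncomputable def dM_73 (j z1 z2 u : ℕ) : Bool :=
  Bool.rec (motive := fun _ => Bool) (Bool.rec (motive := fun _ => Bool) (Bool.rec (motive := fun _ => Bool) (mRel MG [T_x, T_y, T_y, T_y, T_x, T_y, T_x, T_y, T_y, T_y, T_x, T_y, T_x, T_y, T_y, T_y, T_x] [T_yi, T_xi, T_yi, T_yi, T_yi, T_xi, T_yi] M (Nat.sub (MG u) (Nat.mod (MG u) M)) (nat_lit 40) z1 u (Nat.mod (MG u) M)) (mRel MG [T_xi, T_yi, T_xi, T_yi, T_yi, T_yi, T_xi, T_yi, T_xi, T_yi, T_yi, T_yi] [T_y, T_y, T_y,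 T_x, T_y, T_x, T_y, T_y, T_y, T_x, T_y, T_x] M (Nat.sub (MG u) (Nat.mod (MG u) M)) (nat_lit 40) z1 u (Nat.mod (MG u) M)) (Nat.ble (nat_lit 329) j)) (Bool.rec (motive := fun _ => Bool) (mRel MG [T_x, T_y, T_x, T_y, T_y, T_y, T_x, T_y, T_x, T_y, T_y, T_y] [T_yi, T_yi, T_yi, T_xi, T_yi, T_xi, T_yi, T_yi, T_yi, T_xi, T_yi, T_xi] M (Nat.sub (MG u) (Nat.mod (MG u) M)) (nat_lit 40) z1 u (Nat.mod (MG u) M)) (mRel MG [T_y, T_y, T_x, T_y, T_y, T_y, T_xi, T_y, T_y, T_x, T_y, T_y, T_y, T_xi, T_y, T_y, T_x, T_y, T_y] [T_x, T_yi] M (Nat.sub (MG u) (Nat.mod (MG u) M)) (nat_lit 40) z1 u (Nat.mod (MG u) M)) (Nat.ble (nat_lit 331) j)) (Nat.ble (nat_lit 330) j)) (Bool.rec (motive := fun _ => Bool) (Bool.rec (motive := fun _ => Bool) (mRel MG [T_x, T_yi, T_yi, T_yi, T_xi] [T_y, T_y, T_x, T_y, T_y, T_y, T_xi, T_y, T_y, T_x, T_y,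 T_y, T_y, T_xi, T_y, T_y] M (Nat.sub (MG u) (Nat.mod (MG u) M)) (nat_lit 40) z1 u (Nat.mod (MG u) M)) (mRel MG [T_xi, T_yi, T_yi, T_yi, T_xi, T_yi, T_xi, T_yi, T_yi, T_yi, T_xi, T_yi, T_xi, T_yi, T_yi, T_yi, T_xi] [T_y, T_x, T_y, T_y, T_y, T_x, T_y] M (Nat.sub (MG u) (Nat.mod (MG u) M)) (nat_lit 40) z1 u (Nat.mod (MG u) M)) (Nat.ble (nat_lit 333) j)) (Bool.rec (motive := fun _ => Bool) (mRel MG [T_yi, T_yi, T_x, T_yi, T_yi, T_yi, T_xi] [T_x, T_y, T_y, T_y, T_xi, T_y, T_y, T_x, T_y, T_y, T_y, T_xi, T_y, T_y] M (Nat.sub (MG u) (Nat.mod (MG u) M)) (nat_lit 40) z1 u (Nat.mod (MG u) M)) (mRel MG [T_yi, T_x, T_yi, T_yi, T_yi, T_xi] [T_y, T_x, T_y, T_y, T_y, T_xi, T_y, T_y, T_x, T_y, T_y, T_y, T_xi, T_y, T_y] M (Nat.sub (MG u) (Nat.mod (MG u) M)) (nat_lit 40) z1 u (Nat.mod (MG u) M)) (Nat.ble (nat_lit 335) j)) (Nat.ble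 (nat_lit 334) j)) (Nat.ble (nat_lit 332) j)
noncomputable def dM_74 (j z1 z2 u : ℕ) : Bool :=
  Bool.rec (motive := fun _ => Bool) (Bool.rec (motive := fun _ => Bool) (Bool.rec (motive := fun _ => Bool) (mRel MG [T_y, T_y, T_y, T_xi] [T_xi, T_yi, T_yi, T_x, T_yi, T_yi, T_yi, T_xi, T_yi, T_yi, T_x, T_yi, T_yi, T_yi, T_xi, T_yi, T_yi] M (Nat.sub (MG u) (Nat.mod (MG u) M)) (nat_lit 40) z1 u (Nat.mod (MG u) M)) (mRel MG [T_yi, T_x, T_yi, T_yi, T_yi, T_xi, T_yi, T_yi, T_x, T_yi, T_yi] [T_y, T_x, T_y, T_y, T_y, T_xi, T_y, T_y, T_x, T_y] M (Nat.sub (MG u) (Nat.mod (MG u) M)) (nat_lit 40) z1 u (Nat.mod (MG u) M)) (Nat.ble (nat_lit 337) j)) (Bool.rec (motive := fun _ => Bool) (mRel MG [T_x, T_y, T_y, T_y, T_xi] [T_yi, T_yi, T_x, T_yi, T_yi, T_yi, T_xi, T_yi, T_yi, T_x, T_yi, T_yi, T_yi, T_xi, T_yi, T_yi] M (Nat.sub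 (MG u) (Nat.mod (MG u) M)) (nat_lit 40) z1 u (Nat.mod (MG u) M)) (mRel MG [T_yi, T_yi, T_x, T_yi, T_yi, T_yi, T_xi, T_yi, T_yi, T_x, T_yi, T_yi, T_yi, T_xi, T_yi, T_yi, T_x, T_yi] [T_x, T_y, T_y] M (Nat.sub (MG u) (Nat.mod (MG u) M)) (nat_lit 40) z1 u (Nat.mod (MG u) M)) (Nat.ble (nat_lit 339) j)) (Nat.ble (nat_lit 338) j)) (Bool.rec (motive := fun _ => Bool) (Bool.rec (motive := fun _ => Bool) (mRel MG [T_y, T_x, T_y, T_y, T_y] [T_xi, T_yi, T_yi, T_yi, T_xi, T_yi, T_xi, T_yi, T_yi, T_yi, T_xi, T_yi, T_xi, T_yi, T_yi, T_yi, T_xi, T_yi, T_xi] M (Nat.sub (MG u) (Nat.mod (MG u) M)) (nat_lit 40) z1 u (Nat.mod (MG u) M)) (mRel MG [T_yi, T_yi, T_xi, T_yi, T_yi, T_x, T_yi, T_yi, T_yi, T_xi] [T_y, T_xi, T_y, T_y, T_x, T_y, T_y, T_y, T_xi, T_y, T_y] M (Nat.sub (MG u) (Nat.mod (MG u) M)) (nat_lit 40) z1 u (Nat.mod (MG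 u) M)) (Nat.ble (nat_lit 341) j)) (Bool.rec (motive := fun _ => Bool) (mRel MG [T_x, T_y, T_y, T_y, T_xi, T_y, T_y, T_x] [T_yi, T_yi, T_x, T_yi, T_yi, T_yi, T_xi, T_yi, T_yi, T_x, T_yi, T_yi, T_yi] M (Nat.sub (MG u) (Nat.mod (MG u) M)) (nat_lit 40) z1 u (Nat.mod (MG u) M)) (mRel MG [T_x, T_y, T_y, T_y, T_xi, T_y, T_y, T_x, T_y, T_y, T_y, T_xi, T_y, T_y, T_x, T_y, T_y, T_y, T_xi, T_y, T_y] [] M (Nat.sub (MG u) (Nat.mod (MG u) M)) (nat_lit 40) z1 u (Nat.mod (MG u) M)) (Nat.ble (nat_lit 343) j)) (Nat.ble (nat_lit 342) j)) (Nat.ble (nat_lit 340) j)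
noncomputable def dM_75 (j z1 z2 u : ℕ) : Bool :=
  Bool.rec (motive := fun _ => Bool) (dM_73 j z1 z2 u) (dM_74 j z1 z2 u) (Nat.ble (nat_lit 336) j)
noncomputable def dM_76 (j z1 z2 u : ℕ) : Bool :=
  Bool.rec (motive := fun _ => Bool) (Bool.rec (motive := fun _ => Bool) (Bool.rec (motive := fun _ => Bool) (mRel MG [T_y, T_x, T_y, T_x, T_y, T_y, T_y, T_x, T_y, T_x, T_y, T_y, T_y, T_x, T_y, T_x, T_y, T_y, T_y] [T_yi, T_yi, T_xi, T_yi, T_xi] M (Nat.sub (MG u) (Nat.mod (MG u) M)) (nat_lit 40) z1 u (Nat.mod (MG u) M)) (mRel MG [T_y, T_y, T_x, T_y, T_x, T_y, T_y, T_y, T_x, T_y, T_x] [T_yi, T_xi, T_yi, T_xi, T_yi, T_yi, T_yi, T_xi, T_yi, T_xi, T_yi, T_yi, T_yi] M (Nat.sub (MG u) (Nat.mod (MG u) M)) (nat_lit 40) z1 u (Nat.mod (MG u) M)) (Nat.ble (nat_lit 345) j)) (Bool.rec (motive := fun _ => Bool) (mRel MG [T_y,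 T_y, T_xi, T_y, T_y, T_x, T_y, T_y, T_y, T_xi, T_y, T_y, T_x, T_y, T_y, T_y, T_xi, T_y, T_y] [T_yi, T_xi] M (Nat.sub (MG u) (Nat.mod (MG u) M)) (nat_lit 40) z1 u (Nat.mod (MG u) M)) (mRel MG [T_y, T_xi, T_y, T_y, T_x, T_y, T_y, T_y, T_xi, T_y, T_y, T_x, T_y, T_y, T_y, T_xi, T_y, T_y, T_x] [T_yi, T_yi] M (Nat.sub (MG u) (Nat.mod (MG u) M)) (nat_lit 40) z1 u (Nat.mod (MG u) M)) (Nat.ble (nat_lit 347) j)) (Nat.ble (nat_lit 346) j)) (Bool.rec (motive := fun _ => Bool) (Bool.rec (motive := fun _ => Bool) (mRel MG [T_y, T_x, T_y, T_x, T_y, T_y, T_y, T_x, T_y, T_x, T_y, T_y, T_y, T_x, T_y, T_x, T_y, T_y, T_y, T_x] [T_yi, T_yi, T_xi, T_yi] M (Nat.sub (MG u) (Nat.mod (MG u) M)) (nat_lit 40) z1 u (Nat.mod (MG u) M)) (mRel MG [T_xi, T_yi, T_yi, T_x, T_yi, T_yi, T_yi, T_xi, T_yi, T_yi, T_x, T_yi, T_yi, T_yi, T_xi] [T_y,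 T_y, T_y, T_xi, T_y, T_y] M (Nat.sub (MG u) (Nat.mod (MG u) M)) (nat_lit 40) z1 u (Nat.mod (MG u) M)) (Nat.ble (nat_lit 349) j)) (Bool.rec (motive := fun _ => Bool) (mRel MG [T_x, T_yi, T_yi, T_yi, T_xi, T_yi, T_yi, T_x, T_yi, T_yi, T_yi, T_xi, T_yi, T_yi, T_x, T_yi, T_yi, T_yi, T_xi, T_yi, T_yi] [] M (Nat.sub (MG u) (Nat.mod (MG u) M)) (nat_lit 40) z1 u (Nat.mod (MG u) M)) (mRel MG [T_yi, T_yi, T_x] [T_x, T_y, T_y, T_y, T_xi, T_y, T_y, T_x, T_y, T_y, T_y, T_xi, T_y, T_y, T_x, T_y, T_y, T_y] M (Nat.sub (MG u) (Nat.mod (MG u) M)) (nat_lit 40) z1 u (Nat.mod (MG u) M)) (Nat.ble (nat_lit 351) j)) (Nat.ble (nat_lit 350) j)) (Nat.ble (nat_lit 348) j)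
noncomputable def dM_77 (j z1 z2 u : ℕ) : Bool :=
  Bool.rec (motive := fun _ => Bool) (Bool.rec (motive := fun _ => Bool) (Bool.rec (motive := fun _ => Bool) (mRel MG [T_xi, T_yi, T_yi, T_x, T_yi, T_yi] [T_y, T_y, T_y, T_xi, T_y, T_y, T_x, T_y, T_y, T_y, T_xi, T_y, T_y, T_x, T_y] M (Nat.sub (MG u) (Nat.mod (MG u) M)) (nat_lit 40) z1 u (Nat.mod (MG u) M)) (mRel MG [T_xi, T_y] [T_yi, T_yi, T_yi, T_xi, T_yi, T_yi, T_x, T_yi, T_yi, T_yi, T_xi, T_yi, T_yi, T_x, T_yi, T_yi, T_yi, T_xi, T_yi] M (Nat.sub (MG u) (Nat.mod (MG u) M)) (nat_lit 40) z1 u (Nat.mod (MG u) M)) (Nat.ble (nat_lit 353) j)) (Bool.rec (motive := fun _ => Bool) (mRel MG [T_x, T_y, T_y, T_y, T_xi, T_y] [T_yi, T_yi, T_x, T_yi, T_yi, T_yi, T_xi, T_yi, T_yi, T_x, T_yi, T_yi, T_yi, T_xi, T_yi] M (Nat.sub (MG u) (Nat.mod (MG u) M)) (nat_lit 40) z1 u (Nat.mod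 (MG u) M)) (mRel MG [T_x, T_y, T_x, T_y, T_y, T_y, T_x, T_y, T_x, T_y, T_y] [T_yi, T_yi, T_yi, T_xi, T_yi, T_xi, T_yi, T_yi, T_yi, T_xi, T_yi, T_xi, T_yi] M (Nat.sub (MG u) (Nat.mod (MG u) M)) (nat_lit 40) z1 u (Nat.mod (MG u) M)) (Nat.ble (nat_lit 355) j)) (Nat.ble (nat_lit 354) j)) (Bool.rec (motive := fun _ => Bool) (Bool.rec (motive := fun _ => Bool) (mRel MG [T_yi, T_yi] [T_y, T_xi, T_y, T_y, T_x, T_y, T_y, T_y, T_xi, T_y, T_y, T_x, T_y, T_y, T_y, T_xi, T_y, T_y, T_x] M (Nat.sub (MG u) (Nat.mod (MG u) M)) (nat_lit 40) z1 u (Nat.mod (MG u) M)) (mRel MG [T_y, T_y, T_y, T_xi, T_y, T_y, T_x, T_y, T_y, T_y, T_xi, T_y, T_y, T_x, T_y, T_y, T_y, T_xi] [T_xi, T_yi, T_yi] M (Nat.sub (MG u) (Nat.mod (MG u) M)) (nat_lit 40) z1 u (Nat.mod (MG u) M)) (Nat.ble (nat_lit 357) j)) (Bool.rec (motive := fun _ => Bool) (mRel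 MG [T_yi, T_yi, T_xi, T_yi, T_xi] [T_y, T_x, T_y, T_x, T_y, T_y, T_y, T_x, T_y, T_x, T_y, T_y, T_y, T_x, T_y, T_x, T_y, T_y, T_y] M (Nat.sub (MG u) (Nat.mod (MG u) M)) (nat_lit 40) z1 u (Nat.mod (MG u) M)) (Bool.rec (motive := fun _ => Bool) (mRel MG [T_y, T_y, T_y, T_xi, T_y, T_y] [T_xi, T_yi, T_yi, T_x, T_yi, T_yi, T_yi, T_xi, T_yi, T_yi, T_x, T_yi, T_yi, T_yi, T_xi] M (Nat.sub (MG u) (Nat.mod (MG u) M)) (nat_lit 40) z1 u (Nat.mod (MG u) M)) (mRel MG [T_y, T_x, T_y, T_y, T_y, T_xi, T_y, T_y, T_x, T_y, T_y, T_y, T_xi, T_y, T_y, T_x, T_y, T_y] [T_yi, T_x, T_yi] M (Nat.sub (MG u) (Nat.mod (MG u) M)) (nat_lit 40) z1 u (Nat.mod (MG u) M)) (Nat.ble (nat_lit 360) j)) (Nat.ble (nat_lit 359) j)) (Nat.ble (nat_lit 358) j)) (Nat.ble (nat_lit 356) j)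
noncomputable def dM_78 (j z1 z2 u : ℕ) : Bool :=
  Bool.rec (motive := fun _ => Bool) (dM_76 j z1 z2 u) (dM_77 j z1 z2 u) (Nat.ble (nat_lit 352) j)
noncomputable def dM_79 (j z1 z2 u : ℕ) : Bool :=
  Bool.rec (motive := fun _ => Bool) (dM_75 j z1 z2 u) (dM_78 j z1 z2 u) (Nat.ble (nat_lit 344) j)
noncomputable def dM_80 (j z1 z2 u : ℕ) : Bool :=
  Bool.rec (motive := fun _ => Bool) (dM_72 j z1 z2 u) (dM_79 j z1 z2 u) (Nat.ble (nat_lit 328) j)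
noncomputable def dM_81 (j z1 z2 u : ℕ) : Bool :=
  Bool.rec (motive := fun _ => Bool) (Bool.rec (motive := fun _ => Bool) (Bool.rec (motive := fun _ => Bool) (mRel MG [T_yi, T_yi, T_xi, T_yi, T_yi, T_x, T_yi, T_yi, T_yi, T_xi, T_yi, T_yi, T_x, T_yi, T_yi, T_yi, T_xi] [T_y, T_xi, T_y, T_y] M (Nat.sub (MG u) (Nat.mod (MG u) M)) (nat_lit 40) z1 u (Nat.mod (MG u) M)) (mRel MG [T_yi, T_xi, T_yi, T_yi, T_x, T_yi, T_yi, T_yi, T_xi, T_yi, T_yi, T_x] [T_y, T_y, T_xi, T_y, T_y, T_x, T_y, T_y, T_y] M (Nat.sub (MG u) (Nat.mod (MG u) M)) (nat_lit 40) z1 u (Nat.mod (MG u) M)) (Nat.ble (nat_lit 362) j)) (Bool.rec (motive := fun _ => Bool) (mRel MG [T_y, T_y, T_x, T_y, T_y, T_y, T_xi, T_y, T_y, T_x, T_y, T_y, T_y, T_xi, T_y, T_y, T_x] [T_x, T_yi, T_yi, T_yi] M (Nat.sub (MG u) (Nat.mod (MG u) M)) (nat_lit 40) z1 u (Nat.mod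 (MG u) M)) (mRel MG [T_yi, T_yi, T_yi, T_xi, T_yi, T_xi, T_yi, T_yi, T_yi, T_xi, T_yi, T_xi, T_yi, T_yi, T_yi] [T_x, T_y, T_x, T_y, T_y, T_y, T_x, T_y, T_x] M (Nat.sub (MG u) (Nat.mod (MG u) M)) (nat_lit 40) z1 u (Nat.mod (MG u) M)) (Nat.ble (nat_lit 364) j)) (Nat.ble (nat_lit 363) j)) (Bool.rec (motive := fun _ => Bool) (Bool.rec (motive := fun _ => Bool) (mRel MG [T_yi, T_yi, T_yi, T_xi, T_yi, T_yi, T_x] [T_xi, T_y, T_y, T_x, T_y, T_y, T_y, T_xi, T_y, T_y, T_x, T_y, T_y, T_y] M (Nat.sub (MG u) (Nat.mod (MG u) M)) (nat_lit 40) z1 u (Nat.mod (MG u) M)) (mRel MG [T_yi, T_xi, T_yi, T_yi, T_yi] [T_x, T_y, T_y, T_y, T_x, T_y, T_x, T_y, T_y, T_y, T_x, T_y, T_x, T_y, T_y, T_y, T_x, T_y, T_x] M (Nat.sub (MG u) (Nat.mod (MG u) M)) (nat_lit 40) z1 u (Nat.mod (MG u) M)) (Nat.ble (nat_lit 366) j)) (Bool.rec (motive :=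 fun _ => Bool) (mRel MG [T_xi, T_yi, T_xi, T_yi, T_yi, T_yi, T_xi, T_yi, T_xi, T_yi, T_yi, T_yi, T_xi] [T_y, T_y, T_y, T_x, T_y, T_x, T_y, T_y, T_y, T_x, T_y] M (Nat.sub (MG u) (Nat.mod (MG u) M)) (nat_lit 40) z1 u (Nat.mod (MG u) M)) (mRel MG [T_yi, T_xi, T_yi, T_yi, T_x, T_yi, T_yi, T_yi, T_xi, T_yi, T_yi, T_x, T_yi, T_yi, T_yi, T_xi, T_yi, T_yi, T_x] [T_y, T_y] M (Nat.sub (MG u) (Nat.mod (MG u) M)) (nat_lit 40) z1 u (Nat.mod (MG u) M)) (Nat.ble (nat_lit 368) j)) (Nat.ble (nat_lit 367) j)) (Nat.ble (nat_lit 365) j)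
noncomputable def dM_82 (j z1 z2 u : ℕ) : Bool :=
  Bool.rec (motive := fun _ => Bool) (Bool.rec (motive := fun _ => Bool) (Bool.rec (motive := fun _ => Bool) (mRel MG [T_yi, T_yi, T_yi, T_xi, T_yi, T_yi, T_x, T_yi] [T_xi, T_y, T_y, T_x, T_y, T_y, T_y, T_xi, T_y, T_y, T_x, T_y, T_y] M (Nat.sub (MG u) (Nat.mod (MG u) M)) (nat_lit 40) z1 u (Nat.mod (MG u) M)) (mRel MG [T_xi, T_yi, T_yi, T_x, T_yi, T_yi, T_yi, T_xi, T_yi, T_yi, T_x, T_yi, T_yi] [T_y, T_y, T_y, T_xi, T_y, T_y, T_x, T_y] M (Nat.sub (MG u) (Nat.mod (MG u) M)) (nat_lit 40) z1 u (Nat.mod (MG u) M)) (Nat.ble (nat_lit 370) j)) (Bool.rec (motive := fun _ => Bool) (mRel MG [T_yi, T_xi, T_yi, T_yi, T_yi, T_xi, T_yi, T_xi, T_yi, T_yi, T_yi, T_xi, T_yi, T_xi, T_yi, T_yi] [T_x, T_y, T_y, T_y, T_x, T_y, T_x, T_y] M (Nat.sub (MG u) (Nat.mod (MG u) M)) (nat_lit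 40) z1 u (Nat.mod (MG u) M)) (mRel MG [T_xi, T_y, T_y, T_x, T_y, T_y, T_y, T_xi, T_y, T_y, T_x, T_y, T_y, T_y, T_xi] [T_yi, T_yi, T_yi, T_xi, T_yi, T_yi] M (Nat.sub (MG u) (Nat.mod (MG u) M)) (nat_lit 40) z1 u (Nat.mod (MG u) M)) (Nat.ble (nat_lit 372) j)) (Nat.ble (nat_lit 371) j)) (Bool.rec (motive := fun _ => Bool) (Bool.rec (motive := fun _ => Bool) (mRel MG [T_xi, T_yi, T_x] [T_yi, T_xi, T_y, T_x, T_yi, T_xi, T_y, T_x, T_yi] M (Nat.sub (MG u) (Nat.mod (MG u) M)) (nat_lit 40) z1 u (Nat.mod (MG u) M)) (mRel MG [T_yi, T_x, T_yi, T_yi, T_yi, T_xi, T_yi, T_yi, T_x, T_yi, T_yi, T_yi, T_xi, T_yi, T_yi, T_x, T_yi] [T_y, T_x, T_y, T_y] M (Nat.sub (MG u) (Nat.mod (MG u) M)) (nat_lit 40) z1 u (Nat.mod (MG u) M)) (Nat.ble (nat_lit 374) j)) (Bool.rec (motive := fun _ => Bool) (mRel MG [T_x, T_yi, T_yi, T_yi, T_xi,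 T_yi, T_yi, T_x, T_yi, T_yi] [T_y, T_y, T_x, T_y, T_y, T_y, T_xi, T_y, T_y, T_x, T_y] M (Nat.sub (MG u) (Nat.mod (MG u) M)) (nat_lit 40) z1 u (Nat.mod (MG u) M)) (Bool.rec (motive := fun _ => Bool) (mRel MG [T_y, T_y, T_x, T_y, T_y, T_y, T_xi, T_y, T_y, T_x, T_y, T_y, T_y, T_xi, T_y, T_y, T_x, T_y, T_y, T_y] [T_x] M (Nat.sub (MG u) (Nat.mod (MG u) M)) (nat_lit 40) z1 u (Nat.mod (MG u) M)) (Bool.rec (motive := fun _ => Bool) (mRel MG [T_y, T_y, T_xi, T_y, T_y, T_x, T_y] [T_yi, T_xi, T_yi, T_yi, T_x, T_yi, T_yi, T_yi, T_xi, T_yi, T_yi, T_x, T_yi, T_yi] M (Nat.sub (MG u) (Nat.mod (MG u) M)) (nat_lit 40) z1 u (Nat.mod (MG u) M)) (mRel MG [T_y, T_y, T_x, T_y] [T_yi, T_xi, T_yi, T_xi, T_yi, T_yi, T_yi, T_xi, T_yi, T_xi, T_yi, T_yi, T_yi, T_xi, T_yi, T_xi, T_yi, T_yi, T_yi, T_xi] M (Nat.sub (MG u) (Nat.mod (MG u)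 M)) (nat_lit 40) z1 u (Nat.mod (MG u) M)) (Nat.ble (nat_lit 378) j)) (Nat.ble (nat_lit 377) j)) (Nat.ble (nat_lit 376) j)) (Nat.ble (nat_lit 375) j)) (Nat.ble (nat_lit 373) j)
noncomputable def dM_83 (j z1 z2 u : ℕ) : Bool :=
  Bool.rec (motive := fun _ => Bool) (dM_81 j z1 z2 u) (dM_82 j z1 z2 u) (Nat.ble (nat_lit 369) j)
noncomputable def dM_84 (j z1 z2 u : ℕ) : Bool :=
  Bool.rec (motive := fun _ => Bool) (Bool.rec (motive := fun _ => Bool) (Bool.rec (motive := fun _ => Bool) (mRel MG [T_yi, T_yi, T_xi, T_yi, T_xi, T_yi, T_yi, T_yi, T_xi, T_yi, T_xi, T_yi, T_yi, T_yi, T_xi, T_yi] [T_y, T_x, T_y, T_x, T_y, T_y, T_y, T_x] M (Nat.sub (MG u) (Nat.mod (MG u) M)) (nat_lit 40) z1 u (Nat.mod (MG u) M)) (mRel MG [T_yi, T_yi, T_yi, T_xi, T_yi] [T_x, T_y, T_x, T_y, T_y, T_y, T_x, T_y, T_x, T_y, T_y, T_y, T_x, T_y,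 T_x, T_y, T_y, T_y, T_x] M (Nat.sub (MG u) (Nat.mod (MG u) M)) (nat_lit 40) z1 u (Nat.mod (MG u) M)) (Nat.ble (nat_lit 380) j)) (Bool.rec (motive := fun _ => Bool) (mRel MG [T_yi, T_xi, T_yi, T_xi, T_yi, T_yi, T_yi, T_xi, T_yi, T_xi, T_yi] [T_y, T_y, T_x, T_y, T_x, T_y, T_y, T_y, T_x, T_y, T_x, T_y, T_y] M (Nat.sub (MG u) (Nat.mod (MG u) M)) (nat_lit 40) z1 u (Nat.mod (MG u) M)) (mRel MG [T_x, T_y, T_y, T_y] [T_yi, T_xi, T_yi, T_yi, T_yi, T_xi, T_yi, T_xi, T_yi, T_yi, T_yi, T_xi, T_yi, T_xi, T_yi, T_yi, T_yi, T_xi, T_yi, T_xi] M (Nat.sub (MG u) (Nat.mod (MG u) M)) (nat_lit 40) z1 u (Nat.mod (MG u) M)) (Nat.ble (nat_lit 382) j)) (Nat.ble (nat_lit 381) j)) (Bool.rec (motive := fun _ => Bool) (Bool.rec (motive := fun _ => Bool) (mRel MG [T_yi, T_yi, T_yi, T_xi] [T_xi, T_y, T_y, T_x, T_y, T_y, T_y, T_xi, T_y, T_y,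 T_x, T_y, T_y, T_y, T_xi, T_y, T_y] M (Nat.sub (MG u) (Nat.mod (MG u) M)) (nat_lit 40) z1 u (Nat.mod (MG u) M)) (mRel MG [T_yi, T_yi, T_x, T_yi, T_yi, T_yi, T_xi, T_yi, T_yi] [T_x, T_y, T_y, T_y, T_xi, T_y, T_y, T_x, T_y, T_y, T_y, T_xi] M (Nat.sub (MG u) (Nat.mod (MG u) M)) (nat_lit 40) z1 u (Nat.mod (MG u) M)) (Nat.ble (nat_lit 384) j)) (Bool.rec (motive := fun _ => Bool) (mRel MG [T_x, T_y, T_x, T_y, T_y, T_y, T_x, T_y, T_x, T_y, T_y, T_y, T_x, T_y, T_x, T_y] [T_yi, T_yi, T_yi, T_xi, T_yi, T_xi, T_yi, T_yi] M (Nat.sub (MG u) (Nat.mod (MG u) M)) (nat_lit 40) z1 u (Nat.mod (MG u) M)) (mRel MG [T_x, T_x, T_yi, T_x] [T_yi, T_xi] M (Nat.sub (MG u) (Nat.mod (MG u) M)) (nat_lit 40) z1 u (Nat.mod (MG u) M)) (Nat.ble (nat_lit 386) j)) (Nat.ble (nat_lit 385) j)) (Nat.ble (nat_lit 383) j)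
noncomputable def dM_85 (j z1 z2 u : ℕ) : Bool :=
  Bool.rec (motive := fun _ => Bool) (Bool.rec (motive := fun _ => Bool) (Bool.rec (motive := fun _ => Bool) (mRel MG [T_y, T_y, T_x, T_y, T_x, T_y, T_y, T_y, T_x, T_y, T_x, T_y, T_y, T_y, T_x, T_y, T_x, T_y] [T_yi, T_xi, T_yi, T_xi, T_yi, T_yi] M (Nat.sub (MG u) (Nat.mod (MG u) M)) (nat_lit 40) z1 u (Nat.mod (MG u) M)) (mRel MG [T_yi, T_xi, T_y, T_x, T_yi, T_xi, T_y, T_x, T_yi] [T_xi, T_yi, T_x] M (Nat.sub (MG u) (Nat.mod (MG u) M)) (nat_lit 40) z1 u (Nat.mod (MG u) M)) (Nat.ble (nat_lit 388) j)) (Bool.rec (motive := fun _ => Bool) (mRel MG [T_y, T_y, T_x, T_y, T_x, T_y, T_y, T_y, T_x, T_y, T_x, T_y, T_y, T_y, T_x, T_y, T_x, T_y, T_y, T_y, T_x] [T_yi, T_xi, T_yi] M (Nat.sub (MG u) (Nat.mod (MG u) M)) (nat_lit 40) z1 u (Nat.mod (MG u) M)) (mRel MG [T_xi, T_y,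 T_y, T_x, T_y, T_y, T_y, T_xi, T_y, T_y, T_x, T_y, T_y, T_y, T_xi, T_y, T_y, T_x, T_y] [T_yi, T_yi] M (Nat.sub (MG u) (Nat.mod (MG u) M)) (nat_lit 40) z1 u (Nat.mod (MG u) M)) (Nat.ble (nat_lit 390) j)) (Nat.ble (nat_lit 389) j)) (Bool.rec (motive := fun _ => Bool) (Bool.rec (motive := fun _ => Bool) (mRel MG [T_x, T_yi, T_yi] [T_y, T_y, T_x, T_y, T_y, T_y, T_xi, T_y, T_y, T_x, T_y, T_y, T_y, T_xi, T_y, T_y, T_x, T_y] M (Nat.sub (MG u) (Nat.mod (MG u) M)) (nat_lit 40) z1 u (Nat.mod (MG u) M)) (mRel MG [T_yi, T_xi, T_yi, T_yi, T_yi, T_xi] [T_x, T_y, T_y, T_y, T_x, T_y, T_x, T_y, T_y, T_y, T_x, T_y, T_x, T_y, T_y, T_y, T_x, T_y] M (Nat.sub (MG u) (Nat.mod (MG u) M)) (nat_lit 40) z1 u (Nat.mod (MG u) M)) (Nat.ble (nat_lit 392) j)) (Bool.rec (motive := fun _ => Bool) (mRel MG [T_yi, T_xi, T_yi, T_yi, T_x, T_yi,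 T_yi, T_yi, T_xi, T_yi, T_yi, T_x, T_yi, T_yi, T_yi, T_xi, T_yi, T_yi] [T_y, T_y, T_xi] M (Nat.sub (MG u) (Nat.mod (MG u) M)) (nat_lit 40) z1 u (Nat.mod (MG u) M)) (mRel MG [T_xi, T_y, T_y, T_x, T_y, T_y, T_y, T_xi, T_y, T_y, T_x, T_y, T_y, T_y, T_xi, T_y, T_y, T_x, T_y, T_y, T_y] [] M (Nat.sub (MG u) (Nat.mod (MG u) M)) (nat_lit 40) z1 u (Nat.mod (MG u) M)) (Nat.ble (nat_lit 394) j)) (Nat.ble (nat_lit 393) j)) (Nat.ble (nat_lit 391) j)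
noncomputable def dM_86 (j z1 z2 u : ℕ) : Bool :=
  Bool.rec (motive := fun _ => Bool) (dM_84 j z1 z2 u) (dM_85 j z1 z2 u) (Nat.ble (nat_lit 387) j)
noncomputable def dM_87 (j z1 z2 u : ℕ) : Bool :=
  Bool.rec (motive := fun _ => Bool) (Bool.rec (motive := fun _ => Bool) (Bool.rec (motive := fun _ => Bool) (mRel MG [T_x, T_y, T_y, T_y, T_x, T_y] [T_yi, T_xi, T_yi, T_yi, T_yi, T_xi, T_yi, T_xi, T_yi, T_yi, T_yi, T_xi, T_yi, T_xi, T_yi, T_yi, T_yi, T_xi] M (Nat.sub (MG u) (Nat.mod (MG u) M)) (nat_lit 40) z1 u (Nat.mod (MG u) M)) (mRel MG [T_xi, T_y, T_y, T_x, T_y, T_y, T_y, T_xi, T_y, T_y, T_x, T_y, T_y, T_y, T_xi, T_y, T_y] [T_yi, T_yi, T_yi, T_xi] M (Nat.sub (MG u) (Nat.mod (MG u) M)) (nat_lit 40) z1 u (Nat.mod (MG u) M)) (Nat.ble (nat_lit 396) j)) (Bool.rec (motive := fun _ => Bool) (mRel MG [T_yi, T_yi, T_yi,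 T_xi, T_yi, T_yi, T_x, T_yi, T_yi, T_yi, T_xi, T_yi, T_yi, T_x, T_yi] [T_xi, T_y, T_y, T_x, T_y, T_y] M (Nat.sub (MG u) (Nat.mod (MG u) M)) (nat_lit 40) z1 u (Nat.mod (MG u) M)) (mRel MG [T_xi, T_yi, T_yi, T_yi, T_xi, T_yi, T_xi, T_yi, T_yi, T_yi, T_xi, T_yi, T_xi, T_yi, T_yi, T_yi] [T_y, T_x, T_y, T_y, T_y, T_x, T_y, T_x] M (Nat.sub (MG u) (Nat.mod (MG u) M)) (nat_lit 40) z1 u (Nat.mod (MG u) M)) (Nat.ble (nat_lit 398) j)) (Nat.ble (nat_lit 397) j)) (Bool.rec (motive := fun _ => Bool) (Bool.rec (motive := fun _ => Bool) (mRel MG [T_xi, T_yi] [T_y, T_y, T_y, T_xi, T_y, T_y, T_x, T_y, T_y, T_y, T_xi, T_y, T_y, T_x, T_y, T_y, T_y, T_xi, T_y] M (Nat.sub (MG u) (Nat.mod (MG u) M)) (nat_lit 40) z1 u (Nat.mod (MG u) M)) (mRel MG [T_yi, T_x, T_x, T_y, T_x] [T_xi] M (Nat.sub (MG u) (Nat.mod (MG u) M)) (nat_lit 40)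 z1 u (Nat.mod (MG u) M)) (Nat.ble (nat_lit 400) j)) (Bool.rec (motive := fun _ => Bool) (mRel MG [T_y, T_y, T_y, T_x, T_y, T_x, T_y, T_y] [T_xi, T_yi, T_xi, T_yi, T_yi, T_yi, T_xi, T_yi, T_xi, T_yi, T_yi, T_yi, T_xi, T_yi, T_xi, T_yi] M (Nat.sub (MG u) (Nat.mod (MG u) M)) (nat_lit 40) z1 u (Nat.mod (MG u) M)) (mRel MG [T_yi, T_xi, T_yi, T_yi, T_yi, T_xi, T_yi, T_xi] [T_x, T_y, T_y, T_y, T_x, T_y, T_x, T_y, T_y, T_y, T_x, T_y, T_x, T_y, T_y, T_y] M (Nat.sub (MG u) (Nat.mod (MG u) M)) (nat_lit 40) z1 u (Nat.mod (MG u) M)) (Nat.ble (nat_lit 402) j)) (Nat.ble (nat_lit 401) j)) (Nat.ble (nat_lit 399) j)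
noncomputable def dM_88 (j z1 z2 u : ℕ) : Bool :=
  Bool.rec (motive := fun _ => Bool) (Bool.rec (motive := fun _ => Bool) (Bool.rec (motive := fun _ => Bool) (mRel MG [T_y, T_y, T_x, T_y, T_x, T_y, T_y, T_y, T_x, T_y, T_x, T_y, T_y] [T_yi, T_xi, T_yi, T_xi, T_yi, T_yi, T_yi, T_xi, T_yi, T_xi, T_yi] M (Nat.sub (MG u) (Nat.mod (MG u) M)) (nat_lit 40) z1 u (Nat.mod (MG u) M)) (mRel MG [T_y, T_x, T_y, T_x, T_y, T_y, T_y, T_x, T_y, T_x, T_y, T_y, T_y, T_x, T_y, T_x] [T_yi, T_yi, T_xi, T_yi, T_xi, T_yi, T_yi, T_yi] M (Nat.sub (MG u) (Nat.mod (MG u) M)) (nat_lit 40) z1 u (Nat.mod (MG u) M)) (Nat.ble (nat_lit 404) j)) (Bool.rec (motive := fun _ => Bool) (mRel MG [T_y, T_xi, T_y, T_y, T_x, T_y, T_y, T_y, T_xi, T_y, T_y, T_x, T_y, T_y, T_y, T_xi, T_y] [T_yi, T_yi, T_xi, T_yi] M (Nat.sub (MG u) (Nat.mod (MG u) M)) (nat_lit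 40) z1 u (Nat.mod (MG u) M)) (mRel MG [T_yi, T_yi, T_xi, T_yi, T_yi, T_x, T_yi, T_yi, T_yi, T_xi, T_yi, T_yi, T_x, T_yi, T_yi, T_yi, T_xi, T_yi, T_yi, T_x, T_yi] [] M (Nat.sub (MG u) (Nat.mod (MG u) M)) (nat_lit 40) z1 u (Nat.mod (MG u) M)) (Nat.ble (nat_lit 406) j)) (Nat.ble (nat_lit 405) j)) (Bool.rec (motive := fun _ => Bool) (Bool.rec (motive := fun _ => Bool) (mRel MG [T_xi, T_yi, T_yi, T_yi, T_xi, T_yi] [T_y, T_x, T_y, T_y, T_y, T_x, T_y, T_x, T_y, T_y, T_y, T_x, T_y, T_x, T_y, T_y, T_y, T_x] M (Nat.sub (MG u) (Nat.mod (MG u) M)) (nat_lit 40) z1 u (Nat.mod (MG u) M)) (mRel MG [T_xi, T_yi, T_yi, T_yi, T_xi, T_yi, T_xi, T_yi, T_yi, T_yi, T_xi, T_yi, T_xi, T_yi, T_yi, T_yi, T_xi, T_yi] [T_y, T_x, T_y, T_y, T_y, T_x] M (Nat.sub (MG u) (Nat.mod (MG u) M)) (nat_lit 40) z1 u (Nat.mod (MG u) M)) (Nat.ble (nat_lit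 408) j)) (Bool.rec (motive := fun _ => Bool) (mRel MG [T_xi, T_yi, T_xi, T_yi, T_yi, T_yi, T_xi, T_yi, T_xi, T_yi, T_yi] [T_y, T_y, T_y, T_x, T_y, T_x, T_y, T_y, T_y, T_x, T_y, T_x, T_y] M (Nat.sub (MG u) (Nat.mod (MG u) M)) (nat_lit 40) z1 u (Nat.mod (MG u) M)) (Bool.rec (motive := fun _ => Bool) (mRel MG [T_y, T_x, T_y, T_y, T_y, T_x, T_y, T_x, T_y, T_y, T_y, T_x, T_y, T_x, T_y, T_y] [T_xi, T_yi, T_yi, T_yi, T_xi, T_yi, T_xi, T_yi] M (Nat.sub (MG u) (Nat.mod (MG u) M)) (nat_lit 40) z1 u (Nat.mod (MG u) M)) (mRel MG [T_x, T_yi, T_yi, T_yi, T_xi, T_yi, T_yi, T_x, T_yi, T_yi, T_yi, T_xi, T_yi, T_yi, T_x, T_yi, T_yi, T_yi, T_xi, T_yi] [T_y] M (Nat.sub (MG u) (Nat.mod (MG u) M)) (nat_lit 40) z1 u (Nat.mod (MG u) M)) (Nat.ble (nat_lit 411) j)) (Nat.ble (nat_lit 410) j)) (Nat.ble (nat_lit 409) j)) (Nat.ble (nat_lit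 407) j)
noncomputable def dM_89 (j z1 z2 u : ℕ) : Bool :=
  Bool.rec (motive := fun _ => Bool) (dM_87 j z1 z2 u) (dM_88 j z1 z2 u) (Nat.ble (nat_lit 403) j)
noncomputable def dM_90 (j z1 z2 u : ℕ) : Bool :=
  Bool.rec (motive := fun _ => Bool) (dM_86 j z1 z2 u) (dM_89 j z1 z2 u) (Nat.ble (nat_lit 395) j)
noncomputable def dM_91 (j z1 z2 u : ℕ) : Bool :=
  Bool.rec (motive := fun _ => Bool) (dM_83 j z1 z2 u) (dM_90 j z1 z2 u) (Nat.ble (nat_lit 379) j)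
noncomputable def dM_92 (j z1 z2 u : ℕ) : Bool :=
  Bool.rec (motive := fun _ => Bool) (Bool.rec (motive := fun _ => Bool) (Bool.rec (motive := fun _ => Bool) (mRel MG [T_y, T_xi, T_y, T_y, T_x, T_y, T_y, T_y, T_xi, T_y, T_y, T_x, T_y, T_y, T_y, T_xi, T_y, T_y, T_x, T_y, T_y] [] M (Nat.sub (MG u) (Nat.mod (MG u) M)) (nat_lit 40) z1 u (Nat.mod (MG u) M)) (mRel MG [T_yi, T_yi, T_yi, T_xi, T_yi, T_xi, T_yi, T_yi, T_yi, T_xi, T_yi, T_xi, T_yi, T_yi] [T_x, T_y, T_x, T_y, T_y, T_y, T_x, T_y, T_x, T_y] M (Nat.sub (MG u) (Nat.mod (MG u) M)) (nat_lit 40) z1 u (Nat.mod (MG u) M)) (Nat.ble (nat_lit 413) j)) (Bool.rec (motive := fun _ => Bool) (mRel MG [T_x] [T_xi, T_yi, T_xi, T_xi, T_y] M (Nat.sub (MG u) (Nat.mod (MG u) M)) (nat_lit 40) z1 u (Nat.mod (MG u) M)) (mRel MG [T_yi, T_xi] [T_y, T_y, T_xi, T_y, T_y, T_x, T_y,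 T_y, T_y, T_xi, T_y, T_y, T_x, T_y, T_y, T_y, T_xi, T_y, T_y] M (Nat.sub (MG u) (Nat.mod (MG u) M)) (nat_lit 40) z1 u (Nat.mod (MG u) M)) (Nat.ble (nat_lit 415) j)) (Nat.ble (nat_lit 414) j)) (Bool.rec (motive := fun _ => Bool) (Bool.rec (motive := fun _ => Bool) (mRel MG [T_x, T_y, T_y, T_y, T_xi, T_y, T_y, T_x, T_y, T_y, T_y, T_xi, T_y, T_y, T_x, T_y, T_y, T_y, T_xi, T_y] [T_yi] M (Nat.sub (MG u) (Nat.mod (MG u) M)) (nat_lit 40) z1 u (Nat.mod (MG u) M)) (mRel MG [T_yi, T_yi, T_xi, T_yi, T_xi, T_yi, T_yi, T_yi, T_xi, T_yi, T_xi, T_yi, T_yi, T_yi] [T_y, T_x, T_y, T_x, T_y, T_y, T_y, T_x, T_y, T_x] M (Nat.sub (MG u) (Nat.mod (MG u) M)) (nat_lit 40) z1 u (Nat.mod (MG u) M)) (Nat.ble (nat_lit 417) j)) (Bool.rec (motive := fun _ => Bool) (mRel MG [T_yi, T_yi, T_yi, T_xi, T_yi, T_xi, T_yi, T_yi, T_yi, T_xi, T_yi,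 T_xi, T_yi, T_yi, T_yi, T_xi] [T_x, T_y, T_x, T_y, T_y, T_y, T_x, T_y] M (Nat.sub (MG u) (Nat.mod (MG u) M)) (nat_lit 40) z1 u (Nat.mod (MG u) M)) (mRel MG [T_y, T_x, T_y, T_y, T_y, T_x, T_y, T_x, T_y, T_y, T_y] [T_xi, T_yi, T_yi, T_yi, T_xi, T_yi, T_xi, T_yi, T_yi, T_yi, T_xi, T_yi, T_xi] M (Nat.sub (MG u) (Nat.mod (MG u) M)) (nat_lit 40) z1 u (Nat.mod (MG u) M)) (Nat.ble (nat_lit 419) j)) (Nat.ble (nat_lit 418) j)) (Nat.ble (nat_lit 416) j)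
noncomputable def dM_93 (j z1 z2 u : ℕ) : Bool :=
  Bool.rec (motive := fun _ => Bool) (Bool.rec (motive := fun _ => Bool) (Bool.rec (motive := fun _ => Bool) (mRel MG [T_yi, T_yi, T_xi, T_yi, T_yi, T_x, T_yi, T_yi, T_yi, T_xi, T_yi, T_yi, T_x, T_yi] [T_y, T_xi, T_y, T_y, T_x, T_y, T_y] M (Nat.sub (MG u) (Nat.mod (MG u) M)) (nat_lit 40) z1 u (Nat.mod (MG u) M)) (mRel MG [T_x, T_y, T_y, T_y] [T_yi, T_yi, T_x, T_yi, T_yi, T_yi, T_xi, T_yi, T_yi, T_x, T_yi, T_yi, T_yi, T_xi, T_yi, T_yi, T_x] M (Nat.sub (MG u) (Nat.mod (MG u) M)) (nat_lit 40) z1 u (Nat.mod (MG u) M)) (Nat.ble (nat_lit 421) j)) (Bool.rec (motive := fun _ => Bool) (mRel MG [T_y, T_xi, T_y, T_y, T_x, T_y, T_y, T_y, T_xi, T_y, T_y, T_x, T_y, T_y, T_y, T_xi, T_y, T_y, T_x, T_y] [T_yi] M (Nat.sub (MG u) (Nat.mod (MG u) M)) (nat_lit 40) z1 u (Nat.mod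 (MG u) M)) (mRel MG [T_yi, T_yi, T_yi, T_xi, T_yi, T_yi, T_x, T_yi, T_yi, T_yi, T_xi, T_yi, T_yi, T_x, T_yi, T_yi, T_yi, T_xi, T_yi, T_yi, T_x] [] M (Nat.sub (MG u) (Nat.mod (MG u) M)) (nat_lit 40) z1 u (Nat.mod (MG u) M)) (Nat.ble (nat_lit 423) j)) (Nat.ble (nat_lit 422) j)) (Bool.rec (motive := fun _ => Bool) (Bool.rec (motive := fun _ => Bool) (mRel MG [T_y] [T_xi, T_yi, T_xi, T_yi, T_xi, T_yi, T_xi, T_yi, T_xi, T_yi, T_xi, T_yi, T_xi, T_yi, T_xi] M (Nat.sub (MG u) (Nat.mod (MG u) M)) (nat_lit 40) z1 u (Nat.mod (MG u) M)) (mRel MG [T_xi, T_yi, T_yi, T_yi, T_xi] [T_y, T_x, T_y, T_y, T_y, T_x, T_y, T_x, T_y, T_y, T_y, T_x, T_y, T_x, T_y, T_y, T_y, T_x, T_y] M (Nat.sub (MG u) (Nat.mod (MG u) M)) (nat_lit 40) z1 u (Nat.mod (MG u) M)) (Nat.ble (nat_lit 425) j)) (Bool.rec (motive := fun _ => Bool) (mRel MG [T_y,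 T_y, T_y, T_xi, T_y] [T_xi, T_yi, T_yi, T_x, T_yi, T_yi, T_yi, T_xi, T_yi, T_yi, T_x, T_yi, T_yi, T_yi, T_xi, T_yi] M (Nat.sub (MG u) (Nat.mod (MG u) M)) (nat_lit 40) z1 u (Nat.mod (MG u) M)) (mRel MG [T_y] [T_yi, T_yi, T_xi, T_yi, T_yi, T_x, T_yi, T_yi, T_yi, T_xi, T_yi, T_yi, T_x, T_yi, T_yi, T_yi, T_xi, T_yi, T_yi, T_x] M (Nat.sub (MG u) (Nat.mod (MG u) M)) (nat_lit 40) z1 u (Nat.mod (MG u) M)) (Nat.ble (nat_lit 427) j)) (Nat.ble (nat_lit 426) j)) (Nat.ble (nat_lit 424) j)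
noncomputable def dM_94 (j z1 z2 u : ℕ) : Bool :=
  Bool.rec (motive := fun _ => Bool) (dM_92 j z1 z2 u) (dM_93 j z1 z2 u) (Nat.ble (nat_lit 420) j)
noncomputable def dM_95 (j z1 z2 u : ℕ) : Bool :=
  Bool.rec (motive := fun _ => Bool) (Bool.rec (motive := fun _ => Bool) (Bool.rec (motive := fun _ => Bool) (mRel MG [T_y, T_x, T_y, T_y, T_y, T_xi, T_y, T_y] [T_yi, T_x, T_yi, T_yi, T_yi, T_xi, T_yi, T_yi, T_x, T_yi, T_yi, T_yi, T_xi] M (Nat.sub (MG u) (Nat.mod (MG u) M)) (nat_lit 40) z1 u (Nat.mod (MG u) M)) (mRel MG [T_x, T_yi, T_yi, T_yi, T_xi, T_yi, T_yi] [T_y, T_y, T_x, T_y, T_y, T_y, T_xi, T_y, T_y, T_x, T_y, T_y, T_y, T_xi] M (Nat.sub (MG u) (Nat.mod (MG u) M)) (nat_lit 40) z1 u (Nat.mod (MG u) M)) (Nat.ble (nat_lit 429) j)) (Bool.rec (motive := fun _ => Bool) (mRel MG [T_y, T_xi, T_y, T_y, T_x, T_y, T_y,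 T_y, T_xi, T_y, T_y, T_x, T_y, T_y, T_y, T_xi] [T_yi, T_yi, T_xi, T_yi, T_yi] M (Nat.sub (MG u) (Nat.mod (MG u) M)) (nat_lit 40) z1 u (Nat.mod (MG u) M)) (mRel MG [T_yi, T_yi, T_xi] [T_y, T_xi, T_y, T_y, T_x, T_y, T_y, T_y, T_xi, T_y, T_y, T_x, T_y, T_y, T_y, T_xi, T_y, T_y] M (Nat.sub (MG u) (Nat.mod (MG u) M)) (nat_lit 40) z1 u (Nat.mod (MG u) M)) (Nat.ble (nat_lit 431) j)) (Nat.ble (nat_lit 430) j)) (Bool.rec (motive := fun _ => Bool) (Bool.rec (motive := fun _ => Bool) (mRel MG [T_y, T_y, T_x, T_y, T_x, T_y, T_y, T_y, T_x, T_y, T_x, T_y, T_y, T_y, T_x, T_y, T_x] [T_yi, T_xi, T_yi, T_xi, T_yi, T_yi, T_yi] M (Nat.sub (MG u) (Nat.mod (MG u) M)) (nat_lit 40) z1 u (Nat.mod (MG u) M)) (mRel MG [T_yi, T_yi, T_yi, T_xi, T_yi, T_yi, T_x, T_yi, T_yi, T_yi, T_xi, T_yi, T_yi, T_x, T_yi, T_yi, T_yi, T_xi] [T_xi, T_y,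 T_y] M (Nat.sub (MG u) (Nat.mod (MG u) M)) (nat_lit 40) z1 u (Nat.mod (MG u) M)) (Nat.ble (nat_lit 433) j)) (Bool.rec (motive := fun _ => Bool) (mRel MG [T_xi, T_yi, T_yi, T_x, T_yi, T_yi, T_yi, T_xi, T_yi, T_yi, T_x, T_yi, T_yi, T_yi] [T_y, T_y, T_y, T_xi, T_y, T_y, T_x] M (Nat.sub (MG u) (Nat.mod (MG u) M)) (nat_lit 40) z1 u (Nat.mod (MG u) M)) (mRel MG [T_yi, T_yi, T_yi, T_xi, T_yi, T_xi, T_yi] [T_x, T_y, T_x, T_y, T_y, T_y, T_x, T_y, T_x, T_y, T_y, T_y, T_x, T_y, T_x, T_y, T_y] M (Nat.sub (MG u) (Nat.mod (MG u) M)) (nat_lit 40) z1 u (Nat.mod (MG u) M)) (Nat.ble (nat_lit 435) j)) (Nat.ble (nat_lit 434) j)) (Nat.ble (nat_lit 432) j)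
noncomputable def dM_96 (j z1 z2 u : ℕ) : Bool :=
  Bool.rec (motive := fun _ => Bool) (Bool.rec (motive := fun _ => Bool) (Bool.rec (motive := fun _ => Bool) (mRel MG [T_y] [T_xi, T_yi, T_yi, T_x, T_yi, T_yi, T_yi, T_xi, T_yi, T_yi, T_x, T_yi, T_yi, T_yi, T_xi, T_yi, T_yi, T_x, T_yi, T_yi] M (Nat.sub (MG u) (Nat.mod (MG u) M)) (nat_lit 40) z1 u (Nat.mod (MG u) M)) (mRel MG [T_xi, T_yi, T_x, T_y, T_xi, T_yi, T_x, T_y] [T_yi, T_xi, T_y, T_x] M (Nat.sub (MG u) (Nat.mod (MG u) M)) (nat_lit 40) z1 u (Nat.mod (MG u) M)) (Nat.ble (nat_lit 437) j)) (Bool.rec (motive := fun _ => Bool) (mRel MG [T_y, T_x, T_y, T_y, T_y, T_x, T_y] [T_xi, T_yi, T_yi, T_yi, T_xi, T_yi, T_xi, T_yi, T_yi, T_yi, T_xi, T_yi, T_xi, T_yi, T_yi, T_yi, T_xi] M (Nat.sub (MG u) (Nat.mod (MG u) M)) (nat_lit 40) z1 u (Nat.mod (MG u) M)) (mRel MG [T_y,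 T_y, T_x, T_y, T_x, T_y, T_y] [T_yi, T_xi, T_yi, T_xi, T_yi, T_yi, T_yi, T_xi, T_yi, T_xi, T_yi, T_yi, T_yi, T_xi, T_yi, T_xi, T_yi] M (Nat.sub (MG u) (Nat.mod (MG u) M)) (nat_lit 40) z1 u (Nat.mod (MG u) M)) (Nat.ble (nat_lit 439) j)) (Nat.ble (nat_lit 438) j)) (Bool.rec (motive := fun _ => Bool) (Bool.rec (motive := fun _ => Bool) (mRel MG [T_y, T_y, T_xi, T_y, T_y, T_x, T_y, T_y, T_y, T_xi, T_y, T_y, T_x, T_y, T_y, T_y, T_xi, T_y, T_y, T_x, T_y] [] M (Nat.sub (MG u) (Nat.mod (MG u) M)) (nat_lit 40) z1 u (Nat.mod (MG u) M)) (mRel MG [T_y, T_y, T_y, T_x, T_y] [T_xi, T_yi, T_xi, T_yi, T_yi, T_yi, T_xi, T_yi, T_xi, T_yi, T_yi, T_yi, T_xi, T_yi, T_xi, T_yi, T_yi, T_yi, T_xi] M (Nat.sub (MG u) (Nat.mod (MG u) M)) (nat_lit 40) z1 u (Nat.mod (MG u) M)) (Nat.ble (nat_lit 441) j)) (Bool.rec (motive := fun _ => Bool)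 (mRel MG [T_x, T_y, T_xi, T_yi, T_x, T_y, T_xi, T_yi, T_x, T_y, T_xi, T_yi] [] M (Nat.sub (MG u) (Nat.mod (MG u) M)) (nat_lit 40) z1 u (Nat.mod (MG u) M)) (Bool.rec (motive := fun _ => Bool) (mRel MG [T_y, T_y] [T_yi, T_xi, T_yi, T_yi, T_x, T_yi, T_yi, T_yi, T_xi, T_yi, T_yi, T_x, T_yi, T_yi, T_yi, T_xi, T_yi, T_yi, T_x] M (Nat.sub (MG u) (Nat.mod (MG u) M)) (nat_lit 40) z1 u (Nat.mod (MG u) M)) (mRel MG [T_xi, T_yi, T_yi, T_x, T_yi, T_yi, T_yi, T_xi, T_yi, T_yi, T_x, T_yi, T_yi, T_yi, T_xi, T_yi, T_yi, T_x] [T_y, T_y, T_y] M (Nat.sub (MG u) (Nat.mod (MG u) M)) (nat_lit 40) z1 u (Nat.mod (MG u) M)) (Nat.ble (nat_lit 444) j)) (Nat.ble (nat_lit 443) j)) (Nat.ble (nat_lit 442) j)) (Nat.ble (nat_lit 440) j)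
noncomputable def dM_97 (j z1 z2 u : ℕ) : Bool :=
  Bool.rec (motive := fun _ => Bool) (dM_95 j z1 z2 u) (dM_96 j z1 z2 u) (Nat.ble (nat_lit 436) j)
noncomputable def dM_98 (j z1 z2 u : ℕ) : Bool :=
  Bool.rec (motive := fun _ => Bool) (dM_94 j z1 z2 u) (dM_97 j z1 z2 u) (Nat.ble (nat_lit 428) j)
noncomputable def dM_99 (j z1 z2 u : ℕ) : Bool :=
  Bool.rec (motive := fun _ => Bool) (Bool.rec (motive := fun _ => Bool) (Bool.rec (motive := fun _ => Bool) (mRel MG [T_y, T_y, T_y, T_x, T_y, T_x] [T_xi, T_yi, T_xi, T_yi, T_yi, T_yi, T_xi, T_yi, T_xi, T_yi, T_yi, T_yi, T_xi, T_yi, T_xi, T_yi, T_yi, T_yi] M (Nat.sub (MG u) (Nat.mod (MG u) M)) (nat_lit 40) z1 u (Nat.mod (MG u) M)) (mRel MG [T_xi, T_yi, T_yi, T_x] [T_y, T_y, T_y, T_xi, T_y, T_y, T_x, T_y, T_y, T_y, T_xi, T_y, T_y, T_x, T_y, T_y, T_y] M (Nat.sub (MG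 u) (Nat.mod (MG u) M)) (nat_lit 40) z1 u (Nat.mod (MG u) M)) (Nat.ble (nat_lit 446) j)) (Bool.rec (motive := fun _ => Bool) (mRel MG [T_y, T_y, T_y, T_x, T_y, T_x, T_y] [T_xi, T_yi, T_xi, T_yi, T_yi, T_yi, T_xi, T_yi, T_xi, T_yi, T_yi, T_yi, T_xi, T_yi, T_xi, T_yi, T_yi] M (Nat.sub (MG u) (Nat.mod (MG u) M)) (nat_lit 40) z1 u (Nat.mod (MG u) M)) (mRel MG [T_y, T_y, T_xi] [T_yi, T_xi, T_yi, T_yi, T_x, T_yi, T_yi, T_yi, T_xi, T_yi, T_yi, T_x, T_yi, T_yi, T_yi, T_xi, T_yi, T_yi] M (Nat.sub (MG u) (Nat.mod (MG u) M)) (nat_lit 40) z1 u (Nat.mod (MG u) M)) (Nat.ble (nat_lit 448) j)) (Nat.ble (nat_lit 447) j)) (Bool.rec (motive := fun _ => Bool) (Bool.rec (motive := fun _ => Bool) (mRel MG [T_y, T_y, T_x, T_y, T_x, T_y, T_y, T_y, T_x, T_y, T_x, T_y, T_y, T_y, T_x, T_y, T_x, T_y, T_y, T_y, T_x, T_y] [T_yi, T_xi] M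 (Nat.sub (MG u) (Nat.mod (MG u) M)) (nat_lit 40) z1 u (Nat.mod (MG u) M)) (mRel MG [T_x, T_yi, T_yi, T_yi] [T_y, T_y, T_x, T_y, T_y, T_y, T_xi, T_y, T_y, T_x, T_y, T_y, T_y, T_xi, T_y, T_y, T_x] M (Nat.sub (MG u) (Nat.mod (MG u) M)) (nat_lit 40) z1 u (Nat.mod (MG u) M)) (Nat.ble (nat_lit 450) j)) (Bool.rec (motive := fun _ => Bool) (mRel MG [T_y, T_y, T_xi, T_y, T_y, T_x] [T_yi, T_xi, T_yi, T_yi, T_x, T_yi, T_yi, T_yi, T_xi, T_yi, T_yi, T_x, T_yi, T_yi, T_yi] M (Nat.sub (MG u) (Nat.mod (MG u) M)) (nat_lit 40) z1 u (Nat.mod (MG u) M)) (mRel MG [T_yi] [T_x, T_y, T_y, T_y, T_xi, T_y, T_y, T_x, T_y, T_y, T_y, T_xi, T_y, T_y, T_x, T_y, T_y, T_y, T_xi, T_y] M (Nat.sub (MG u) (Nat.mod (MG u) M)) (nat_lit 40) z1 u (Nat.mod (MG u) M)) (Nat.ble (nat_lit 452) j)) (Nat.ble (nat_lit 451) j)) (Nat.ble (nat_lit 449) j)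
noncomputable def dM_100 (j z1 z2 u : ℕ) : Bool :=
  Bool.rec (motive := fun _ => Bool) (Bool.rec (motive := fun _ => Bool) (Bool.rec (motive := fun _ => Bool) (mRel MG [T_y, T_x, T_x, T_yi, T_x] [T_xi] M (Nat.sub (MG u) (Nat.mod (MG u) M)) (nat_lit 40) z1 u (Nat.mod (MG u) M)) (mRel MG [T_y, T_y, T_y, T_xi, T_y, T_y, T_x, T_y] [T_xi, T_yi, T_yi, T_x, T_yi, T_yi, T_yi, T_xi, T_yi, T_yi, T_x, T_yi, T_yi] M (Nat.sub (MG u) (Nat.mod (MG u) M)) (nat_lit 40) z1 u (Nat.mod (MG u) M)) (Nat.ble (nat_lit 454) j)) (Bool.rec (motive := fun _ => Bool) (mRel MG [T_y, T_x, T_y, T_y, T_y, T_xi, T_y, T_y, T_x, T_y, T_y, T_y, T_xi, T_y, T_y, T_x, T_y, T_y, T_y, T_xi] [T_yi] M (Nat.sub (MG u) (Nat.mod (MG u) M)) (nat_lit 40) z1 u (Nat.mod (MG u) M)) (mRel MG [T_y, T_x, T_y, T_x, T_y, T_y, T_y, T_x, T_y, T_x, T_y, T_y, T_y, T_x,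 T_y, T_x, T_y] [T_yi, T_yi, T_xi, T_yi, T_xi, T_yi, T_yi] M (Nat.sub (MG u) (Nat.mod (MG u) M)) (nat_lit 40) z1 u (Nat.mod (MG u) M)) (Nat.ble (nat_lit 456) j)) (Nat.ble (nat_lit 455) j)) (Bool.rec (motive := fun _ => Bool) (Bool.rec (motive := fun _ => Bool) (mRel MG [T_y, T_xi, T_y, T_y] [T_yi, T_yi, T_xi, T_yi, T_yi, T_x, T_yi, T_yi, T_yi, T_xi, T_yi, T_yi, T_x, T_yi, T_yi, T_yi, T_xi] M (Nat.sub (MG u) (Nat.mod (MG u) M)) (nat_lit 40) z1 u (Nat.mod (MG u) M)) (mRel MG [T_y, T_y] [T_xi, T_yi, T_yi, T_x, T_yi, T_yi, T_yi, T_xi, T_yi, T_yi, T_x, T_yi, T_yi, T_yi, T_xi, T_yi, T_yi, T_x, T_yi] M (Nat.sub (MG u) (Nat.mod (MG u) M)) (nat_lit 40) z1 u (Nat.mod (MG u) M)) (Nat.ble (nat_lit 458) j)) (Bool.rec (motive := fun _ => Bool) (mRel MG [T_y, T_y, T_x] [T_x, T_yi, T_yi, T_yi, T_xi, T_yi, T_yi, T_x, T_yi, T_yi,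 T_yi, T_xi, T_yi, T_yi, T_x, T_yi, T_yi, T_yi] M (Nat.sub (MG u) (Nat.mod (MG u) M)) (nat_lit 40) z1 u (Nat.mod (MG u) M)) (mRel MG [T_yi, T_yi, T_yi] [T_xi, T_y, T_y, T_x, T_y, T_y, T_y, T_xi, T_y, T_y, T_x, T_y, T_y, T_y, T_xi, T_y, T_y, T_x] M (Nat.sub (MG u) (Nat.mod (MG u) M)) (nat_lit 40) z1 u (Nat.mod (MG u) M)) (Nat.ble (nat_lit 460) j)) (Nat.ble (nat_lit 459) j)) (Nat.ble (nat_lit 457) j)
noncomputable def dM_101 (j z1 z2 u : ℕ) : Bool :=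
  Bool.rec (motive := fun _ => Bool) (dM_99 j z1 z2 u) (dM_100 j z1 z2 u) (Nat.ble (nat_lit 453) j)
noncomputable def dM_102 (j z1 z2 u : ℕ) : Bool :=
  Bool.rec (motive := fun _ => Bool) (Bool.rec (motive := fun _ => Bool) (Bool.rec (motive := fun _ => Bool) (mRel MG [T_xi, T_y, T_y, T_x] [T_yi, T_yi, T_yi, T_xi, T_yi, T_yi, T_x, T_yi, T_yi, T_yi, T_xi, T_yi, T_yi, T_x, T_yi, T_yi, T_yi] M (Nat.sub (MG u) (Nat.mod (MG u) M)) (nat_lit 40) z1 u (Nat.mod (MG u) M)) (mRel MG [T_xi, T_xi] [T_y, T_x, T_x, T_yi] M (Nat.sub (MG u) (Nat.mod (MG u) M)) (nat_lit 40) z1 u (Nat.mod (MG u) M)) (Nat.ble (nat_lit 462) j)) (Bool.rec (motive := fun _ => Bool) (mRel MG [T_yi, T_yi, T_xi, T_yi, T_yi, T_x, T_yi, T_yi, T_yi, T_xi, T_yi, T_yi, T_x, T_yi, T_yi, T_yi, T_xi, T_yi] [T_y, T_xi, T_y] M (Nat.sub (MG u) (Nat.mod (MG u)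 M)) (nat_lit 40) z1 u (Nat.mod (MG u) M)) (mRel MG [T_x] [T_yi, T_xi, T_yi, T_xi, T_yi, T_xi, T_yi, T_xi, T_yi, T_xi, T_yi, T_xi, T_yi, T_xi, T_yi] M (Nat.sub (MG u) (Nat.mod (MG u) M)) (nat_lit 40) z1 u (Nat.mod (MG u) M)) (Nat.ble (nat_lit 464) j)) (Nat.ble (nat_lit 463) j)) (Bool.rec (motive := fun _ => Bool) (Bool.rec (motive := fun _ => Bool) (mRel MG [T_yi, T_yi, T_yi, T_xi, T_yi, T_yi, T_x, T_yi, T_yi, T_yi, T_xi, T_yi, T_yi, T_x, T_yi, T_yi, T_yi, T_xi, T_yi, T_yi] [T_xi] M (Nat.sub (MG u) (Nat.mod (MG u) M)) (nat_lit 40) z1 u (Nat.mod (MG u) M)) (mRel MG [T_xi, T_yi, T_xi, T_yi, T_yi, T_yi, T_xi, T_yi, T_xi, T_yi] [T_y, T_y, T_y, T_x, T_y, T_x, T_y, T_y, T_y, T_x, T_y, T_x, T_y, T_y] M (Nat.sub (MG u) (Nat.mod (MG u) M)) (nat_lit 40) z1 u (Nat.mod (MG u) M)) (Nat.ble (nat_lit 466) j)) (Bool.rec (motive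 := fun _ => Bool) (mRel MG [T_x, T_y, T_y, T_y, T_x, T_y, T_x] [T_yi, T_xi, T_yi, T_yi, T_yi, T_xi, T_yi, T_xi, T_yi, T_yi, T_yi, T_xi, T_yi, T_xi, T_yi, T_yi, T_yi] M (Nat.sub (MG u) (Nat.mod (MG u) M)) (nat_lit 40) z1 u (Nat.mod (MG u) M)) (mRel MG [T_x, T_x, T_yi, T_x, T_x, T_y] [] M (Nat.sub (MG u) (Nat.mod (MG u) M)) (nat_lit 40) z1 u (Nat.mod (MG u) M)) (Nat.ble (nat_lit 468) j)) (Nat.ble (nat_lit 467) j)) (Nat.ble (nat_lit 465) j)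
noncomputable def dM_103 (j z1 z2 u : ℕ) : Bool :=
  Bool.rec (motive := fun _ => Bool) (Bool.rec (motive := fun _ => Bool) (Bool.rec (motive := fun _ => Bool) (mRel MG [T_x, T_x, T_yi] [T_yi, T_xi, T_xi] M (Nat.sub (MG u) (Nat.mod (MG u) M)) (nat_lit 40) z1 u (Nat.mod (MG u) M)) (mRel MG [T_y, T_x, T_y, T_x, T_y, T_y, T_y, T_x, T_y, T_x, T_y, T_y, T_y, T_x] [T_yi, T_yi, T_xi, T_yi, T_xi, T_yi, T_yi, T_yi, T_xi, T_yi] M (Nat.sub (MG u) (Nat.mod (MG u) M)) (nat_lit 40) z1 u (Nat.mod (MG u) M)) (Nat.ble (nat_lit 470) j)) (Bool.rec (motive := fun _ => Bool) (mRel MG [T_x, T_yi, T_yi, T_yi, T_xi, T_yi] [T_y, T_y, T_x, T_y, T_y, T_y, T_xi, T_y, T_y, T_x, T_y, T_y, T_y, T_xi, T_y] M (Nat.sub (MG u) (Nat.mod (MG u) M)) (nat_lit 40) z1 u (Nat.mod (MG u) M)) (mRel MG [T_yi, T_yi, T_yi, T_xi, T_yi, T_yi, T_x, T_yi, T_yi,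 T_yi, T_xi, T_yi, T_yi, T_x, T_yi, T_yi, T_yi, T_xi, T_yi] [T_xi, T_y] M (Nat.sub (MG u) (Nat.mod (MG u) M)) (nat_lit 40) z1 u (Nat.mod (MG u) M)) (Nat.ble (nat_lit 472) j)) (Nat.ble (nat_lit 471) j)) (Bool.rec (motive := fun _ => Bool) (Bool.rec (motive := fun _ => Bool) (mRel MG [T_y, T_x, T_y, T_x, T_y, T_y, T_y, T_x, T_y] [T_yi, T_yi, T_xi, T_yi, T_xi, T_yi, T_yi, T_yi, T_xi, T_yi, T_xi, T_yi, T_yi, T_yi, T_xi] M (Nat.sub (MG u) (Nat.mod (MG u) M)) (nat_lit 40) z1 u (Nat.mod (MG u) M)) (mRel MG [T_x, T_x, T_y, T_x, T_x, T_yi] [] M (Nat.sub (MG u) (Nat.mod (MG u) M)) (nat_lit 40) z1 u (Nat.mod (MG u) M)) (Nat.ble (nat_lit 474) j)) (Bool.rec (motive := fun _ => Bool) (mRel MG [T_yi, T_yi, T_xi, T_yi, T_yi, T_x, T_yi, T_yi, T_yi, T_xi, T_yi, T_yi, T_x, T_yi, T_yi, T_yi, T_xi, T_yi, T_yi, T_x] [T_y] M (Nat.sub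 (MG u) (Nat.mod (MG u) M)) (nat_lit 40) z1 u (Nat.mod (MG u) M)) (Bool.rec (motive := fun _ => Bool) (mRel MG [T_yi, T_yi, T_xi, T_yi, T_xi, T_yi, T_yi] [T_y, T_x, T_y, T_x, T_y, T_y, T_y, T_x, T_y, T_x, T_y, T_y, T_y, T_x, T_y, T_x, T_y] M (Nat.sub (MG u) (Nat.mod (MG u) M)) (nat_lit 40) z1 u (Nat.mod (MG u) M)) (mRel MG [T_xi, T_yi, T_xi, T_yi, T_yi, T_yi, T_xi, T_yi, T_xi, T_yi, T_yi, T_yi, T_xi, T_yi, T_xi, T_yi, T_yi, T_yi] [T_y, T_y, T_y, T_x, T_y, T_x] M (Nat.sub (MG u) (Nat.mod (MG u) M)) (nat_lit 40) z1 u (Nat.mod (MG u) M)) (Nat.ble (nat_lit 477) j)) (Nat.ble (nat_lit 476) j)) (Nat.ble (nat_lit 475) j)) (Nat.ble (nat_lit 473) j)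
noncomputable def dM_104 (j z1 z2 u : ℕ) : Bool :=
  Bool.rec (motive := fun _ => Bool) (dM_102 j z1 z2 u) (dM_103 j z1 z2 u) (Nat.ble (nat_lit 469) j)
noncomputable def dM_105 (j z1 z2 u : ℕ) : Bool :=
  Bool.rec (motive := fun _ => Bool) (dM_101 j z1 z2 u) (dM_104 j z1 z2 u) (Nat.ble (nat_lit 461) j)
noncomputable def dM_106 (j z1 z2 u : ℕ) : Bool :=
  Bool.rec (motive := fun _ => Bool) (dM_98 j z1 z2 u) (dM_105 j z1 z2 u) (Nat.ble (nat_lit 445) j)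
noncomputable def dM_107 (j z1 z2 u : ℕ) : Bool :=
  Bool.rec (motive := fun _ => Bool) (dM_91 j z1 z2 u) (dM_106 j z1 z2 u) (Nat.ble (nat_lit 412) j)
noncomputable def dM_108 (j z1 z2 u : ℕ) : Bool :=
  Bool.rec (motive := fun _ => Bool) (dM_80 j z1 z2 u) (dM_107 j z1 z2 u) (Nat.ble (nat_lit 361) j)
noncomputable def dM_109 (j z1 z2 u : ℕ) : Bool :=
  Bool.rec (motive := fun _ => Bool) (dM_67 j z1 z2 u) (dM_108 j z1 z2 u) (Nat.ble (nat_lit 302) j)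
noncomputable def dM_110 (j z1 z2 u : ℕ) : Bool :=
  Bool.rec (motive := fun _ => Bool) (dM_52 j z1 z2 u) (dM_109 j z1 z2 u) (Nat.ble (nat_lit 226) j)
noncomputable def dM_111 (j z1 z2 u : ℕ) : Bool :=
  Bool.rec (motive := fun _ => Bool) (dM_33 j z1 z2 u) (dM_110 j z1 z2 u) (Nat.ble (nat_lit 139) j)
noncomputable def dM_112 (j z1 z2 u : ℕ) : Bool :=
  Bool.rec (motive := fun _ => Bool) (dM_20 j z1 z2 u) (dM_111 j z1 z2 u) (Nat.ble (nat_lit 77) j)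
noncomputable def dM_113 (j z1 z2 u : ℕ) : Bool :=
  Bool.rec (motive := fun _ => Bool) (dM_9 j z1 z2 u) (dM_112 j z1 z2 u) (Nat.ble (nat_lit 29) j)
noncomputable def dM_114 (j z1 z2 u : ℕ) : Bool :=
  Bool.rec (motive := fun _ => Bool) (dM_2 j z1 z2 u) (dM_113 j z1 z2 u) (Nat.ble (nat_lit 4) j)
noncomputable def dM_115 (j z1 z2 u : ℕ) : Bool :=
  Bool.rec (motive := fun _ => Bool) (dM_1 j z1 z2 u) (dM_114 j z1 z2 u) (Nat.ble (nat_lit 3) j)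
noncomputable def dM_116 (j z1 z2 u : ℕ) : Bool :=
  Bool.rec (motive := fun _ => Bool) (dM_0 j z1 z2 u) (dM_115 j z1 z2 u) (Nat.ble (nat_lit 2) j)
noncomputable def chkM (u : ℕ) : Bool :=
  Bool.rec (motive := fun _ => Bool) (band (Nat.ble (Nat.succ (Nat.mod (MG u) M)) u) (dM_116 (Nat.land (MR u) (nat_lit 511)) (Nat.land (Nat.shiftRight (MR u) (nat_lit 9)) (nat_lit 262143)) (Nat.shiftRight (MR u) (nat_lit 27)) u)) true (Nat.ble A (MG u))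
noncomputable def chkN (u : ℕ) : Bool :=
  band (chk_x (Nat.land (Nat.shiftRight (RS u) (nat_lit 0)) (nat_lit 63)) u) (band (chk_xi (Nat.land (Nat.shiftRight (RS u) (nat_lit 6)) (nat_lit 63)) u) (band (chk_y (Nat.land (Nat.shiftRight (RS u) (nat_lit 12)) (nat_lit 63)) u) (band (chk_yi (Nat.land (Nat.shiftRight (RS u) (nat_lit 18)) (nat_lit 63)) u) (chkM u))))
noncomputable def chkP (u : ℕ) : Bool := Bool.rec (motive := fun _ => Bool) (chkN u) true (Nat.ble M u)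
noncomputable def liveP (u : ℕ) : Bool := Bool.rec (motive := fun _ => Bool) (Nat.ble A (MG u)) false (Nat.ble M u)
end H9.HN.TCPB
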